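import Groth.Prelude.Def_AlgSt
import Groth.Prelude.Def_FibCat2

/-!
# Postcomposition functors on categories of based functors (helper98)

`post ℬ F : (ℬ ⥤ᵇ 𝒳) ⥤ (ℬ ⥤ᵇ 𝒴)` for `F : 𝒳 ⥤ᵇ 𝒴`, its compatibility `sq` with `Stk.restr`,
`post_isEquivalence` (for `FibCat.IsEquivOver F`) and `restr_isEquivalence` (transport of
"restriction is an equivalence" along an equivalence over `C`).
-/

set_option autoImplicit false
open CategoryTheory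
universe v u v₂ u₂ v₃ u₃ v₄ u₄ v₅ u₅

namespace Groth.Agent.Lib.Helper98.StkPost

variable {C : Type u} [Category.{v} C]
variable {𝒜 : BasedCategory.{v₅, u₅} C} {ℬ : BasedCategory.{v₂, u₂} C}
  {𝒳 : BasedCategory.{v₃, u₃} C} {𝒴 : BasedCategory.{v₄, u₄} C}

/-- postcomposition with a based functor -/
def post (ℬ : BasedCategory.{v₂, u₂} C) (F : 𝒳 ⥤ᵇ 𝒴) : (ℬ ⥤ᵇ 𝒳) ⥤ (ℬ ⥤ᵇ 𝒴) where
  obj H := BasedFunctor.comp H F
  map α := BasedCategory.whiskerRight α F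
  map_id H := by
    apply BasedNatTrans.homCategory.ext
    ext a
    simp
    rfl
  map_comp α β := by
    apply BasedNatTrans.homCategory.ext
    ext a
    simp
    rfl

/-- the square of restriction and postcomposition commutes -/
def sq (ι : 𝒜 ⥤ᵇ ℬ) (F : 𝒳 ⥤ᵇ 𝒴) :
    Stk.restr ι 𝒳 ⋙ post 𝒜 F ≅ post ℬ F ⋙ Stk.restr ι 𝒴 :=
  NatIso.ofComponents (fun H => Iso.refl _) (by
    intro H H' α
    apply BasedNatTrans.homCategory.ext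
    ext a
    simp [post, Stk.restr]
    rfl)

theorem iso_app_hom_inv {F F' : 𝒳 ⥤ᵇ 𝒴} (e : F ≅ F') (x : 𝒳.obj) :
    e.hom.toNatTrans.app x ≫ e.inv.toNatTrans.app x = 𝟙 _ :=
  congrArg (fun t => t.toNatTrans.app x) e.hom_inv_id

theorem iso_app_inv_hom {F F' : 𝒳 ⥤ᵇ 𝒴} (e : F ≅ F') (x : 𝒳.obj) :
    e.inv.toNatTrans.app x ≫ e.hom.toNatTrans.app x = 𝟙 _ :=
  congrArg (fun t => t.toNatTrans.app x) e.inv_hom_id

/-- unit iso -/
def unitIso (ℬ : BasedCategory.{v₂, u₂} C) (F : 𝒳 ⥤ᵇ 𝒴) (G : 𝒴 ⥤ᵇ 𝒳)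
    (e₁ : BasedFunctor.comp F G ≅ BasedFunctor.id 𝒳) :
    𝟭 (ℬ ⥤ᵇ 𝒳) ≅ post ℬ F ⋙ post ℬ G :=
  NatIso.ofComponents
    (fun H => ⟨BasedCategory.whiskerLeft H e₁.inv, BasedCategory.whiskerLeft H e₁.hom, by
        apply BasedNatTrans.homCategory.ext
        ext a
        exact iso_app_inv_hom e₁ (H.obj a), by
        apply BasedNatTrans.homCategory.ext
        ext a
        exact iso_app_hom_inv e₁ (H.obj a)⟩)
    (by
      intro H H' α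
      apply BasedNatTrans.homCategory.ext
      ext a
      exact e₁.inv.toNatTrans.naturality (α.toNatTrans.app a))

/-- postcomposition with an equivalence over `C` is an equivalence -/
noncomputable def postEquiv (ℬ : BasedCategory.{v₂, u₂} C) (F : 𝒳 ⥤ᵇ 𝒴) (G : 𝒴 ⥤ᵇ 𝒳)
    (e₁ : BasedFunctor.comp F G ≅ BasedFunctor.id 𝒳)
    (e₂ : BasedFunctor.comp G F ≅ BasedFunctor.id 𝒴) : (ℬ ⥤ᵇ 𝒳) ≌ (ℬ ⥤ᵇ 𝒴) :=
  CategoryTheory.Equivalence.mk (post ℬ F) (post ℬ G) (unitIso ℬ F G e₁) (unitIso ℬ G F e₂).symm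

theorem post_isEquivalence (ℬ : BasedCategory.{v₂, u₂} C) (F : 𝒳 ⥤ᵇ 𝒴)
    (hF : FibCat.IsEquivOver F) : (post ℬ F).IsEquivalence := by
  obtain ⟨G, ⟨e₁⟩, ⟨e₂⟩⟩ := hF
  exact (inferInstance : (postEquiv ℬ F G e₁ e₂).functor.IsEquivalence)

theorem restr_isEquivalence (ι : 𝒜 ⥤ᵇ ℬ) (F : 𝒳 ⥤ᵇ 𝒴) (hF : FibCat.IsEquivOver F)
    (h : (Stk.restr ι 𝒳).IsEquivalence) : (Stk.restr ι 𝒴).IsEquivalence := by
  have := post_isEquivalence 𝒜 F hF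
  have := post_isEquivalence ℬ F hF
  have : (post ℬ F ⋙ Stk.restr ι 𝒴).IsEquivalence :=
    Functor.isEquivalence_of_iso (sq ι F)
  exact Functor.isEquivalence_of_comp_left (post ℬ F) (Stk.restr ι 𝒴)

/-- transport of full faithfulness of restriction along an equivalence over `C` -/
theorem restr_fullyFaithful (ι : 𝒜 ⥤ᵇ ℬ) (F : 𝒳 ⥤ᵇ 𝒴) (hF : FibCat.IsEquivOver F)
    (h : (Stk.restr ι 𝒳).Full ∧ (Stk.restr ι 𝒳).Faithful) :
    (Stk.restr ι 𝒴).Full ∧ (Stk.restr ι 𝒴).Faithful := by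
  obtain ⟨h1, h2⟩ := h
  have := post_isEquivalence 𝒜 F hF
  have := post_isEquivalence ℬ F hF
  have e : post ℬ F ⋙ Stk.restr ι 𝒴 ≅ Stk.restr ι 𝒳 ⋙ post 𝒜 F := (sq ι F).symm
  have hfull : (post ℬ F ⋙ Stk.restr ι 𝒴).Full := Functor.Full.of_iso e.symm
  have hfaith : (post ℬ F ⋙ Stk.restr ι 𝒴).Faithful := Functor.Faithful.of_iso e.symm
  -- `restr ι 𝒴 ≅ inv (post ℬ F) ⋙ (post ℬ F ⋙ restr ι 𝒴)`
  have e' : Stk.restr ι 𝒴 ≅ (post ℬ F).inv ⋙ (post ℬ F ⋙ Stk.restr ι 𝒴) :=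
    (Functor.leftUnitor _).symm ≪≫
      Functor.isoWhiskerRight ((post ℬ F).asEquivalence.counitIso).symm (Stk.restr ι 𝒴) ≪≫
      Functor.associator _ _ _
  exact ⟨Functor.Full.of_iso e'.symm, Functor.Faithful.of_iso e'.symm⟩

end Groth.Agent.Lib.Helper98.StkPost
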