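import Groth.Prelude.Def_DTen
import Groth.Prelude.Def_Koszul

/-!
# helper98: tensor products of cochain complexes of modules and mapping cones

* `isoCone`: recognition of mapping cones from cone-like structure cochains.
* `wr α L`: right whiskering of a cochain `α : Cochain K M n` by a complex `L`, with `δ_wr`, `wr_comp`, `wr_ofHom`, ...
* `coneTensorIso φ L : mappingCone φ ⊗ L ≅ mappingCone (φ ▷ L)`.
* `koszul_tensor_iso`: `K(f) ⊗ K(g) ≅ K(f ++ g)`.
-/

set_option autoImplicit false
universe u v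
open CategoryTheory CategoryTheory.Limits MonoidalCategory HomologicalComplex CochainComplex HomComplex

namespace Helper98.KoszulTensor

section Recognize

variable {C : Type u} [Category.{v} C] [Preadditive C] {F G Z : CochainComplex C ℤ} (φ : F ⟶ G)
  [HasHomotopyCofiber φ]
  (a : Cochain F Z (-1)) (b : G ⟶ Z) (c : Cocycle Z F 1) (d : Cochain Z G 0)
  (hac : a.comp c.1 (neg_add_cancel 1) = Cochain.ofHom (𝟙 F))
  (had : a.comp d (add_zero (-1)) = 0)
  (hbc : (Cochain.ofHom b).comp c.1 (zero_add 1) = 0)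
  (hbd : (Cochain.ofHom b).comp d (zero_add 0) = Cochain.ofHom (𝟙 G))
  (hid : c.1.comp a (add_neg_cancel 1) + d.comp (Cochain.ofHom b) (add_zero 0) = Cochain.ofHom (𝟙 Z))
  (hδa : δ (-1) 0 a = Cochain.ofHom (φ ≫ b))
  (hδd : δ 0 1 d = -c.1.comp (Cochain.ofHom φ) (add_zero 1))

include hac had hbc hbd hid in
/-- A complex with cone-like structure cochains is isomorphic to the mapping cone. -/
noncomputable def isoCone : Z ≅ mappingCone φ where
  hom := mappingCone.lift φ c d (by rw [hδd]; simp)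
  inv := mappingCone.desc φ a b hδa
  hom_inv_id := by
    ext n : 1
    rw [HomologicalComplex.comp_f, mappingCone.lift_desc_f _ _ _ _ _ _ _ n (n + 1) rfl]
    have := Cochain.congr_v hid n n (add_zero n)
    simpa [Cochain.comp_v _ _ (add_neg_cancel 1) n (n + 1) n rfl (by omega)] using this
  inv_hom_id := by
    ext n : 1
    rw [HomologicalComplex.comp_f]
    apply mappingCone.ext_from φ (n + 1) n rfl
    · rw [mappingCone.inl_v_desc_f_assoc]
      apply mappingCone.ext_to φ n (n + 1) rfl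
      · rw [Category.assoc, mappingCone.lift_f_fst_v]
        have := Cochain.congr_v hac (n + 1) (n + 1) (add_zero _)
        simpa [Cochain.comp_v _ _ (neg_add_cancel 1) (n + 1) n (n + 1) (by omega) rfl] using this
      · rw [Category.assoc, mappingCone.lift_f_snd_v]
        have := Cochain.congr_v had (n + 1) n (by omega)
        simpa using this
    · rw [mappingCone.inr_f_desc_f_assoc]
      apply mappingCone.ext_to φ n (n + 1) rfl
      · rw [Category.assoc, mappingCone.lift_f_fst_v]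
        have := Cochain.congr_v hbc n (n + 1) rfl
        simpa using this
      · rw [Category.assoc, mappingCone.lift_f_snd_v]
        have := Cochain.congr_v hbd n n (add_zero n)
        simpa using this

end Recognize


section Whisker

variable {A : Type u} [CommRing A]

/-- right-whiskering of a cochain by a complex -/
noncomputable def wr {K M : DRing.Cx A} {n : ℤ} (α : Cochain K M n) (L : DRing.Cx A) :
    Cochain (K ⊗ L) (M ⊗ L) n :=
  Cochain.mk (fun i j hij => mapBifunctorDesc (fun p q hpq =>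
    (α.v p (p + n) rfl ▷ L.X q) ≫ ιTensorObj M L (p + n) q j (by
      have : p + q = i := hpq
      omega)))

@[reassoc]
lemma ι_wr_v {K M : DRing.Cx A} {n : ℤ} (α : Cochain K M n) (L : DRing.Cx A)
    (p q i : ℤ) (h : p + q = i) (j : ℤ) (hij : i + n = j) (p' : ℤ) (hp : p + n = p') :
    ιTensorObj K L p q i h ≫ (wr α L).v i j hij =
      (α.v p p' hp ▷ L.X q) ≫ ιTensorObj M L p' q j (by omega) := by
  subst hp
  simp [wr]


lemma cochain_ext_from_tensor {K L M : DRing.Cx A} {n : ℤ} (β γ : Cochain (K ⊗ L) M n)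
    (h : ∀ (p q i : ℤ) (hpq : p + q = i) (j : ℤ) (hij : i + n = j),
      ιTensorObj K L p q i hpq ≫ β.v i j hij = ιTensorObj K L p q i hpq ≫ γ.v i j hij) : β = γ := by
  refine Cochain.ext _ _ (fun i j hij => ?_)
  apply mapBifunctor.hom_ext
  intro p q hpq
  exact h p q i hpq j hij

lemma wr_zero {K M : DRing.Cx A} (n : ℤ) (L : DRing.Cx A) : wr (0 : Cochain K M n) L = 0 := by
  apply cochain_ext_from_tensor
  intro p q i hpq j hij
  rw [ι_wr_v _ _ p q i hpq j hij (p + n) rfl]
  simp

lemma wr_add {K M : DRing.Cx A} {n : ℤ} (α β : Cochain K M n) (L : DRing.Cx A) :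
    wr (α + β) L = wr α L + wr β L := by
  apply cochain_ext_from_tensor
  intro p q i hpq j hij
  rw [ι_wr_v _ _ p q i hpq j hij (p + n) rfl]
  simp only [Cochain.add_v, Preadditive.comp_add]
  rw [ι_wr_v _ _ p q i hpq j hij (p + n) rfl, ι_wr_v _ _ p q i hpq j hij (p + n) rfl]
  simp

lemma wr_neg {K M : DRing.Cx A} {n : ℤ} (α : Cochain K M n) (L : DRing.Cx A) :
    wr (-α) L = - wr α L := by
  apply eq_neg_of_add_eq_zero_left
  rw [← wr_add, neg_add_cancel, wr_zero]

lemma wr_ofHom {K M : DRing.Cx A} (f : K ⟶ M) (L : DRing.Cx A) :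
    wr (Cochain.ofHom f) L = Cochain.ofHom (f ▷ L) := by
  apply cochain_ext_from_tensor
  intro p q i hpq j hij
  obtain rfl : i = j := by omega
  rw [ι_wr_v _ _ p q i hpq i hij p (add_zero p)]
  simp only [Cochain.ofHom_v]
  change _ = ιMapBifunctor K L (curriedTensor _) (ComplexShape.up ℤ) p q i hpq ≫ (mapBifunctorMap f (𝟙 L) _ _).f i
  rw [ι_mapBifunctorMap]
  simp

lemma wr_comp {K M N : DRing.Cx A} {n m nm : ℤ} (α : Cochain K M n) (β : Cochain M N m) (h : n + m = nm)
    (L : DRing.Cx A) :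
    wr (α.comp β h) L = (wr α L).comp (wr β L) h := by
  apply cochain_ext_from_tensor
  intro p q i hpq j hij
  rw [ι_wr_v _ _ p q i hpq j hij (p + nm) rfl]
  rw [Cochain.comp_v _ _ h i (i + n) j rfl (by omega)]
  rw [ι_wr_v_assoc _ _ p q i hpq (i + n) rfl (p + n) rfl]
  rw [ι_wr_v _ _ (p + n) q (i + n) (by omega) j (by omega) (p + nm) (by omega)]
  rw [Cochain.comp_v _ _ h p (p + n) (p + nm) rfl (by omega)]
  simp


lemma smul_id_whiskerRight (f : A) (K L : DRing.Cx A) :
    (f • 𝟙 K) ▷ L = f • 𝟙 (K ⊗ L) := by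
  ext i : 1
  apply mapBifunctor.hom_ext
  intro p q hpq
  change ιMapBifunctor K L (curriedTensor _) (ComplexShape.up ℤ) p q i hpq ≫ (mapBifunctorMap (f • 𝟙 K) (𝟙 L) _ _).f i = _
  rw [ι_mapBifunctorMap]
  simp only [HomologicalComplex.smul_f_apply, HomologicalComplex.id_f, curriedTensor_map_app, curriedTensor_obj_map,
    MonoidalLinear.smul_whiskerRight, id_whiskerRight, whiskerLeft_id, Linear.smul_comp,
    Linear.comp_smul]
  congr 1

lemma neg_whiskerRight' {X Y : ModuleCat.{u} A} (f : X ⟶ Y) (Z : ModuleCat.{u} A) :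
    (-f) ▷ Z = -(f ▷ Z) := by
  apply eq_neg_of_add_eq_zero_left
  rw [← MonoidalPreadditive.add_whiskerRight, neg_add_cancel, MonoidalPreadditive.zero_whiskerRight]

lemma units_smul_whiskerRight' {X Y : ModuleCat.{u} A} (e : ℤˣ) (f : X ⟶ Y) (Z : ModuleCat.{u} A) :
    (e • f) ▷ Z = e • (f ▷ Z) := by
  rcases Int.units_eq_one_or e with rfl | rfl
  · simp
  · simp [neg_whiskerRight']

@[reassoc]
lemma ι_tensor_d (K L : DRing.Cx A) (p q i : ℤ) (hpq : p + q = i) (i' : ℤ) (hi : i + 1 = i')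
    (p' : ℤ) (hp' : p + 1 = p') (q' : ℤ) (hq' : q + 1 = q') :
    ιTensorObj K L p q i hpq ≫ (K ⊗ L).d i i' =
      (K.d p p' ▷ L.X q) ≫ ιTensorObj K L p' q i' (by omega) +
      p.negOnePow • ((K.X p ◁ L.d q q') ≫ ιTensorObj K L p q' i' (by omega)) := by
  subst hp' hq'
  change ιMapBifunctor K L (curriedTensor _) (ComplexShape.up ℤ) p q i hpq ≫
    (mapBifunctor K L (curriedTensor _) (ComplexShape.up ℤ)).d i i' = _
  rw [mapBifunctor.d_eq, Preadditive.comp_add, mapBifunctor.ι_D₁, mapBifunctor.ι_D₂,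
    mapBifunctor.d₁_eq K L _ _ (show (ComplexShape.up ℤ).Rel p (p + 1) from rfl) q i' (by dsimp; omega),
    mapBifunctor.d₂_eq K L _ _ p (show (ComplexShape.up ℤ).Rel q (q + 1) from rfl) i' (by dsimp; omega)]
  simp

lemma δ_wr {K M : DRing.Cx A} {n : ℤ} (α : Cochain K M n) (L : DRing.Cx A) (m : ℤ) (hnm : n + 1 = m) :
    δ n m (wr α L) = wr (δ n m α) L := by
  apply cochain_ext_from_tensor
  intro p q i hpq j hij
  rw [ι_wr_v _ _ p q i hpq j hij (p + m) rfl]
  rw [δ_v n m hnm _ i j hij (i + n) (i + 1) (by omega) rfl]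
  rw [δ_v n m hnm _ p (p + m) rfl (p + n) (p + 1) (by omega) rfl]
  simp only [Preadditive.comp_add, Linear.comp_units_smul]
  rw [ι_wr_v_assoc _ _ p q i hpq (i + n) rfl (p + n) rfl]
  rw [ι_tensor_d M L (p + n) q (i + n) (by omega) j (by omega) (p + m) (by omega) (q + 1) rfl]
  rw [ι_tensor_d_assoc K L p q i hpq (i + 1) rfl (p + 1) rfl (q + 1) rfl]
  simp only [Preadditive.add_comp, Preadditive.comp_add, Category.assoc, Linear.units_smul_comp,
    Linear.comp_units_smul]
  rw [ι_wr_v _ _ (p + 1) q (i + 1) (by omega) j (by omega) (p + m) (by omega)]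
  rw [ι_wr_v _ _ p (q + 1) (i + 1) (by omega) j (by omega) (p + n) rfl]
  rw [← whisker_exchange_assoc]
  have hs : (p + n).negOnePow = - (m.negOnePow * p.negOnePow) := by
    subst hnm
    rw [Int.negOnePow_add, Int.negOnePow_add, Int.negOnePow_one]
    simp [mul_comm]
  rw [hs]
  simp only [MonoidalPreadditive.add_whiskerRight, comp_whiskerRight, Preadditive.add_comp, Category.assoc,
    smul_add, smul_smul, Units.neg_smul, units_smul_whiskerRight', Linear.units_smul_comp]
  abel


end Whisker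

section Main

variable {A : Type u} [CommRing A]

/-- `cone(φ) ⊗ L ≅ cone(φ ⊗ L)`. -/
noncomputable def coneTensorIso {F G : DRing.Cx A} (φ : F ⟶ G) (L : DRing.Cx A) :
    (mappingCone φ ⊗ L : DRing.Cx A) ≅ mappingCone (φ ▷ L) :=
  isoCone (φ ▷ L) (wr (mappingCone.inl φ) L) (mappingCone.inr φ ▷ L)
    (Cocycle.mk (wr (mappingCone.fst φ).1 L) 2 (by omega) (by
      rw [δ_wr _ _ _ (by omega), Cocycle.δ_eq_zero, wr_zero]))
    (wr (mappingCone.snd φ) L)
    (by
      change (wr (mappingCone.inl φ) L).comp (wr (mappingCone.fst φ).1 L) _ = _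
      rw [← wr_comp, mappingCone.inl_fst, wr_ofHom, id_whiskerRight])
    (by rw [← wr_comp, mappingCone.inl_snd, wr_zero])
    (by
      change (Cochain.ofHom (mappingCone.inr φ ▷ L)).comp (wr (mappingCone.fst φ).1 L) _ = _
      rw [← wr_ofHom, ← wr_comp, mappingCone.inr_fst, wr_zero])
    (by rw [← wr_ofHom, ← wr_comp, mappingCone.inr_snd, wr_ofHom, id_whiskerRight])
    (by
      change (wr (mappingCone.fst φ).1 L).comp (wr (mappingCone.inl φ) L) _ + _ = _
      rw [← wr_ofHom, ← wr_comp, ← wr_comp, ← wr_add, mappingCone.id, wr_ofHom, id_whiskerRight])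
    (by rw [δ_wr _ _ _ (by omega), mappingCone.δ_inl, wr_ofHom, comp_whiskerRight])
    (by
      change _ = -(wr (mappingCone.fst φ).1 L).comp _ _
      rw [δ_wr _ _ _ (by omega), mappingCone.δ_snd, wr_neg, wr_comp, wr_ofHom])

/-- The cone of `f • 𝟙` is functorial for isomorphisms. -/
noncomputable def coneSmulIso (f : A) {K K' : DRing.Cx A} (e : K ≅ K') :
    mappingCone (f • 𝟙 K) ≅ mappingCone (f • 𝟙 K') where
  hom := mappingCone.map _ _ e.hom e.hom (by simp)
  inv := mappingCone.map _ _ e.inv e.inv (by simp)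
  hom_inv_id := by
    rw [← mappingCone.map_comp]
    simp only [Iso.hom_inv_id]
    exact mappingCone.map_id _
  inv_hom_id := by
    rw [← mappingCone.map_comp]
    simp only [Iso.inv_hom_id]
    exact mappingCone.map_id _

/-- `cone(f • 𝟙 K) ⊗ L ≅ cone(f • 𝟙 (K ⊗ L))`. -/
noncomputable def coneSmulTensorIso (f : A) (K L : DRing.Cx A) :
    (mappingCone (f • 𝟙 K) ⊗ L : DRing.Cx A) ≅ mappingCone (f • 𝟙 (K ⊗ L)) :=
  coneTensorIso (f • 𝟙 K) L ≪≫ eqToIso (by rw [smul_id_whiskerRight])

theorem koszul_tensor_iso (f g : List A) :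
    Nonempty ((Koszul.koszul A f ⊗ Koszul.koszul A g : DRing.Cx A) ≅ Koszul.koszul A (f ++ g)) := by
  induction f with
  | nil =>
    exact ⟨λ_ (Koszul.koszul A g)⟩
  | cons a l ih =>
    obtain ⟨e⟩ := ih
    exact ⟨coneSmulTensorIso a (Koszul.koszul A l) (Koszul.koszul A g) ≪≫ coneSmulIso a e⟩

end Main

end Helper98.KoszulTensor
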