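import Mathlib.Algebra.Homology.HomotopyCategory.Pretriangulated
import Mathlib.Algebra.Homology.HomotopyCategory.MappingCocone
import Mathlib.Algebra.Category.ModuleCat.Abelian

/-!
# helper98: elementwise API for mapping cones of cochain complexes of modules
-/

set_option autoImplicit false
set_option linter.unusedSimpArgs false

namespace Groth.Agent.Lib.Helper98.ConeElem

open CategoryTheory CochainComplex HomComplex

universe u v
variable {A : Type u} [Ring A]
variable {F G : CochainComplex (ModuleCat.{v} A) ℤ} (φ : F ⟶ G)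

noncomputable def cfst (p q : ℤ) (h : p + 1 = q) : (mappingCone φ).X p →ₗ[A] F.X q :=
  ((mappingCone.fst φ).1.v p q h).hom

noncomputable def csnd (p : ℤ) : (mappingCone φ).X p →ₗ[A] G.X p :=
  ((mappingCone.snd φ).v p p (add_zero p)).hom

noncomputable def cinl (p q : ℤ) (h : p + 1 = q) : F.X q →ₗ[A] (mappingCone φ).X p :=
  ((mappingCone.inl φ).v q p (by omega)).hom

noncomputable def cinr (p : ℤ) : G.X p →ₗ[A] (mappingCone φ).X p :=
  ((mappingCone.inr φ).f p).hom

lemma cfst_cinl (p q : ℤ) (h : p + 1 = q) (x : F.X q) : cfst φ p q h (cinl φ p q h x) = x := by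
  have := congrArg (fun m => m.hom x) (mappingCone.inl_v_fst_v φ q p h)
  simp only [ModuleCat.hom_comp, LinearMap.comp_apply, ModuleCat.hom_id, LinearMap.id_coe, id_eq,
    ModuleCat.hom_zero, LinearMap.zero_apply] at this
  exact this

lemma csnd_cinl (p q : ℤ) (h : p + 1 = q) (x : F.X q) : csnd φ p (cinl φ p q h x) = 0 := by
  have := congrArg (fun m => m.hom x) (mappingCone.inl_v_snd_v φ q p (by omega))
  simp only [ModuleCat.hom_comp, LinearMap.comp_apply, ModuleCat.hom_id, LinearMap.id_coe, id_eq,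
    ModuleCat.hom_zero, LinearMap.zero_apply] at this
  exact this

lemma cfst_cinr (p q : ℤ) (h : p + 1 = q) (x : G.X p) : cfst φ p q h (cinr φ p x) = 0 := by
  have := congrArg (fun m => m.hom x) (mappingCone.inr_f_fst_v φ p q h)
  simp only [ModuleCat.hom_comp, LinearMap.comp_apply, ModuleCat.hom_id, LinearMap.id_coe, id_eq,
    ModuleCat.hom_zero, LinearMap.zero_apply] at this
  exact this

lemma csnd_cinr (p : ℤ) (x : G.X p) : csnd φ p (cinr φ p x) = x := by
  have := congrArg (fun m => m.hom x) (mappingCone.inr_f_snd_v φ p)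
  simp only [ModuleCat.hom_comp, LinearMap.comp_apply, ModuleCat.hom_id, LinearMap.id_coe, id_eq,
    ModuleCat.hom_zero, LinearMap.zero_apply] at this
  exact this

lemma decomp (p q : ℤ) (h : p + 1 = q) (x : (mappingCone φ).X p) :
    cinl φ p q h (cfst φ p q h x) + cinr φ p (csnd φ p x) = x := by
  have := congrArg (fun m => m.hom x) (mappingCone.id_X φ p q h)
  simpa [cfst, csnd, cinl, cinr] using this

lemma cone_ext (p q : ℤ) (h : p + 1 = q) {x y : (mappingCone φ).X p}
    (h1 : cfst φ p q h x = cfst φ p q h y) (h2 : csnd φ p x = csnd φ p y) : x = y := by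
  rw [← decomp φ p q h x, ← decomp φ p q h y, h1, h2]

lemma cfst_d (p q r : ℤ) (hpq : p + 1 = q) (hqr : q + 1 = r) (x : (mappingCone φ).X p) :
    cfst φ q r hqr (((mappingCone φ).d p q).hom x) = -(F.d q r).hom (cfst φ p q hpq x) := by
  have := congrArg (fun m => m.hom x) (mappingCone.d_fst_v φ p q r hpq hqr)
  simpa [cfst] using this

lemma csnd_d (p q : ℤ) (hpq : p + 1 = q) (x : (mappingCone φ).X p) :
    csnd φ q (((mappingCone φ).d p q).hom x) =
      (φ.f q).hom (cfst φ p q hpq x) + (G.d p q).hom (csnd φ p x) := by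
  have := congrArg (fun m => m.hom x) (mappingCone.d_snd_v φ p q hpq)
  simpa [cfst, csnd] using this

section map
variable {F₂ G₂ : CochainComplex (ModuleCat.{v} A) ℤ} (φ₂ : F₂ ⟶ G₂) (a : F ⟶ F₂) (b : G ⟶ G₂)
  (comm : φ ≫ b = a ≫ φ₂)

lemma map_f_eq (p q : ℤ) (h : p + 1 = q) (x : (mappingCone φ).X p) :
    ((mappingCone.map φ φ₂ a b comm).f p).hom x =
      cinl φ₂ p q h ((a.f q).hom (cfst φ p q h x)) + cinr φ₂ p ((b.f p).hom (csnd φ p x)) := by
  have := congrArg (fun m => m.hom x) (mappingCone.desc_f φ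
    ((Cochain.ofHom a).comp (mappingCone.inl φ₂) (zero_add _)) (b ≫ mappingCone.inr φ₂)
    (by simp [reassoc_of% comm]) p q h)
  simpa [cfst, csnd, cinl, cinr, mappingCone.map] using this

lemma cfst_map (p q : ℤ) (h : p + 1 = q) (x : (mappingCone φ).X p) :
    cfst φ₂ p q h (((mappingCone.map φ φ₂ a b comm).f p).hom x) = (a.f q).hom (cfst φ p q h x) := by
  rw [map_f_eq φ φ₂ a b comm p q h, map_add, cfst_cinl, cfst_cinr, add_zero]

lemma csnd_map (p : ℤ) (x : (mappingCone φ).X p) :
    csnd φ₂ p (((mappingCone.map φ φ₂ a b comm).f p).hom x) = (b.f p).hom (csnd φ p x) := by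
  rw [map_f_eq φ φ₂ a b comm p (p + 1) rfl, map_add, csnd_cinl, csnd_cinr, zero_add]

end map

/-- the differential of the cocone -/
lemma cocone_d (b b' : ℤ) (x : (mappingCocone φ).X b) :
    ((mappingCocone φ).d b b').hom x = -((mappingCone φ).d (b + -1) (b' + -1)).hom x := by
  change (((-1 : ℤ).negOnePow • (mappingCone φ).d (b + -1) (b' + -1))).hom x = _
  rw [Int.negOnePow_neg, Int.negOnePow_one]
  simp only [Units.neg_smul, one_smul, ModuleCat.hom_neg, LinearMap.neg_apply]

end Groth.Agent.Lib.Helper98.ConeElem
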