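import Groth.Agent.Lib.Helper98.KoszulTensor
import Mathlib.Algebra.Homology.ShortComplex.Linear
import Mathlib.Algebra.Homology.ShortComplex.ModuleCat

/-!
# helper98: homology of Koszul complexes via the cone long exact sequence

* `koszul_append_singleton_iso l g : Nonempty (K(l ++ [g]) ≅ cone(g • 𝟙 K(l)))`
* `homologyMap_smul'`
* `isZero_cone_homology`, `cone_homology_zero_iso`: consequences of the LES of `cone(g • 𝟙 K)`
* `koszul_of_weaklyRegular`: weakly regular ⇒ Koszul-regular, `H⁰ ≅ A/(l)`.
-/

set_option autoImplicit false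
universe u
open CategoryTheory CategoryTheory.Limits MonoidalCategory HomologicalComplex CochainComplex HomComplex
open Koszul

namespace Helper98.KoszulLES

variable {A : Type u} [CommRing A]

attribute [local instance] HasDerivedCategory.standard

/-- `K(l ++ [g]) ≅ cone(g • 𝟙 K(l))`. -/
theorem koszul_append_singleton_iso (l : List A) (g : A) :
    Nonempty (Koszul.koszul A (l ++ [g]) ≅ mappingCone (g • 𝟙 (Koszul.koszul A l))) := by
  obtain ⟨e⟩ := Helper98.KoszulTensor.koszul_tensor_iso l [g]
  refine ⟨e.symm ≪≫ DTen.braidCx _ _ ≪≫ ?_⟩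
  change (mappingCone (g • 𝟙 (Koszul.koszul A [])) ⊗ Koszul.koszul A l : DRing.Cx A) ≅ _
  exact Helper98.KoszulTensor.coneSmulTensorIso g (Koszul.koszul A []) (Koszul.koszul A l) ≪≫
    Helper98.KoszulTensor.coneSmulIso g (λ_ (Koszul.koszul A l))

lemma homologyMap_smul' {K L : DRing.Cx A} (g : A) (φ : K ⟶ L) (i : ℤ) :
    homologyMap (g • φ) i = g • homologyMap φ i := by
  exact (ShortComplex.homologyMap_smul ((shortComplexFunctor (ModuleCat A) (ComplexShape.up ℤ) i).map φ) g)


section LES

variable (K : DRing.Cx A) (g : A)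

lemma cone_dist : DerivedCategory.Q.mapTriangle.obj (mappingCone.triangle (g • 𝟙 K)) ∈ distTriang _ :=
  DerivedCategory.mappingCone_triangle_distinguished _

lemma isZero_cone_homology (i j : ℤ) (hij : i + 1 = j) (h1 : IsZero (K.homology i))
    (h2 : Mono (g • 𝟙 (K.homology j))) : IsZero ((mappingCone (g • 𝟙 K)).homology i) := by
  have e3 := CochainComplex.homologyMap_exact₃_of_distTriang _ (cone_dist K g) i j hij
  have e1 := CochainComplex.homologyMap_exact₁_of_distTriang _ (cone_dist K g) i j hij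
  have hδ : homologyδOfTriangle (mappingCone.triangle (g • 𝟙 K)) i j hij = 0 := by
    have hz := CochainComplex.homologyδOfTriangle_homologyMap _ (cone_dist K g) i j hij
    change _ ≫ homologyMap (g • 𝟙 K) j = 0 at hz
    rw [homologyMap_smul', homologyMap_id] at hz
    exact (cancel_mono (g • 𝟙 (K.homology j))).1 (hz.trans zero_comp.symm)
  exact e3.isZero_of_both_zeros (h1.eq_of_src _ _) hδ

lemma cone_homology_zero_iso (I : Ideal A) (e : K.homology 0 ≅ ModuleCat.of A (A ⧸ I))
    (h1 : IsZero (K.homology 1)) :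
    Nonempty ((mappingCone (g • 𝟙 K)).homology 0 ≅ ModuleCat.of A (A ⧸ (I ⊔ Ideal.span {g}))) := by
  have e2 := CochainComplex.homologyMap_exact₂_of_distTriang _ (cone_dist K g) 0
  have e3 := CochainComplex.homologyMap_exact₃_of_distTriang _ (cone_dist K g) 0 1 rfl
  have hepi : Epi (homologyMap (mappingCone.inr (g • 𝟙 K)) 0) := e3.epi_f (h1.eq_of_tgt _ _)
  have hsurj : Function.Surjective (homologyMap (mappingCone.inr (g • 𝟙 K)) 0).hom :=
    (ModuleCat.epi_iff_surjective _).1 hepi
  have hker : ∀ x : K.homology 0, (homologyMap (mappingCone.inr (g • 𝟙 K)) 0).hom x = 0 ↔ ∃ y : K.homology 0, g • y = x := by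
    intro x
    rw [ShortComplex.moduleCat_exact_iff] at e2
    constructor
    · intro hx
      obtain ⟨y, hy⟩ := e2 x hx
      refine ⟨y, ?_⟩
      change (homologyMap (g • 𝟙 K) 0).hom y = x at hy
      rw [homologyMap_smul', homologyMap_id] at hy
      exact hy
    · rintro ⟨y, rfl⟩
      have := e2
      have hz := CochainComplex.homologyMap_comp_eq_zero_of_distTriang _ (cone_dist K g) 0
      change homologyMap (g • 𝟙 K) 0 ≫ homologyMap (mappingCone.inr (g • 𝟙 K)) 0 = 0 at hz
      rw [homologyMap_smul', homologyMap_id] at hz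
      have := congrArg (fun f => f.hom y) hz
      simpa using this
  let Φ : A →ₗ[A] (mappingCone (g • 𝟙 K)).homology 0 :=
    (homologyMap (mappingCone.inr (g • 𝟙 K)) 0).hom ∘ₗ e.inv.hom ∘ₗ (Submodule.mkQ I)
  have hΦs : Function.Surjective Φ := by
    intro z
    obtain ⟨x, rfl⟩ := hsurj z
    obtain ⟨a, ha⟩ := Submodule.mkQ_surjective I (e.hom.hom x)
    refine ⟨a, ?_⟩
    simp only [Φ, LinearMap.comp_apply, ha]
    congr 1
    exact congrArg (fun f => f.hom x) e.hom_inv_id
  have hΦk : LinearMap.ker Φ = I ⊔ Ideal.span {g} := by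
    ext a
    rw [LinearMap.mem_ker]
    simp only [Φ, LinearMap.comp_apply]
    rw [hker]
    constructor
    · rintro ⟨y, hy⟩
      obtain ⟨b, hb⟩ := Submodule.mkQ_surjective I (e.hom.hom y)
      have h3 : Submodule.mkQ I (g * b) = Submodule.mkQ I a := by
        have : e.hom.hom (g • y) = Submodule.mkQ I a := by
          rw [hy]
          exact congrArg (fun f => f.hom (Submodule.mkQ I a)) e.inv_hom_id
        rw [← this, map_smul, ← hb, ← map_smul, smul_eq_mul]
      have h4 : g * b - a ∈ I := by
        rw [← Submodule.Quotient.mk_eq_zero, Submodule.Quotient.mk_sub]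
        exact sub_eq_zero.2 h3
      have : a = -(g * b - a) + g * b := by ring
      rw [this]
      exact Submodule.add_mem_sup (I.neg_mem h4) (Ideal.mul_mem_right _ _ (Ideal.mem_span_singleton_self g))
    · intro ha
      obtain ⟨x, hx, y, hy, rfl⟩ := Submodule.mem_sup.1 ha
      obtain ⟨b, rfl⟩ := Ideal.mem_span_singleton'.1 hy
      refine ⟨e.inv.hom (Submodule.mkQ I b), ?_⟩
      rw [← map_smul, ← map_smul, smul_eq_mul]
      congr 1
      have hx' : Submodule.mkQ I x = 0 := (Submodule.Quotient.mk_eq_zero I).2 hx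
      rw [map_add, hx', zero_add, mul_comm]
  exact ⟨(LinearEquiv.toModuleIso ((Submodule.quotEquivOfEq _ _ hΦk).symm ≪≫ₗ
    Φ.quotKerEquivOfSurjective hΦs)).symm⟩

end LES


lemma mono_smul_of_iso {H : ModuleCat.{u} A} (I : Ideal A) (e : H ≅ ModuleCat.of A (A ⧸ I)) (g : A)
    (hg : IsSMulRegular (A ⧸ I) g) : Mono (g • 𝟙 H) := by
  rw [ModuleCat.mono_iff_injective]
  intro x y hxy
  change g • x = g • y at hxy
  have h2 : g • e.hom.hom x = g • e.hom.hom y := by
    rw [← map_smul, ← map_smul, hxy]
  have h3 := hg h2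
  have hx : e.inv.hom (e.hom.hom x) = x := congrArg (fun f => f.hom x) e.hom_inv_id
  have hy : e.inv.hom (e.hom.hom y) = y := congrArg (fun f => f.hom y) e.hom_inv_id
  rw [← hx, ← hy, h3]

theorem koszul_of_weaklyRegular (l : List A) (hl : RingTheory.Sequence.IsWeaklyRegular A l) :
    (∀ i : ℤ, i ≠ 0 → IsZero ((Koszul.koszul A l).homology i)) ∧
      Nonempty ((Koszul.koszul A l).homology 0 ≅ ModuleCat.of A (A ⧸ Ideal.ofList l)) := by
  induction l using List.reverseRecOn with
  | nil =>
    constructor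
    · intro i hi
      exact HomologicalComplex.isZero_single_obj_homology _ _ _ _ hi
    · refine ⟨HomologicalComplex.singleObjHomologySelfIso _ _ _ ≪≫ LinearEquiv.toModuleIso ?_⟩
      exact (Submodule.quotEquivOfEqBot _ Ideal.ofList_nil).symm
  | append_singleton l g ih =>
    rw [RingTheory.Sequence.isWeaklyRegular_append_iff, RingTheory.Sequence.isWeaklyRegular_singleton_iff] at hl
    obtain ⟨hl1, hg⟩ := hl
    obtain ⟨hz, ⟨e⟩⟩ := ih hl1
    have hg' : IsSMulRegular (A ⧸ Ideal.ofList l) g := by
      have h : (Ideal.ofList l • ⊤ : Submodule A A) = Ideal.ofList l := by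
        rw [smul_eq_mul, Ideal.mul_top]
      rw [h] at hg
      exact hg
    obtain ⟨c⟩ := koszul_append_singleton_iso l g
    have hmono := mono_smul_of_iso _ e g hg'
    constructor
    · intro i hi
      refine IsZero.of_iso ?_ ((HomologicalComplex.homologyFunctor _ _ i).mapIso c)
      by_cases h1 : i = -1
      · subst h1
        exact isZero_cone_homology _ g (-1) 0 (by norm_num) (hz _ (by norm_num)) hmono
      · have h2 : IsZero ((Koszul.koszul A l).homology (i + 1)) := hz _ (by omega)
        exact isZero_cone_homology _ g i (i + 1) rfl (hz _ hi)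
          ⟨fun _ _ _ => h2.eq_of_tgt _ _⟩
    · obtain ⟨c2⟩ := cone_homology_zero_iso (Koszul.koszul A l) g _ e (hz 1 one_ne_zero)
      refine ⟨(HomologicalComplex.homologyFunctor _ _ 0).mapIso c ≪≫ c2 ≪≫ LinearEquiv.toModuleIso ?_⟩
      refine Submodule.quotEquivOfEq _ _ ?_
      rw [Ideal.ofList_append, Ideal.ofList_singleton]

end Helper98.KoszulLES
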