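import Groth.Agent.Lib.Helper98.CechRestrict
import Mathlib.RingTheory.Flat.CategoryTheory
import Mathlib.RingTheory.Localization.BaseChange
import Mathlib.RingTheory.Flat.FaithfullyFlat.Basic

/-!
# helper98: local cohomology and flat base change, via extended Čech complexes

* `locCompat_tensorRight`, `cechH_tensor` : `H^q(Č(M ⊗ P)) ≅ H^q(Č(M)) ⊗ P` for flat `P`
* `lc_tensor_flat` : `H^i_I(M ⊗ P) ≃ₗ H^i_I(M) ⊗ P` (Noetherian, `P` flat)
* `lc_baseChange` : `H^i_{IB}(B ⊗_A M) ≃+ H^i_I(M) ⊗_A B` for a flat Noetherian `A`-algebra `B`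
-/

set_option autoImplicit false
universe u
open CategoryTheory CategoryTheory.Limits MonoidalCategory TensorProduct

namespace Helper98.CechFlat

attribute [local instance] HasDerivedCategory.standard

variable {A : Type u} [CommRing A] (P : Type u) [AddCommGroup P] [Module A P]

lemma locCompat_tensorRight (f : A) :
    Helper98.CechBC.LocCompat (tensorRight (ModuleCat.of A P)) f f := by
  intro X
  have h : IsLocalizedModule (Submonoid.powers f) (AlgebraTensorModule.rTensor A P
      (LocalizedModule.mkLinearMap (Submonoid.powers f) X)) := inferInstance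
  exact h

variable [Module.Flat A P]

instance : (tensorRight (ModuleCat.of A P)).PreservesHomology := by
  have : PreservesFiniteColimits (tensorRight (ModuleCat.of A P)) :=
    preservesFiniteColimits_of_natIso (BraidedCategory.tensorLeftIsoTensorRight (ModuleCat.of A P))
  infer_instance

theorem cechH_tensor (fs : List A) (M : ModuleCat.{u} A) (q : ℤ) :
    Nonempty ((DerCA.extCech (M ⊗ ModuleCat.of A P) fs).homology q ≅
      (DerCA.extCech M fs).homology q ⊗ ModuleCat.of A P) := by
  have h := Helper98.CechBC.cechH_functor (tensorRight (ModuleCat.of A P))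
    (fs.map fun f => (f, f))
    (by
      intro p hp
      obtain ⟨f, _, rfl⟩ := List.mem_map.mp hp
      exact locCompat_tensorRight P f) M q
  have h1 : (fs.map fun f => (f, f)).map Prod.fst = fs := by
    simp [List.map_map, Function.comp_def]
  have h2 : (fs.map fun f => (f, f)).map Prod.snd = fs := by
    simp [List.map_map, Function.comp_def]
  rw [h1, h2] at h
  exact h

variable [IsNoetherianRing A]

theorem lc_tensor_flat (fs : List A) (M : ModuleCat.{u} A) (i : ℕ) :
    Nonempty ((localCohomology (Ideal.span {x | x ∈ fs}) i).obj (M ⊗ ModuleCat.of A P) ≅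
      (localCohomology (Ideal.span {x | x ∈ fs}) i).obj M ⊗ ModuleCat.of A P) := by
  obtain ⟨e₁⟩ := Helper98.CechLC.main fs i (M ⊗ ModuleCat.of A P)
  obtain ⟨e₂⟩ := Helper98.CechLC.main fs i M
  obtain ⟨e₃⟩ := cechH_tensor P fs M (i : ℤ)
  exact ⟨e₁.toModuleIso.symm ≪≫ e₃ ≪≫ (tensorRight (ModuleCat.of A P)).mapIso e₂.toModuleIso⟩


omit [Module.Flat A P] [IsNoetherianRing A] in
/-- swap of tensor factors on local cohomology -/
theorem lc_comm (I : Ideal A) (M : Type u) [AddCommGroup M] [Module A M] (i : ℕ) :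
    Nonempty ((localCohomology I i).obj (ModuleCat.of A (P ⊗[A] M)) ≅
      (localCohomology I i).obj (ModuleCat.of A M ⊗ ModuleCat.of A P)) :=
  ⟨(localCohomology I i).mapIso (TensorProduct.comm A P M).toModuleIso⟩

/-- flat base change for local cohomology (additive form) -/
theorem lc_baseChange (B : Type u) [CommRing B] [IsNoetherianRing B] [Algebra A B] [Module.Flat A B]
    (I : Ideal A) (M : Type u) [AddCommGroup M] [Module A M] (i : ℕ) :
    Nonempty (LocCoh.H (I.map (algebraMap A B)) i (B ⊗[A] M) ≃+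
      ((localCohomology I i).obj (ModuleCat.of A M) ⊗ ModuleCat.of A B : ModuleCat.{u} A)) := by
  obtain ⟨φ, _⟩ := Helper98.CechRestrict.lc_restrict (R' := B) I (B ⊗[A] M) i
  obtain ⟨fs, rfl⟩ := Helper98.CechRestrict.exists_list_span I
  obtain ⟨e₁⟩ := lc_comm B (Ideal.span {x | x ∈ fs}) M i
  obtain ⟨e₂⟩ := lc_tensor_flat B fs (ModuleCat.of A M) i
  exact ⟨φ.trans ((e₁ ≪≫ e₂).toLinearEquiv.toAddEquiv)⟩

end Helper98.CechFlat
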