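import Groth.Agent.Lib.Helper98.CechFun
import Groth.Agent.S17778
import Groth.Agent.Lib.Helper92.LocCohLES2
import Groth.Agent.Lib.Helper92.LocCohH0

/-!
# helper98: extended Čech cohomology = local cohomology over a Noetherian ring (dimension shifting)

* `cokerIso`, `ses M` (injective hull SES), `ses_dse`, `cech_injective_zero`
* `e0 fs M : H⁰(Č(M)) ≃ₗ H⁰_I(M)` with `γ_e0`, `e0_naturality`
* `step`, `main fs i M : Nonempty (H^i(extCech M fs) ≃ₗ (localCohomology (span fs) i).obj M)`.
-/

set_option autoImplicit false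
universe u
open CategoryTheory CategoryTheory.Limits Opposite
attribute [local instance] HasDerivedCategory.standard

namespace Helper98.CechLC


open Helper98.CechFun Helper98.KoszulFun Groth.Agent.Lib.Helper92.LC

variable {R : Type u} [CommRing R]

lemma cokerIso {X₃ Y X₃' Y' : Type u} [AddCommGroup X₃] [Module R X₃] [AddCommGroup Y] [Module R Y]
    [AddCommGroup X₃'] [Module R X₃'] [AddCommGroup Y'] [Module R Y']
    (d : X₃ →ₗ[R] Y) (d' : X₃' →ₗ[R] Y') (hd : Function.Surjective d) (hd' : Function.Surjective d')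
    (e₃ : X₃ ≃ₗ[R] X₃') (hker : ∀ z, d z = 0 ↔ d' (e₃ z) = 0) : Nonempty (Y ≃ₗ[R] Y') := by
  have hmap : (LinearMap.ker d).map (e₃ : X₃ →ₗ[R] X₃') = LinearMap.ker d' := by
    ext z'
    constructor
    · rintro ⟨z, hz, rfl⟩
      exact (hker z).1 hz
    · intro hz'
      refine ⟨e₃.symm z', ?_, by simp⟩
      apply (hker _).2
      simpa using hz'
  exact ⟨(LinearMap.quotKerEquivOfSurjective d hd).symm.trans
    ((Submodule.Quotient.equiv _ _ e₃ hmap).trans (LinearMap.quotKerEquivOfSurjective d' hd'))⟩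

/-- the injective-hull short exact sequence -/
noncomputable abbrev ses (M : ModuleCat.{u} R) : ShortComplex (ModuleCat.{u} R) :=
  ShortComplex.mk (Injective.ι M) (cokernel.π (Injective.ι M)) (cokernel.condition _)

lemma ses_shortExact (M : ModuleCat.{u} R) : (ses M).ShortExact where
  exact := ShortComplex.exact_cokernel _
  mono_f := (inferInstance : Mono (Injective.ι M))
  epi_g := (inferInstance : Epi (cokernel.π (Injective.ι M)))

lemma ses_dse (S : ShortComplex (ModuleCat.{u} R)) (hS : S.ShortExact) (fs : List R) :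
    DSE (cechMap S.f fs) (cechMap S.g fs) := by
  apply dse_cechMap
  · exact (ModuleCat.mono_iff_injective _).1 hS.mono_f
  · exact (ModuleCat.epi_iff_surjective _).1 hS.epi_g
  · intro x
    have hex := hS.exact
    rw [ShortComplex.moduleCat_exact_iff] at hex
    refine ⟨fun hx => hex x hx, ?_⟩
    rintro ⟨y, rfl⟩
    exact congrArg (fun t => t.hom y) S.zero

variable [IsNoetherianRing R]

lemma cech_injective_zero (E : ModuleCat.{u} R) [Injective E] (fs : List R) (q : ℤ) (hq : 1 ≤ q) :
    IsZero ((DerCA.extCech E fs).homology q) := by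
  have hE : Injective (ModuleCat.of R E) := (inferInstance : Injective E)
  have : Module.Injective R E := Module.injective_module_of_injective_object R E
  exact Groth.Agent.S17778.main E fs q hq

omit [IsNoetherianRing R] in
/-- H⁰ comparison -/
noncomputable def e0 (fs : List R) (M : ModuleCat.{u} R) :
    (DerCA.extCech M fs).homology 0 ≃ₗ[R] (localCohomology (Ideal.span {x | x ∈ fs}) 0).obj M :=
  ((LinearEquiv.ofInjective (iotaHom M fs).hom (iotaHom_spec M fs).1).trans
    (LinearEquiv.ofEq _ _ ((iotaHom_spec M fs).2.trans (Groth.Agent.S17776.T_eq fs M)))).trans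
    (γEquiv (Ideal.span {x | x ∈ fs}) M).symm

omit [IsNoetherianRing R] in
lemma γ_e0 (fs : List R) (M : ModuleCat.{u} R) (x : (DerCA.extCech M fs).homology 0) :
    γ (Ideal.span {x | x ∈ fs}) (e0 fs M x) = (iotaHom M fs).hom x := by
  have h : ∀ y : DRing.torsionSub (Ideal.span {x | x ∈ fs}) M,
      γ (Ideal.span {x | x ∈ fs}) ((γEquiv (Ideal.span {x | x ∈ fs}) M).symm y) = y.1 := by
    intro y
    have := (γEquiv (Ideal.span {x | x ∈ fs}) M).apply_symm_apply y
    exact congrArg Subtype.val this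
  unfold e0
  rw [LinearEquiv.trans_apply, h]
  rfl

omit [IsNoetherianRing R] in
lemma e0_naturality (fs : List R) {M N : ModuleCat.{u} R} (φ : M ⟶ N)
    (x : (DerCA.extCech M fs).homology 0) :
    e0 fs N ((HomologicalComplex.homologyMap (cechMap φ fs) 0).hom x) =
      Hmap (Ideal.span {x | x ∈ fs}) 0 φ (e0 fs M x) := by
  apply γ_injective (Ideal.span {x | x ∈ fs})
  rw [γ_e0, γ_naturality, γ_e0]
  exact congrArg (fun t => t.hom x) (iotaHom_naturality φ fs)

theorem step (fs : List R) (S : ShortComplex (ModuleCat.{u} R)) (hS : S.ShortExact)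
    [Injective S.X₂] (i : ℕ)
    (ih : ∀ M : ModuleCat.{u} R, Nonempty ((DerCA.extCech M fs).homology (i : ℤ) ≃ₗ[R]
      (localCohomology (Ideal.span {x | x ∈ fs}) i).obj M)) :
    Nonempty ((DerCA.extCech S.X₁ fs).homology ((i : ℤ) + 1) ≃ₗ[R]
      (localCohomology (Ideal.span {x | x ∈ fs}) (i + 1)).obj S.X₁) := by
  have hC := shortExact_of_dse _ _ (ses_dse S hS fs)
  have hE1 : IsZero ((DerCA.extCech S.X₂ fs).homology ((i : ℤ) + 1)) :=
    cech_injective_zero S.X₂ fs _ (by omega)
  have c1 := hC.homology_exact₁ (i : ℤ) ((i : ℤ) + 1) rfl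
  have c3 := hC.homology_exact₃ (i : ℤ) ((i : ℤ) + 1) rfl
  have hepi : Epi (hC.δ (i : ℤ) ((i : ℤ) + 1) rfl) := c1.epi_f (hE1.eq_of_tgt _ _)
  let d : (DerCA.extCech S.X₃ fs).homology (i : ℤ) ⟶ (DerCA.extCech S.X₁ fs).homology ((i : ℤ) + 1) :=
    hC.δ (i : ℤ) ((i : ℤ) + 1) rfl
  have hsurj : Function.Surjective d.hom := (ModuleCat.epi_iff_surjective _).1 hepi
  rw [ShortComplex.moduleCat_exact_iff] at c3
  have c3' : ∀ z : (DerCA.extCech S.X₃ fs).homology (i : ℤ), d.hom z = 0 →
      ∃ y : (DerCA.extCech S.X₂ fs).homology (i : ℤ),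
        (HomologicalComplex.homologyMap (cechMap S.g fs) (i : ℤ)).hom y = z := c3
  have czero : ∀ y : (DerCA.extCech S.X₂ fs).homology (i : ℤ),
      d.hom ((HomologicalComplex.homologyMap (cechMap S.g fs) (i : ℤ)).hom y) = 0 := fun y =>
    congrArg (fun t => t.hom y) (hC.comp_δ (i : ℤ) ((i : ℤ) + 1) rfl)
  have hsub := subsingleton_of_injective (Ideal.span {x | x ∈ fs}) i S.X₂
  have hsurj' : Function.Surjective (δ (Ideal.span {x | x ∈ fs}) i hS) := by
    intro x
    exact exact₁ _ i hS x (Subsingleton.elim _ _)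
  cases i with
  | zero =>
    refine cokerIso d.hom (δ (Ideal.span {x | x ∈ fs}) 0 hS) hsurj hsurj' (e0 fs S.X₃) ?_
    intro z
    constructor
    · intro hz
      obtain ⟨y, hy⟩ := c3' z hz
      rw [← hy]
      erw [e0_naturality]
      exact δ_Hmap_g _ 0 hS _
    · intro hz
      obtain ⟨y', hy'⟩ := exact₃ _ 0 hS _ hz
      have : z = (HomologicalComplex.homologyMap (cechMap S.g fs) 0).hom
          ((e0 fs S.X₂).symm y') := by
        apply (e0 fs S.X₃).injective
        rw [e0_naturality, LinearEquiv.apply_symm_apply, hy']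
      rw [this]
      exact czero _
  | succ i =>
    have hE0 : IsZero ((DerCA.extCech S.X₂ fs).homology ((i + 1 : ℕ) : ℤ)) :=
      cech_injective_zero S.X₂ fs _ (by push_cast; omega)
    have hsubE : Subsingleton ((DerCA.extCech S.X₂ fs).homology ((i + 1 : ℕ) : ℤ)) :=
      ModuleCat.subsingleton_of_isZero hE0
    have hdinj : Function.Injective d.hom := by
      rw [injective_iff_map_eq_zero]
      intro z hz
      obtain ⟨y, hy⟩ := c3' z hz
      rw [← hy, Subsingleton.elim y 0, map_zero]
    have hsub' := subsingleton_of_injective (Ideal.span {x | x ∈ fs}) i S.X₂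
    have hδinj : Function.Injective (δ (Ideal.span {x | x ∈ fs}) (i + 1) hS) := by
      rw [injective_iff_map_eq_zero]
      intro z hz
      obtain ⟨y, hy⟩ := exact₃ _ (i + 1) hS z hz
      rw [← hy, Subsingleton.elim y 0, map_zero]
    obtain ⟨e⟩ := ih S.X₃
    exact ⟨(LinearEquiv.ofBijective d.hom ⟨hdinj, hsurj⟩).symm.trans
      (e.trans (LinearEquiv.ofBijective _ ⟨hδinj, hsurj'⟩))⟩

theorem main (fs : List R) (i : ℕ) : ∀ M : ModuleCat.{u} R,
    Nonempty ((DerCA.extCech M fs).homology (i : ℤ) ≃ₗ[R]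
      (localCohomology (Ideal.span {x | x ∈ fs}) i).obj M) := by
  induction i with
  | zero => exact fun M => ⟨e0 fs M⟩
  | succ i ih =>
    intro M
    have : Injective (ses M).X₂ := (inferInstance : Injective (Injective.under M))
    have := step fs (ses M) (ses_shortExact M) i ih
    push_cast
    exact this


end Helper98.CechLC
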