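import Groth.Agent.Lib.Helper98.CechBC
import Groth.Agent.Lib.Helper98.CechLC
import Mathlib.Algebra.Category.ModuleCat.ChangeOfRings

/-!
# helper98: local cohomology and restriction of scalars (independence of the base), via extended Čech complexes
-/

set_option autoImplicit false
universe u
open CategoryTheory CategoryTheory.Limits

namespace Helper98.CechRestrict

attribute [local instance] HasDerivedCategory.standard

variable {R R' : Type u} [CommRing R] [CommRing R'] [Algebra R R']

lemma locCompat_restrictScalars (f : R) :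
    Helper98.CechBC.LocCompat (ModuleCat.restrictScalars.{u} (algebraMap R R')) (algebraMap R R' f) f := by
  intro X
  let F := ModuleCat.restrictScalars.{u} (algebraMap R R')
  let g : ↑(F.obj X) →ₗ[R'] ↑(F.obj ((DerCA.locFunctor (Submonoid.powers (algebraMap R R' f))).obj X)) :=
    ((DerCA.locUnit (Submonoid.powers (algebraMap R R' f))).app X).hom
  have i1 : IsScalarTower R R' ↑(F.obj X) := IsScalarTower.of_algebraMap_smul fun r x => rfl
  have i2 : IsScalarTower R R' ↑(F.obj ((DerCA.locFunctor (Submonoid.powers (algebraMap R R' f))).obj X)) :=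
    IsScalarTower.of_algebraMap_smul fun r x => rfl
  have i3 : IsLocalizedModule (Submonoid.powers (algebraMap R R' f)) g :=
    (inferInstance : IsLocalizedModule _ (LocalizedModule.mkLinearMap (Submonoid.powers (algebraMap R R' f)) X))
  exact IsLocalizedModule.restrictScalars_powers f g

/-- extended Čech cohomology is independent of the base ring -/
theorem cechH_restrictScalars (fs : List R) (N : ModuleCat.{u} R') (q : ℤ) :
    Nonempty ((DerCA.extCech ((ModuleCat.restrictScalars.{u} (algebraMap R R')).obj N) fs).homology q ≅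
      (ModuleCat.restrictScalars.{u} (algebraMap R R')).obj
        ((DerCA.extCech N (fs.map (algebraMap R R'))).homology q)) := by
  have h := Helper98.CechBC.cechH_functor (ModuleCat.restrictScalars.{u} (algebraMap R R'))
    (fs.map fun f => (algebraMap R R' f, f))
    (by
      intro p hp
      obtain ⟨f, _, rfl⟩ := List.mem_map.mp hp
      exact locCompat_restrictScalars f) N q
  have h1 : (fs.map fun f => (algebraMap R R' f, f)).map Prod.fst = fs.map (algebraMap R R') := by
    simp [List.map_map, Function.comp_def]
  have h2 : (fs.map fun f => (algebraMap R R' f, f)).map Prod.snd = fs := by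
    simp [List.map_map, Function.comp_def]
  rw [h1, h2] at h
  exact h

variable [IsNoetherianRing R] [IsNoetherianRing R']

/-- local cohomology is independent of the base ring -/
theorem lc_restrictScalars (fs : List R) (N : ModuleCat.{u} R') (i : ℕ) :
    ∃ φ : (localCohomology (Ideal.span {x | x ∈ fs.map (algebraMap R R')}) i).obj N ≃+
        (localCohomology (Ideal.span {x | x ∈ fs}) i).obj
          ((ModuleCat.restrictScalars.{u} (algebraMap R R')).obj N),
      ∀ (r : R) (x : (localCohomology (Ideal.span {x | x ∈ fs.map (algebraMap R R')}) i).obj N),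
        φ (algebraMap R R' r • x) = r • φ x := by
  obtain ⟨e₁⟩ := Helper98.CechLC.main (fs.map (algebraMap R R')) i N
  obtain ⟨e₂⟩ := Helper98.CechLC.main fs i ((ModuleCat.restrictScalars.{u} (algebraMap R R')).obj N)
  obtain ⟨e₃⟩ := cechH_restrictScalars fs N (i : ℤ)
  let b : (DerCA.extCech N (fs.map (algebraMap R R'))).homology (i : ℤ) ≃+
      ((ModuleCat.restrictScalars.{u} (algebraMap R R')).obj
        ((DerCA.extCech N (fs.map (algebraMap R R'))).homology (i : ℤ)) : ModuleCat.{u} R) :=
    AddEquiv.refl _
  refine ⟨(e₁.symm.toAddEquiv.trans b).trans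
    (e₃.symm.toLinearEquiv.toAddEquiv.trans e₂.toAddEquiv), ?_⟩
  intro r x
  change e₂ (e₃.symm.toLinearEquiv (b (e₁.symm (algebraMap R R' r • x)))) =
    r • e₂ (e₃.symm.toLinearEquiv (b (e₁.symm x)))
  rw [LinearEquiv.map_smul e₁.symm]
  have : b (algebraMap R R' r • e₁.symm x) = r • b (e₁.symm x) := rfl
  rw [this, LinearEquiv.map_smul, LinearEquiv.map_smul]


omit [IsNoetherianRing R'] in
lemma exists_list_span (I : Ideal R) : ∃ fs : List R, Ideal.span {x | x ∈ fs} = I := by
  obtain ⟨s, hs⟩ := (isNoetherianRing_iff_ideal_fg R).1 inferInstance I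
  refine ⟨s.toList, ?_⟩
  rw [← hs]
  congr 1
  ext x
  simp

omit [IsNoetherianRing R] [IsNoetherianRing R'] in
lemma map_span_list (fs : List R) :
    Ideal.map (algebraMap R R') (Ideal.span {x | x ∈ fs}) =
      Ideal.span {x | x ∈ fs.map (algebraMap R R')} := by
  rw [Ideal.map_span]
  congr 1
  ext x
  simp [List.mem_map]

/-- the `R`-linear identification of `M'` (given scalar tower) with its restriction of scalars -/
noncomputable def restrictEquiv (M' : Type u) [AddCommGroup M'] [Module R' M'] [Module R M'] [IsScalarTower R R' M'] :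
    ((ModuleCat.restrictScalars.{u} (algebraMap R R')).obj (ModuleCat.of R' M') : ModuleCat.{u} R) ≃ₗ[R] M' where
  toFun := fun x => x
  invFun := fun x => x
  map_add' := fun _ _ => rfl
  map_smul' := fun r x => algebraMap_smul R' r (show M' from x)
  left_inv := fun _ => rfl
  right_inv := fun _ => rfl

/-- as an isomorphism in `ModuleCat R` -/
noncomputable def restrictIso (M' : Type u) [AddCommGroup M'] [Module R' M'] [Module R M'] [IsScalarTower R R' M'] :
    (ModuleCat.restrictScalars.{u} (algebraMap R R')).obj (ModuleCat.of R' M') ≅ ModuleCat.of R M' :=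
  (restrictEquiv (R' := R') M').toModuleIso

/-- S11614: local cohomology does not depend on the base ring -/
theorem lc_restrict (I : Ideal R) (M' : Type u) [AddCommGroup M'] [Module R' M'] [Module R M']
    [IsScalarTower R R' M'] (i : ℕ) :
    ∃ φ : LocCoh.H (Ideal.map (algebraMap R R') I) i M' ≃+ LocCoh.H I i M',
      ∀ (r : R) (x : LocCoh.H (Ideal.map (algebraMap R R') I) i M'),
        φ (algebraMap R R' r • x) = r • φ x := by
  obtain ⟨fs, rfl⟩ := exists_list_span I
  rw [map_span_list]
  obtain ⟨φ₀, hφ₀⟩ := lc_restrictScalars fs (ModuleCat.of R' M') i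
  let ψ := ((localCohomology (Ideal.span {x | x ∈ fs}) i).mapIso (restrictIso (R' := R') M')).toLinearEquiv
  refine ⟨φ₀.trans ψ.toAddEquiv, ?_⟩
  intro r x
  change ψ (φ₀ (algebraMap R R' r • x)) = r • ψ (φ₀ x)
  rw [hφ₀, LinearEquiv.map_smul]

end Helper98.CechRestrict
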