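import Groth.Agent.Lib.Helper98.KoszulCech
import Groth.Agent.S17776

/-!
# helper98: functoriality of the extended Čech complex in the module

* `locCxUnit_naturality`, `coconeMap` (functoriality of `mappingCocone`), `cocone_fst_f`, `cocone_map_fst`
* `cechMap φ fs : extCech M fs ⟶ extCech N fs`, `dse_cechMap` (SES of modules ↦ degreewise SES of complexes),
  `dse_shift`, `dse_loc`
* `cechPi M fs : extCech M fs ⟶ M[0]`, `cechMap_cechPi`
* `iotaHom M fs : H⁰(extCech M fs) ⟶ M` (canonical, natural: `iotaHom_naturality`),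
  `iotaHom_spec` (injective, range = `S17776.T fs M` = elements killed by powers of all `f ∈ fs`).
-/

set_option autoImplicit false
universe u
open CategoryTheory CategoryTheory.Limits HomologicalComplex CochainComplex HomComplex

namespace Helper98.CechFun

open Helper98.KoszulFun Helper98.KoszulLES Groth.Agent.Lib.Helper47.ExtCech

variable {A : Type u} [CommRing A]

attribute [local instance] HasDerivedCategory.standard

lemma locCxUnit_naturality (S : Submonoid A) {K L : DRing.Cx A} (φ : K ⟶ L) :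
    DerCA.locCxUnit S K ≫ (DerCA.locCx S).map φ = φ ≫ DerCA.locCxUnit S L := by
  ext i : 1
  exact ((DerCA.locUnit S).naturality (φ.f i)).symm

/-- functoriality of the mapping cocone -/
noncomputable def coconeMap {K₁ L₁ K₂ L₂ : DRing.Cx A} (φ₁ : K₁ ⟶ L₁) (φ₂ : K₂ ⟶ L₂) (a : K₁ ⟶ K₂)
    (b : L₁ ⟶ L₂) (comm : φ₁ ≫ b = a ≫ φ₂) : mappingCocone φ₁ ⟶ mappingCocone φ₂ :=
  (mappingCone.map φ₁ φ₂ a b comm)⟦(-1 : ℤ)⟧'

lemma coconeMap_f {K₁ L₁ K₂ L₂ : DRing.Cx A} (φ₁ : K₁ ⟶ L₁) (φ₂ : K₂ ⟶ L₂) (a : K₁ ⟶ K₂)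
    (b : L₁ ⟶ L₂) (comm : φ₁ ≫ b = a ≫ φ₂) (p : ℤ) :
    (coconeMap φ₁ φ₂ a b comm).f p = (mappingCone.map φ₁ φ₂ a b comm).f (p + -1) := rfl

/-- functoriality of the extended Čech complex in the module -/
noncomputable def cechMap {M N : ModuleCat.{u} A} (φ : M ⟶ N) :
    ∀ fs : List A, DerCA.extCech M fs ⟶ DerCA.extCech N fs
  | [] => (HomologicalComplex.single (ModuleCat.{u} A) (ComplexShape.up ℤ) 0).map φ
  | f :: fs => coconeMap (DerCA.locCxUnit (Submonoid.powers f) (DerCA.extCech M fs))
      (DerCA.locCxUnit (Submonoid.powers f) (DerCA.extCech N fs)) (cechMap φ fs)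
      ((DerCA.locCx (Submonoid.powers f)).map (cechMap φ fs))
      (locCxUnit_naturality _ _)

lemma dse_shift {X' X X'' : DRing.Cx A} (u : X' ⟶ X) (v : X ⟶ X'') (h : DSE u v) (n : ℤ) :
    DSE (u⟦n⟧') (v⟦n⟧') := fun i => h (i + n)

lemma dse_loc (S : Submonoid A) {X' X X'' : DRing.Cx A} (u : X' ⟶ X) (v : X ⟶ X'') (h : DSE u v) :
    DSE ((DerCA.locCx S).map u) ((DerCA.locCx S).map v) := by
  intro i
  obtain ⟨h1, h2, h3⟩ := h i
  refine ⟨?_, ?_, ?_⟩
  · change Function.Injective (IsLocalizedModule.map S (LocalizedModule.mkLinearMap S (X'.X i))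
      (LocalizedModule.mkLinearMap S (X.X i)) (u.f i).hom)
    exact IsLocalizedModule.map_injective S _ _ _ h1
  · change Function.Surjective (IsLocalizedModule.map S (LocalizedModule.mkLinearMap S (X.X i))
      (LocalizedModule.mkLinearMap S (X''.X i)) (v.f i).hom)
    exact IsLocalizedModule.map_surjective S _ _ _ h2
  · have hex : Function.Exact (u.f i).hom (v.f i).hom := by
      intro x
      rw [h3 x]
      rfl
    have := IsLocalizedModule.map_exact S (LocalizedModule.mkLinearMap S (X'.X i))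
      (LocalizedModule.mkLinearMap S (X.X i)) (LocalizedModule.mkLinearMap S (X''.X i)) _ _ hex
    intro x
    rw [← Set.mem_range]
    exact this x

lemma dse_single {M' M M'' : ModuleCat.{u} A} (u : M' ⟶ M) (v : M ⟶ M'')
    (hu : Function.Injective u.hom) (hv : Function.Surjective v.hom)
    (he : ∀ x, v.hom x = 0 ↔ ∃ y, u.hom y = x) :
    DSE ((HomologicalComplex.single (ModuleCat.{u} A) (ComplexShape.up ℤ) 0).map u)
      ((HomologicalComplex.single (ModuleCat.{u} A) (ComplexShape.up ℤ) 0).map v) :=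
  dse_kmap u v hu hv he []

lemma dse_cechMap {M' M M'' : ModuleCat.{u} A} (u : M' ⟶ M) (v : M ⟶ M'')
    (hu : Function.Injective u.hom) (hv : Function.Surjective v.hom)
    (he : ∀ x, v.hom x = 0 ↔ ∃ y, u.hom y = x) : ∀ fs : List A, DSE (cechMap u fs) (cechMap v fs)
  | [] => dse_single u v hu hv he
  | _ :: fs => dse_shift _ _ (dse_cone _ _ _ _ _ _ _ _ _ (dse_cechMap u v hu hv he fs)
      (dse_loc _ _ _ (dse_cechMap u v hu hv he fs))) (-1)


lemma cocone_fst_f {K L : DRing.Cx A} (φ : K ⟶ L) (p : ℤ) :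
    (mappingCocone.fst φ : mappingCocone φ ⟶ K).f p =
      ((mappingCone.fst φ).1.v (p + -1) p (by omega) : (mappingCone φ).X (p + -1) ⟶ K.X p) := by
  simp [mappingCocone.fst, Cochain.leftShift_v (n := 1) _ _ _ _ _ p _ (p + -1) (by lia)]
  change (-(-(𝟙 ((mappingCone φ).X (p + -1)) ≫ (mappingCone.fst φ).1.v (p + -1) p (by omega))) :
    (mappingCone φ).X (p + -1) ⟶ K.X p) = _
  rw [neg_neg, Category.id_comp]

lemma cocone_map_fst {K₁ L₁ K₂ L₂ : DRing.Cx A} (φ₁ : K₁ ⟶ L₁) (φ₂ : K₂ ⟶ L₂) (a : K₁ ⟶ K₂)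
    (b : L₁ ⟶ L₂) (comm : φ₁ ≫ b = a ≫ φ₂) :
    coconeMap φ₁ φ₂ a b comm ≫ mappingCocone.fst φ₂ = mappingCocone.fst φ₁ ≫ a := by
  ext p : 1
  rw [HomologicalComplex.comp_f, HomologicalComplex.comp_f, cocone_fst_f, cocone_fst_f, coconeMap_f]
  exact map_fst φ₁ φ₂ a b comm (p + -1) p (by omega)

/-- the projection of the extended Čech complex onto its degree zero part `M[0]` -/
noncomputable def cechPi (M : ModuleCat.{u} A) : ∀ fs : List A,
    DerCA.extCech M fs ⟶ (HomologicalComplex.single (ModuleCat.{u} A) (ComplexShape.up ℤ) 0).obj M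
  | [] => 𝟙 _
  | f :: fs => (mappingCocone.fst (DerCA.locCxUnit (Submonoid.powers f) (DerCA.extCech M fs)) :
      mappingCocone (DerCA.locCxUnit (Submonoid.powers f) (DerCA.extCech M fs)) ⟶ _) ≫ cechPi M fs

lemma cechMap_cechPi {M N : ModuleCat.{u} A} (φ : M ⟶ N) : ∀ fs : List A,
    cechMap φ fs ≫ cechPi N fs =
      cechPi M fs ≫ (HomologicalComplex.single (ModuleCat.{u} A) (ComplexShape.up ℤ) 0).map φ
  | [] => (Category.comp_id _).trans (Category.id_comp _).symm
  | f :: fs => by
    have h1 := cocone_map_fst (DerCA.locCxUnit (Submonoid.powers f) (DerCA.extCech M fs))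
      (DerCA.locCxUnit (Submonoid.powers f) (DerCA.extCech N fs)) (cechMap φ fs)
      ((DerCA.locCx (Submonoid.powers f)).map (cechMap φ fs)) (locCxUnit_naturality _ _)
    have h2 := cechMap_cechPi φ fs
    change (coconeMap _ _ _ _ _ ≫ (mappingCocone.fst _ ≫ cechPi N fs)) =
      (mappingCocone.fst _ ≫ cechPi M fs) ≫ _
    rw [← Category.assoc, h1, Category.assoc, h2, Category.assoc]


/-- the canonical map `H⁰(Č(M)) → M` -/
noncomputable def iotaHom (M : ModuleCat.{u} A) (fs : List A) : (DerCA.extCech M fs).homology 0 ⟶ M :=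
  homologyMap (cechPi M fs) 0 ≫
    (HomologicalComplex.singleObjHomologySelfIso (ComplexShape.up ℤ) 0 M).hom

lemma iotaHom_naturality {M N : ModuleCat.{u} A} (φ : M ⟶ N) (fs : List A) :
    homologyMap (cechMap φ fs) 0 ≫ iotaHom N fs = iotaHom M fs ≫ φ := by
  unfold iotaHom
  rw [← Category.assoc, ← homologyMap_comp, cechMap_cechPi, homologyMap_comp, Category.assoc,
    HomologicalComplex.singleObjHomologySelfIso_hom_naturality, Category.assoc]

lemma iotaHom_cons (M : ModuleCat.{u} A) (f : A) (fs : List A) :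
    iotaHom M (f :: fs) = homologyMap (mappingCocone.fst
      (DerCA.locCxUnit (Submonoid.powers f) (DerCA.extCech M fs)) :
        mappingCocone (DerCA.locCxUnit (Submonoid.powers f) (DerCA.extCech M fs)) ⟶ _) 0 ≫
      iotaHom M fs := by
  unfold iotaHom
  rw [← Category.assoc, ← homologyMap_comp]
  rfl

theorem iotaHom_spec (M : ModuleCat.{u} A) (fs : List A) :
    Function.Injective (iotaHom M fs).hom ∧
      LinearMap.range (iotaHom M fs).hom = Groth.Agent.S17776.T fs M := by
  induction fs with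
  | nil =>
    have hb := ConcreteCategory.bijective_of_isIso
        (HomologicalComplex.singleObjHomologySelfIso (ComplexShape.up ℤ) 0 M).hom
    have h1 : iotaHom M [] = (HomologicalComplex.singleObjHomologySelfIso (ComplexShape.up ℤ) 0 M).hom := by
      unfold iotaHom
      change homologyMap (𝟙 ((HomologicalComplex.single (ModuleCat.{u} A) (ComplexShape.up ℤ) 0).obj M)) 0 ≫ _ = _
      rw [homologyMap_id, Category.id_comp]
    rw [h1]
    refine ⟨hb.1, ?_⟩
    have : Groth.Agent.S17776.T [] M = ⊤ := by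
      ext m
      constructor
      · intro _; trivial
      · intro _ g hg
        exact absurd hg List.not_mem_nil
    rw [this]
    exact LinearMap.range_eq_top.mpr hb.2
  | cons f fs ih =>
    obtain ⟨hι, hr⟩ := ih
    rw [iotaHom_cons]
    have hd := DerivedCategory.mappingCocone_triangle_distinguished
      (DerCA.locCxUnit (Submonoid.powers f) (DerCA.extCech M fs))
    have e1 := CochainComplex.homologyMap_exact₁_of_distTriang _ hd (-1) 0 (by norm_num)
    have e2 := CochainComplex.homologyMap_exact₂_of_distTriang _ hd 0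
    have hz : IsZero (((DerCA.locCx (Submonoid.powers f)).obj (DerCA.extCech M fs)).homology (-1)) := by
      refine IsZero.of_iso ?_ (locHomologyIso _ _ _)
      exact (DerCA.locFunctor (Submonoid.powers f)).map_isZero
        (Groth.Agent.S9264.result A fs M (-1) (Or.inl (by norm_num)))
    have hmono : Mono (HomologicalComplex.homologyMap (CochainComplex.mappingCocone.fst
        (DerCA.locCxUnit (Submonoid.powers f) (DerCA.extCech M fs))) 0) :=
      e1.mono_g (hz.eq_of_src _ _)
    have hinj := (ModuleCat.mono_iff_injective _).mp hmono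
    rw [ShortComplex.moduleCat_exact_iff] at e2
    let p := (HomologicalComplex.homologyMap (CochainComplex.mappingCocone.fst
        (DerCA.locCxUnit (Submonoid.powers f) (DerCA.extCech M fs))) 0)
    change Function.Injective p.hom at hinj
    change Function.Injective ((iotaHom M fs).hom ∘ₗ p.hom) ∧
      LinearMap.range ((iotaHom M fs).hom ∘ₗ p.hom) = _
    refine ⟨hι.comp hinj, ?_⟩
    ext m
    constructor
    · rintro ⟨x, rfl⟩
      intro g hg
      rcases List.mem_cons.mp hg with rfl | hmem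
      · obtain ⟨r, ⟨n, rfl⟩, hn⟩ := torsH_extCech M (g :: fs) g List.mem_cons_self 0 x
        refine ⟨n, ?_⟩
        have hn' : g ^ n • x = 0 := hn
        rw [← map_smul, hn', map_zero]
      · have : ((iotaHom M fs).hom ∘ₗ p.hom) x ∈ Groth.Agent.S17776.T fs M := by
          rw [← hr]; exact ⟨_, rfl⟩
        exact this g hmem
    · intro hm
      have hm' : m ∈ Groth.Agent.S17776.T fs M := fun g hg => hm g (List.mem_cons_of_mem _ hg)
      rw [← hr] at hm'
      obtain ⟨y, rfl⟩ := hm'
      obtain ⟨n, hn⟩ := hm f List.mem_cons_self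
      have hy : f ^ n • y = 0 := by
        apply hι
        rw [map_smul, hn, map_zero]
      have hφy : (HomologicalComplex.homologyMap
          (DerCA.locCxUnit (Submonoid.powers f) (DerCA.extCech M fs)) 0).hom y = 0 := by
        have hb : Function.Injective (fun z : ((DerCA.locCx (Submonoid.powers f)).obj
            (DerCA.extCech M fs)).homology 0 => f ^ n • z) := by
          have := (ActsBij.of_iso (locHomologyIso (Submonoid.powers f) (DerCA.extCech M fs) 0).symm
            (smul_bijective_localizedModule (Submonoid.powers f) _ (f ^ n) ⟨n, rfl⟩))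
          exact this.1
        apply hb
        change f ^ n • _ = f ^ n • 0
        rw [← map_smul, hy, map_zero, smul_zero]
      obtain ⟨x, hx⟩ := e2 y hφy
      refine ⟨x, ?_⟩
      exact congrArg (iotaHom M fs).hom hx

end Helper98.CechFun
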