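import Groth.Agent.Lib.Helper98.LCFaltings
import Groth.Agent.Lib.Helper92.LocCohGV
import Groth.Agent.S3261

set_option autoImplicit false
open CategoryTheory
open scoped Pointwise

namespace Groth.Agent.Lib.Helper98.LCArtinian

open Groth.Agent.Lib.Helper92.LC Groth.Agent.Lib.Helper98.LCFaltings

universe u
variable {R : Type u} [CommRing R]

/-- a finite module killed by a maximal ideal is Artinian -/
theorem isArtinian_of_killed (m : Ideal R) [hm : m.IsMaximal] (Z : Type u) [AddCommGroup Z]
    [Module R Z] [Module.Finite R Z] (h : ∀ a ∈ m, ∀ z : Z, a • z = 0) : IsArtinian R Z := by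
  let : Field (R ⧸ m) := Ideal.Quotient.field m
  have htors : Module.IsTorsionBySet R Z (m : Set R) := fun z a => h a.1 a.2 z
  let : Module (R ⧸ m) Z := htors.module
  have : IsScalarTower R (R ⧸ m) Z := htors.isScalarTower
  have : Module.Finite (R ⧸ m) Z := Module.Finite.of_restrictScalars_finite R (R ⧸ m) Z
  have : IsArtinian (R ⧸ m) Z := inferInstance
  exact isArtinian_of_surjective_algebraMap (R := R ⧸ m) Ideal.Quotient.mk_surjective

variable [IsNoetherianRing R] (I : Ideal R)

omit [IsNoetherianRing R] in
/-- Melkersson step: if `r ∈ I` is `N`-regular and `H^i_I(N/rN)` is Artinian, so is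
`H^{i+1}_I(N)`. -/
theorem step (N : Type u) [AddCommGroup N] [Module R N] (r : R) (hrI : r ∈ I)
    (hr : IsSMulRegular N r) (i : ℕ)
    (hA : IsArtinian R ((localCohomology I i).obj (sesSMul N r).X₃)) :
    IsArtinian R ((localCohomology I (i + 1)).obj (ModuleCat.of R N)) := by
  have hS := sesSMul_shortExact N r hr
  refine Groth.Agent.S3261.result (Ideal.span {r}) ⟨{r}, by simp⟩ _ ?_ ?_
  · intro y
    obtain ⟨t, ht⟩ := exists_pow_smul_eq_zero I (i + 1) y
    refine ⟨t, fun a ha => ht a ?_⟩
    exact Ideal.pow_right_mono ((Ideal.span_singleton_le_iff_mem I).2 hrI) t ha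
  · have hle : LocCoh.torsionBy (Ideal.span {r})
        ((localCohomology I (i + 1)).obj (ModuleCat.of R N)) ≤ LinearMap.range (δ I i hS) := by
      intro y hy
      rw [Submodule.mem_torsionBySet_iff] at hy
      have hry : r • y = 0 := hy ⟨r, Ideal.subset_span rfl⟩
      obtain ⟨z, hz⟩ := exact₁ I i hS y (by rw [sesSMul_f, Hmap_smul_id]; exact hry)
      exact ⟨z, hz⟩
    have : IsArtinian R (LinearMap.range (δ I i hS)) := isArtinian_range _
    exact isArtinian_of_le hle

/-- reduction to the torsion-free quotient -/
theorem reduce (M : Type u) [AddCommGroup M] [Module R M] (i : ℕ)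
    (hA : IsArtinian R ((localCohomology I (i + 1)).obj (sesTors I M).X₃)) :
    IsArtinian R ((localCohomology I (i + 1)).obj (ModuleCat.of R M)) :=
  isArtinian_of_injective _ (Hmap_quot_injective I M i)

/-- a finite `m`-power-torsion module is Artinian (`m` maximal) -/
theorem isArtinian_of_isPowerTorsion (m : Ideal R) [m.IsMaximal] (Z : Type u) [AddCommGroup Z]
    [Module R Z] [Module.Finite R Z] (h : LocCoh.IsPowerTorsion m Z) : IsArtinian R Z := by
  refine Groth.Agent.S3261.result m ((isNoetherianRing_iff_ideal_fg R).1 inferInstance m) Z h ?_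
  have : Module.Finite R (LocCoh.torsionBy m Z) :=
    Module.Finite.of_injective (Submodule.subtype _) (Submodule.injective_subtype _)
  refine isArtinian_of_killed m _ (fun a ha z => ?_)
  apply Subtype.ext
  have := (Submodule.mem_torsionBySet_iff (s := (m : Set R)) (x := z.1)).1 z.2 ⟨a, ha⟩
  exact this

/-- `H^i_m(M)` is Artinian for `m` maximal and `M` finite. -/
theorem isArtinian_Hm (m : Ideal R) [m.IsMaximal] (i : ℕ) :
    ∀ (M : Type u) [AddCommGroup M] [Module R M] [Module.Finite R M],
      IsArtinian R ((localCohomology m i).obj (ModuleCat.of R M)) := by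
  induction i with
  | zero =>
    intro M _ _ _
    have : Module.Finite R ((localCohomology m 0).obj (ModuleCat.of R M)) :=
      Module.Finite.of_injective (γ (M := ModuleCat.of R M) m) (γ_injective m)
    exact isArtinian_of_isPowerTorsion m _ (fun y => exists_pow_smul_eq_zero m 0 y)
  | succ i ih =>
    intro M _ _ _
    apply reduce
    have hfin3 : Module.Finite R (sesTors m M).X₃ := Module.Finite.quotient R _
    obtain ⟨r, hrI, hr⟩ := exists_regular m (sesTors m M).X₃ (torsionSub_quot_eq_bot m M)
    have hfin' : Module.Finite R (sesSMul (sesTors m M).X₃ r).X₃ := Module.Finite.quotient R _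
    exact step m _ r hrI hr i (ih _)

omit [IsNoetherianRing R] in
theorem le_of_add_one_le (a : WithBot ℕ∞) (i : ℕ) (h : a + 1 ≤ ((i + 1 : ℕ) : WithBot ℕ∞)) :
    a ≤ (i : WithBot ℕ∞) := by
  induction a using WithBot.recBotCoe with
  | bot => exact bot_le
  | coe b =>
    induction b using ENat.recTopCoe with
    | top =>
      exfalso
      have : ((⊤ : ℕ∞) : WithBot ℕ∞) + 1 = ((⊤ : ℕ∞) : WithBot ℕ∞) := by
        rw [← WithBot.coe_one, ← WithBot.coe_add, top_add]
      rw [this] at h
      have h2 : ((⊤ : ℕ∞) : WithBot ℕ∞) ≤ (((i + 1 : ℕ) : ℕ∞) : WithBot ℕ∞) := h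
      rw [WithBot.coe_le_coe] at h2
      exact absurd h2 (not_le.2 (ENat.natCast_lt_top _))
    | coe n =>
      have h2 : (((n + 1 : ℕ) : ℕ∞) : WithBot ℕ∞) ≤ (((i + 1 : ℕ) : ℕ∞) : WithBot ℕ∞) := by
        push_cast
        exact h
      rw [WithBot.coe_le_coe, Nat.cast_le] at h2
      have : n ≤ i := by omega
      exact_mod_cast this

omit [IsNoetherianRing R] in
/-- dimension drops after dividing by a regular element -/
theorem supportDim_quot_le (N : Type u) [AddCommGroup N] [Module R N] [Module.Finite R N]
    (r : R) (hr : IsSMulRegular N r) (n : ℕ)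
    (h : Module.supportDim R N ≤ ((n + 1 : ℕ) : WithBot ℕ∞)) :
    Module.supportDim R (sesSMul N r).X₃ ≤ (n : WithBot ℕ∞) := by
  have h1 := Module.supportDim_quotSMulTop_succ_le_of_notMem_minimalPrimes (M := N) (x := r)
    (fun _ => hr.notMem_of_mem_minimalPrimes)
  exact le_of_add_one_le _ n (h1.trans h)

/-- a finite module with zero-dimensional support over a Noetherian local ring is Artinian -/
theorem isArtinian_of_supportDim_le_zero [IsLocalRing R] (M : Type u) [AddCommGroup M]
    [Module R M] [Module.Finite R M] (h : Module.supportDim R M ≤ 0) : IsArtinian R M := by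
  set m := IsLocalRing.maximalIdeal R with hm
  have hfin3 : Module.Finite R (sesTors m M).X₃ := Module.Finite.quotient R _
  have hsub : Subsingleton (sesTors m M).X₃ := by
    by_contra hne
    rw [not_subsingleton_iff_nontrivial] at hne
    obtain ⟨r, hrI, hr⟩ := exists_regular m (sesTors m M).X₃ (torsionSub_quot_eq_bot m M)
    have h1 := Module.supportDim_quotSMulTop_succ_le_of_notMem_minimalPrimes
      (M := (sesTors m M).X₃) (x := r) (fun _ => hr.notMem_of_mem_minimalPrimes)
    have h2 : Module.supportDim R (sesTors m M).X₃ ≤ 0 :=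
      (Module.supportDim_le_of_surjective _ (Submodule.mkQ_surjective _)).trans h
    have h3 : Module.supportDim R (QuotSMulTop r (sesTors m M).X₃) < ((0 : ℕ) : WithBot ℕ∞) := by
      apply lt_of_add_one_lt
      refine lt_of_le_of_lt (h1.trans h2) ?_
      exact_mod_cast zero_lt_one
    have hQ : Subsingleton (QuotSMulTop r (sesTors m M).X₃) := by
      by_contra hQne
      rw [not_subsingleton_iff_nontrivial] at hQne
      have hne' : Nonempty (Module.support R (QuotSMulTop r (sesTors m M).X₃)) :=
        Module.nonempty_support_of_nontrivial.to_subtype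
      have h0 : (0 : WithBot ℕ∞) ≤ Module.supportDim R (QuotSMulTop r (sesTors m M).X₃) :=
        Order.krullDim_nonneg
      exact absurd h3 (not_lt.2 (by exact_mod_cast h0))
    -- Nakayama
    have htop : (⊤ : Submodule R (sesTors m M).X₃) ≤ m • ⊤ := by
      intro x _
      have hx : (Submodule.Quotient.mk x : QuotSMulTop r (sesTors m M).X₃) = 0 :=
        Subsingleton.elim _ _
      rw [Submodule.Quotient.mk_eq_zero] at hx
      obtain ⟨y, -, rfl⟩ := (Submodule.mem_smul_pointwise_iff_exists _ _ _).1 hx
      exact Submodule.smul_mem_smul hrI Submodule.mem_top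
    have hbot := Submodule.eq_bot_of_le_smul_of_le_jacobson_bot m
      (⊤ : Submodule R (sesTors m M).X₃) Module.Finite.fg_top htop
      (IsLocalRing.maximalIdeal_le_jacobson _)
    exact (not_subsingleton (sesTors m M).X₃)
      (subsingleton_of_bot_eq_top hbot.symm |> fun h => (Submodule.subsingleton_iff R).1 h)
  refine isArtinian_of_isPowerTorsion m M (fun x => ?_)
  have hx : (LinearMap.range (DRing.torsionSub m M).subtype).mkQ x = 0 :=
    @Subsingleton.elim _ hsub _ _
  rw [Submodule.mkQ_apply, Submodule.Quotient.mk_eq_zero] at hx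
  obtain ⟨⟨y, hy⟩, rfl⟩ := hx
  exact hy

/-- **top local cohomology is Artinian** (Noetherian local ring) -/
theorem isArtinian_top [IsLocalRing R] (n : ℕ) :
    ∀ (M : Type u) [AddCommGroup M] [Module R M] [Module.Finite R M],
      Module.supportDim R M ≤ (n : WithBot ℕ∞) →
      IsArtinian R ((localCohomology I n).obj (ModuleCat.of R M)) := by
  induction n with
  | zero =>
    intro M _ _ _ h
    have := isArtinian_of_supportDim_le_zero M (by exact_mod_cast h)
    exact isArtinian_of_injective (γ (M := ModuleCat.of R M) I) (γ_injective I)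
  | succ n ih =>
    intro M _ _ _ h
    apply reduce
    have hfin3 : Module.Finite R (sesTors I M).X₃ := Module.Finite.quotient R _
    have h2 : Module.supportDim R (sesTors I M).X₃ ≤ ((n + 1 : ℕ) : WithBot ℕ∞) :=
      (Module.supportDim_le_of_surjective _ (Submodule.mkQ_surjective _)).trans h
    obtain ⟨r, hrI, hr⟩ := exists_regular I (sesTors I M).X₃ (torsionSub_quot_eq_bot I M)
    have hfin' : Module.Finite R (sesSMul (sesTors I M).X₃ r).X₃ := Module.Finite.quotient R _
    exact step I _ r hrI hr n (ih _ (supportDim_quot_le _ r hr n h2))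

end Groth.Agent.Lib.Helper98.LCArtinian
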