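import Groth.Agent.Lib.Helper98.CechFlat

/-!
# helper98: flat base change for local cohomology, `R'`-linear form

* `G R R' : ModuleCat R ⥤ ModuleCat R'`, `X ↦ R' ⊗[R] X` (own additive functor), `locCompat_G`,
  `PreservesHomology` when `R'` is flat
* `cechH_G`, `lc_baseChange_lin` : `R' ⊗ H^i_I(M) ≃ₗ[R'] H^i_{IR'}(R' ⊗ M)` (both Noetherian, `R'` flat)
-/

set_option autoImplicit false
universe u
open CategoryTheory CategoryTheory.Limits MonoidalCategory TensorProduct

namespace Helper98.CechFlatLin

attribute [local instance] HasDerivedCategory.standard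

variable (R : Type u) [CommRing R] (R' : Type u) [CommRing R'] [Algebra R R']

/-- extension of scalars as a functor -/
noncomputable def G : ModuleCat.{u} R ⥤ ModuleCat.{u} R' where
  obj X := ModuleCat.of R' (R' ⊗[R] X)
  map g := ModuleCat.ofHom (LinearMap.baseChange R' g.hom)
  map_id X := by
    ext : 1
    simp
  map_comp f g := by
    ext : 1
    simp [LinearMap.baseChange_comp]

instance : (G R R').Additive where
  map_add := by
    intro X Y f g
    ext : 1
    simp only [G, ModuleCat.hom_add, LinearMap.baseChange_add]
    rfl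

lemma isLoc_lTensor (f : R) {X Y : Type u} [AddCommGroup X] [Module R X] [AddCommGroup Y] [Module R Y]
    (g : X →ₗ[R] Y) [IsLocalizedModule (Submonoid.powers f) g] :
    IsLocalizedModule (Submonoid.powers f) (g.lTensor R') := by
  have h : IsLocalizedModule (Submonoid.powers f) (AlgebraTensorModule.rTensor R R' g) := inferInstance
  have h2 : g.lTensor R' = (TensorProduct.comm R Y R').toLinearMap ∘ₗ
      (AlgebraTensorModule.rTensor R R' g) ∘ₗ (TensorProduct.comm R R' X).toLinearMap := by
    ext a x
    simp
  rw [h2]
  have h3 := IsLocalizedModule.of_linearEquiv (Submonoid.powers f) (AlgebraTensorModule.rTensor R R' g)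
    (TensorProduct.comm R Y R')
  have h4 := IsLocalizedModule.of_linearEquiv_right (Submonoid.powers f)
    ((TensorProduct.comm R Y R').toLinearMap ∘ₗ (AlgebraTensorModule.rTensor R R' g))
    (TensorProduct.comm R R' X)
  exact h4

lemma isLoc_baseChange (f : R) {X Y : Type u} [AddCommGroup X] [Module R X] [AddCommGroup Y] [Module R Y]
    (g : X →ₗ[R] Y) [IsLocalizedModule (Submonoid.powers f) g] :
    IsLocalizedModule (Submonoid.powers (algebraMap R R' f)) (g.baseChange R') := by
  have h1 : (g.baseChange R').restrictScalars R = g.lTensor R' := by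
    ext a x
    simp
  have h2 : IsLocalizedModule (Submonoid.powers f) ((g.baseChange R').restrictScalars R) := by
    rw [h1]
    exact isLoc_lTensor R R' f g
  have h3 := IsLocalizedModule.of_restrictScalars (A := R') (Submonoid.powers f) (g.baseChange R')
  rw [Algebra.algebraMapSubmonoid_powers] at h3
  exact h3

lemma locCompat_G (f : R) :
    Helper98.CechBC.LocCompat (G R R') f (algebraMap R R' f) := by
  intro X
  have : IsLocalizedModule (Submonoid.powers f) ((DerCA.locUnit (Submonoid.powers f)).app X).hom := by
    change IsLocalizedModule (Submonoid.powers f) (LocalizedModule.mkLinearMap (Submonoid.powers f) X)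
    infer_instance
  exact isLoc_baseChange R R' f ((DerCA.locUnit (Submonoid.powers f)).app X).hom

lemma G_map_exact [Module.Flat R R'] (T : ShortComplex (ModuleCat.{u} R)) (h : T.Exact) :
    (T.map (G R R')).Exact := by
  rw [CategoryTheory.ShortComplex.ShortExact.moduleCat_exact_iff_function_exact] at h ⊢
  have := Module.Flat.lTensor_exact R' h
  intro y
  exact this y

instance [Module.Flat R R'] : (G R R').PreservesHomology :=
  Functor.preservesHomology_of_map_exact _ (G_map_exact R R')

theorem cechH_G [Module.Flat R R'] (fs : List R) (M : ModuleCat.{u} R) (q : ℤ) :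
    Nonempty ((DerCA.extCech ((G R R').obj M) (fs.map (algebraMap R R'))).homology q ≅
      (G R R').obj ((DerCA.extCech M fs).homology q)) := by
  have h := Helper98.CechBC.cechH_functor (G R R')
    (fs.map fun f => (f, algebraMap R R' f))
    (by
      intro p hp
      obtain ⟨f, _, rfl⟩ := List.mem_map.mp hp
      exact locCompat_G R R' f) M q
  have h1 : (fs.map fun f => (f, algebraMap R R' f)).map Prod.fst = fs := by
    simp [List.map_map, Function.comp_def]
  have h2 : (fs.map fun f => (f, algebraMap R R' f)).map Prod.snd = fs.map (algebraMap R R') := by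
    simp [List.map_map, Function.comp_def]
  rw [h1, h2] at h
  exact h

theorem lc_baseChange_lin [IsNoetherianRing R] [IsNoetherianRing R'] [Module.Flat R R']
    (I : Ideal R) (M : Type u) [AddCommGroup M] [Module R M] (i : ℕ) :
    Nonempty (TensorProduct R R' (LocCoh.H I i M) ≃ₗ[R']
      LocCoh.H (Ideal.map (algebraMap R R') I) i (TensorProduct R R' M)) := by
  obtain ⟨fs, rfl⟩ := Helper98.CechRestrict.exists_list_span I
  rw [Helper98.CechRestrict.map_span_list]
  obtain ⟨e₁⟩ := Helper98.CechLC.main (fs.map (algebraMap R R')) i ((G R R').obj (ModuleCat.of R M))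
  obtain ⟨e₂⟩ := Helper98.CechLC.main fs i (ModuleCat.of R M)
  obtain ⟨e₃⟩ := cechH_G R R' fs (ModuleCat.of R M) (i : ℤ)
  exact ⟨(((G R R').mapIso e₂.toModuleIso).symm ≪≫ e₃.symm ≪≫ e₁.toModuleIso).toLinearEquiv⟩

end Helper98.CechFlatLin
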