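import Groth.Agent.Lib.Helper98.KoszulEuler

set_option autoImplicit false
universe u
open CategoryTheory CategoryTheory.Limits MonoidalCategory HomologicalComplex CochainComplex HomComplex
open Groth.Agent.Lib.Helper98.EulerLES

namespace Groth.Agent.Lib.Helper98.KoszulEuler

variable {A : Type u} [CommRing A]

attribute [local instance] HasDerivedCategory.standard

open Helper98.KoszulTensor in
/-- Permutation invariance of the Koszul complex. -/
theorem koszul_perm {l l' : List A} (h : l.Perm l') :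
    Nonempty (Koszul.koszul A l ≅ Koszul.koszul A l') := by
  induction h with
  | nil => exact ⟨Iso.refl _⟩
  | cons a _ ih =>
    obtain ⟨e⟩ := ih
    exact ⟨coneSmulIso a e⟩
  | swap a b l =>
    obtain ⟨e1⟩ := koszul_tensor_iso [b, a] l
    obtain ⟨e2⟩ := koszul_tensor_iso [a, b] l
    obtain ⟨e3⟩ := koszul_tensor_iso [b] [a]
    obtain ⟨e4⟩ := koszul_tensor_iso [a] [b]
    exact ⟨e1.symm ≪≫ whiskerRightIso (e3.symm ≪≫ DTen.braidCx _ _ ≪≫ e4) (Koszul.koszul A l) ≪≫ e2⟩
  | trans _ _ ih1 ih2 =>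
    obtain ⟨e1⟩ := ih1
    obtain ⟨e2⟩ := ih2
    exact ⟨e1 ≪≫ e2⟩

theorem chi_perm {l l' : List A} (h : l.Perm l') (M : ModuleCat.{u} A) : chi l M = chi l' M := by
  obtain ⟨e⟩ := koszul_perm h
  exact chiC_iso ((tensF M).mapIso e)

/-- Change of generators up to radical preserves finite length of `M/(S)M`. -/
theorem isFiniteLength_quot_of_pow [IsNoetherianRing A] (M : Type u) [AddCommGroup M] [Module A M]
    [Module.Finite A M] (S S' : Set A)
    (hfl : IsFiniteLength A (M ⧸ (Ideal.span S • (⊤ : Submodule A M))))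
    (h : ∀ s ∈ S, ∃ n : ℕ, s ^ n ∈ Ideal.span S') :
    IsFiniteLength A (M ⧸ (Ideal.span S' • (⊤ : Submodule A M))) := by
  refine isFiniteLength_of_kills M S hfl _ (fun a ha x => ?_) (fun s hs => ?_)
  · obtain ⟨m, rfl⟩ := Submodule.Quotient.mk_surjective _ x
    rw [← Submodule.Quotient.mk_smul, ha, Submodule.Quotient.mk_zero]
  · obtain ⟨n, hn⟩ := h s hs
    refine ⟨n, fun x => ?_⟩
    obtain ⟨m, rfl⟩ := Submodule.Quotient.mk_surjective _ x
    rw [← Submodule.Quotient.mk_smul, Submodule.Quotient.mk_eq_zero]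
    exact Submodule.smul_mem_smul hn Submodule.mem_top

/-- If `1 ∈ l` (or any element some power of which is `1`), `χ(l; M) = 0`. -/
theorem chi_eq_zero_of_one_mem [IsNoetherianRing A] (l : List A) (M : ModuleCat.{u} A)
    [Module.Finite A M] (h : (1 : A) ∈ l) : chi l M = 0 := by
  obtain ⟨N, hN⟩ := (good l M).kill 1 h
  unfold chi chiC
  rw [finsum_eq_zero_of_forall_eq_zero]
  intro i
  have : Subsingleton ((CM l M).homology i) :=
    ⟨fun x y => by rw [← one_smul A x, ← one_smul A y, ← one_pow N, hN i x, hN i y]⟩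
  rw [Module.length_eq_zero]
  simp

/-- `χ(z^m, l; M) = m χ(z, l; M)`. -/
theorem chi_pow_head [IsNoetherianRing A] (z : A) (l : List A) (M : Type u) [AddCommGroup M]
    [Module A M] [Module.Finite A M]
    (hz : IsFiniteLength A (M ⧸ (Ideal.span {a : A | a ∈ z :: l} • (⊤ : Submodule A M)))) (m : ℕ) :
    chi ((z ^ m) :: l) (ModuleCat.of A M) = (m : ℤ) * chi (z :: l) (ModuleCat.of A M) := by
  induction m with
  | zero =>
    rw [pow_zero, chi_eq_zero_of_one_mem _ _ (by simp)]
    simp
  | succ m ih =>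
    rw [pow_succ, chi_mul_head (z ^ m) z l M ?_ hz, ih]
    · push_cast
      ring
    · refine isFiniteLength_quot_of_pow M _ _ hz (fun s hs => ?_)
      rcases List.mem_cons.1 hs with rfl | hs
      · exact ⟨m, Ideal.subset_span (by simp)⟩
      · exact ⟨1, Ideal.subset_span (by simp [hs])⟩

/-- The set of elements of a list only depends on the list up to permutation. -/
lemma setOf_mem_perm {l l' : List A} (h : l.Perm l') : {a : A | a ∈ l} = {a : A | a ∈ l'} := by
  ext a
  exact h.mem_iff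

/-- `χ(x₁^{m₁}, …, x_k^{m_k}, l₂; M) = m₁ ⋯ m_k χ(x₁, …, x_k, l₂; M)`. -/
theorem chi_pow_list [IsNoetherianRing A] (M : Type u) [AddCommGroup M] [Module A M]
    [Module.Finite A M] (ps : List (A × ℕ)) : ∀ (l₂ : List A),
    IsFiniteLength A (M ⧸ (Ideal.span {a : A | a ∈ ps.map Prod.fst ++ l₂} • (⊤ : Submodule A M))) →
    chi (ps.map (fun p => p.1 ^ p.2) ++ l₂) (ModuleCat.of A M) =
      (ps.map (fun p => (p.2 : ℤ))).prod * chi (ps.map Prod.fst ++ l₂) (ModuleCat.of A M) := by
  induction ps with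
  | nil => intro l₂ _; simp
  | cons p ps ih =>
    intro l₂ hfl
    have hperm1 : (p.1 :: (ps.map (fun p => p.1 ^ p.2) ++ l₂)).Perm
        (ps.map (fun p => p.1 ^ p.2) ++ (l₂ ++ [p.1])) := by
      rw [← List.append_assoc]
      exact (List.perm_append_singleton _ _).symm
    have hperm2 : (p.1 :: (ps.map Prod.fst ++ l₂)).Perm (ps.map Prod.fst ++ (l₂ ++ [p.1])) := by
      rw [← List.append_assoc]
      exact (List.perm_append_singleton _ _).symm
    have hfl2 : IsFiniteLength A (M ⧸ (Ideal.span {a : A | a ∈ ps.map Prod.fst ++ (l₂ ++ [p.1])} •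
        (⊤ : Submodule A M))) := by
      rw [← setOf_mem_perm hperm2]
      exact hfl
    have hfl1 : IsFiniteLength A (M ⧸ (Ideal.span
        {a : A | a ∈ p.1 :: (ps.map (fun p => p.1 ^ p.2) ++ l₂)} • (⊤ : Submodule A M))) := by
      refine isFiniteLength_quot_of_pow M _ _ hfl (fun s hs => ?_)
      simp only [List.map_cons, List.cons_append, Set.mem_setOf_eq, List.mem_cons, List.mem_append,
        List.mem_map] at hs
      rcases hs with rfl | ⟨q, hq, rfl⟩ | hs
      · exact ⟨1, Ideal.subset_span (by simp)⟩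
      · refine ⟨q.2, Ideal.subset_span ?_⟩
        simp only [Set.mem_setOf_eq, List.mem_cons, List.mem_append, List.mem_map]
        exact Or.inr (Or.inl ⟨q, hq, rfl⟩)
      · exact ⟨1, Ideal.subset_span (by simp [hs])⟩
    simp only [List.map_cons, List.cons_append, List.prod_cons]
    rw [chi_pow_head p.1 _ M hfl1 p.2, chi_perm hperm1, ih (l₂ ++ [p.1]) hfl2, ← chi_perm hperm2]
    ring

end Groth.Agent.Lib.Helper98.KoszulEuler
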