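import Groth.Agent.Lib.Helper98.KoszulEuler

set_option autoImplicit false
universe u
open CategoryTheory CategoryTheory.Limits MonoidalCategory HomologicalComplex CochainComplex HomComplex

namespace Groth.Agent.Lib.Helper98.KoszulEuler

variable {A : Type u} [CommRing A]

/-- `s • 𝟙 C` is null-homotopic (as a degree `-1` cochain with prescribed differential). -/
def NullH (C : DRing.Cx A) (s : A) : Prop :=
  ∃ h : Cochain C C (-1), δ (-1) 0 h = Cochain.ofHom (s • 𝟙 C)

lemma ofHom_smul' {C D : DRing.Cx A} (s : A) (f : C ⟶ D) :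
    Cochain.ofHom (s • f) = s • Cochain.ofHom f := by
  ext p
  simp

lemma nullH_of_iso {C D : DRing.Cx A} (e : C ≅ D) (s : A) (h : NullH C s) : NullH D s := by
  obtain ⟨h, hh⟩ := h
  refine ⟨(Cochain.ofHom e.inv).comp (h.comp (Cochain.ofHom e.hom) (add_zero (-1))) (zero_add (-1)), ?_⟩
  rw [δ_ofHom_comp, δ_comp_ofHom, hh, ← Cochain.ofHom_comp, ← Cochain.ofHom_comp]
  congr 1
  rw [Linear.smul_comp, Linear.comp_smul, Category.id_comp, e.inv_hom_id]

lemma nullH_map (M : ModuleCat.{u} A) (K : DRing.Cx A) (s : A) (h : NullH K s) :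
    NullH ((tensF M).obj K) s := by
  obtain ⟨h, hh⟩ := h
  refine ⟨h.map (tensorRight M), ?_⟩
  rw [δ_map, hh, Cochain.map_ofHom, tensF_map_smul, CategoryTheory.Functor.map_id]

lemma nullH_cone_self (K : DRing.Cx A) (z : A) : NullH (mappingCone (z • 𝟙 K)) z := by
  refine ⟨(mappingCone.snd (z • 𝟙 K)).comp (mappingCone.inl (z • 𝟙 K)) (zero_add (-1)), ?_⟩
  rw [δ_zero_cochain_comp _ _ 0 (neg_add_cancel 1), mappingCone.δ_inl, mappingCone.δ_snd]
  rw [Linear.smul_comp, Category.id_comp, ofHom_smul', ofHom_smul', ofHom_smul']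
  simp only [Cochain.comp_smul, Cochain.neg_comp, Cochain.smul_comp, Int.negOnePow_neg,
    Int.negOnePow_one, Units.neg_smul, one_smul, neg_neg, Cochain.comp_id]
  rw [← smul_add, add_comm, mappingCone.id]

lemma nullH_cone (K : DRing.Cx A) (z s : A) (hK : NullH K s) :
    NullH (mappingCone (z • 𝟙 K)) s := by
  obtain ⟨h, hh⟩ := hK
  set φ := z • 𝟙 K with hφ
  let hi : Cochain K (mappingCone φ) (-2) := h.comp (mappingCone.inl φ) (by norm_num)
  let hr : Cochain K (mappingCone φ) (-1) := h.comp (Cochain.ofHom (mappingCone.inr φ)) (add_zero (-1))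
  let t1 : Cochain (mappingCone φ) (mappingCone φ) (-1) := (mappingCone.fst φ).1.comp hi (by norm_num)
  let t2 : Cochain (mappingCone φ) (mappingCone φ) (-1) := (mappingCone.snd φ).comp hr (zero_add (-1))
  have hφ' : Cochain.ofHom φ = z • Cochain.ofHom (𝟙 K) := by rw [hφ, ofHom_smul']
  have d_hi : δ (-2) (-1) hi = z • hr - s • mappingCone.inl φ := by
    change δ (-2) (-1) (h.comp (mappingCone.inl φ) _) = _
    rw [δ_comp h (mappingCone.inl φ) (by norm_num) 0 0 (-1) (by norm_num) (by norm_num) (by norm_num),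
      mappingCone.δ_inl, hh, Cochain.ofHom_comp, hφ', ofHom_smul']
    simp only [Cochain.smul_comp, Cochain.comp_smul, Cochain.id_comp, Int.negOnePow_neg,
      Int.negOnePow_one, Units.neg_smul, one_smul]
    rw [sub_eq_add_neg]
  have d_hr : δ (-1) 0 hr = s • Cochain.ofHom (mappingCone.inr φ) := by
    change δ (-1) 0 (h.comp (Cochain.ofHom (mappingCone.inr φ)) _) = _
    rw [δ_comp_ofHom, hh, ofHom_smul']
    simp only [Cochain.smul_comp, Cochain.id_comp]
  have d_t1 : δ (-1) 0 t1 = z • (mappingCone.fst φ).1.comp hr (add_neg_cancel 1) -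
      s • (mappingCone.fst φ).1.comp (mappingCone.inl φ) (add_neg_cancel 1) := by
    change δ (-1) 0 ((mappingCone.fst φ).1.comp hi _) = _
    rw [δ_comp (mappingCone.fst φ).1 hi (by norm_num) 2 (-1) 0 (by norm_num) (by norm_num) (by norm_num),
      Cocycle.δ_eq_zero, d_hi]
    simp only [Cochain.zero_comp, smul_zero, add_zero, Cochain.comp_sub, Cochain.comp_smul]
  have d_t2 : δ (-1) 0 t2 = s • (mappingCone.snd φ).comp (Cochain.ofHom (mappingCone.inr φ)) (add_zero 0) +
      z • (mappingCone.fst φ).1.comp hr (add_neg_cancel 1) := by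
    change δ (-1) 0 ((mappingCone.snd φ).comp hr _) = _
    rw [δ_zero_cochain_comp _ _ 0 (neg_add_cancel 1), mappingCone.δ_snd, d_hr, hφ']
    simp only [Cochain.comp_smul, Cochain.neg_comp, Cochain.smul_comp, Int.negOnePow_neg,
      Int.negOnePow_one, Units.neg_smul, one_smul, neg_neg, Cochain.comp_id]
  refine ⟨-t1 + t2, ?_⟩
  rw [δ_add, δ_neg, d_t1, d_t2, ofHom_smul', ← mappingCone.id φ, smul_add]
  abel

/-- `s • 𝟙` is null-homotopic on the Koszul complex of a list containing `s`. -/
theorem nullH_koszul (l : List A) (s : A) (hs : s ∈ l) : NullH (Koszul.koszul A l) s := by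
  induction l with
  | nil => simp at hs
  | cons z l ih =>
    rcases List.mem_cons.1 hs with rfl | hs
    · exact nullH_cone_self _ _
    · exact nullH_cone _ _ _ (ih hs)

theorem nullH_CM (l : List A) (M : ModuleCat.{u} A) (s : A) (hs : s ∈ l) : NullH (CM l M) s :=
  nullH_map M _ s (nullH_koszul l s hs)

end Groth.Agent.Lib.Helper98.KoszulEuler
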