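import Groth.Agent.Lib.Helper98.AugAb
import Groth.Agent.S0885
import Groth.Agent.Lib.Helper26.CechLES

/-!
# helper98: general lemmas on Mathlib's (full) Čech complex of a presheaf of abelian groups

* `isIso_cechMap` : a morphism of presheaves which is an iso on the finite intersections induces an iso
* `refineMap` : the refinement map `Č(U, P) → Č(U ⊓ V, P)`; `bijective_refineMap_f`
* `εC` : the augmentation attached to a cone `a V : A → P(V)`; `εC_d`
* `isZero_aug_of_top`, `isZero_aug` : acyclicity of the augmented Čech complex (extra degeneracy)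
-/

set_option autoImplicit false
universe u

open CategoryTheory CategoryTheory.Limits TopologicalSpace Opposite Simplicial

namespace Groth.Agent.Lib.Helper98.CechGen

open Groth.Agent.Lib.Helper26.CechLES Groth.Agent.Lib.Helper98.AugAb Groth.Agent.Lib.Helper10
open Groth.Agent.Lib.Helper28

variable {X : TopCat.{u}} {ι : Type u} (U : ι → Opens X)

section Iso

variable {P Q : (Opens X)ᵒᵖ ⥤ AddCommGrpCat.{u}}

lemma cechMap_f (α : P ⟶ Q) (n : ℕ) : ((cechComplexFunctor U).map α).f n =
    Limits.Pi.map (fun a : Fin (n + 1) → ι => α.app (op (∏ᶜ (U ∘ a)))) := rfl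

lemma isIso_cechMap (α : P ⟶ Q)
    (h : ∀ (n : ℕ) (a : Fin (n + 1) → ι), IsIso (α.app (op (∏ᶜ (U ∘ a))))) :
    IsIso ((cechComplexFunctor U).map α) := by
  have : ∀ n, IsIso (((cechComplexFunctor U).map α).f n) := by
    intro n
    rw [cechMap_f]
    exact @Limits.Pi.map_isIso _ _ _ _ _ _
      (fun a : Fin (n + 1) → ι => α.app (op (∏ᶜ (U ∘ a)))) (h n)
  exact HomologicalComplex.Hom.isIso_of_components _

end Iso

variable (P : (Opens X)ᵒᵖ ⥤ AddCommGrpCat.{u})

lemma π_evalOp_map {Z Z' : FormalCoproduct.{u} (Opens X)} (g : Z' ⟶ Z) (i : Z'.I)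
    (y : ((FormalCoproduct.evalOp (Opens X) AddCommGrpCat.{u}).obj P).obj (op Z)) :
    Pi.π (fun i : Z'.I => P.obj (op (Z'.obj i))) i
      (((FormalCoproduct.evalOp (Opens X) AddCommGrpCat.{u}).obj P).map g.op y) =
      P.map (g.φ i).op (Pi.π (fun i : Z.I => P.obj (op (Z.obj i))) (g.f i) y) := by
  have h : ((FormalCoproduct.evalOp (Opens X) AddCommGrpCat.{u}).obj P).map g.op ≫
      Pi.π (fun i : Z'.I => P.obj (op (Z'.obj i))) i =
      Pi.π (fun i : Z.I => P.obj (op (Z.obj i))) (g.f i) ≫ P.map (g.φ i).op := Pi.lift_π _ _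
  exact ConcreteCategory.congr_hom h y

lemma cech_ext (n : ℕ) (s s' : ((cechComplexFunctor U).obj P).X n)
    (h : ∀ x : Fin (n + 1) → ι,
      Pi.π (fun a : Fin (n + 1) → ι => P.obj (op (∏ᶜ (U ∘ a)))) x s =
        Pi.π (fun a : Fin (n + 1) → ι => P.obj (op (∏ᶜ (U ∘ a)))) x s') : s = s' :=
  pi_ext (A := fun a : Fin (n + 1) → ι => P.obj (op (∏ᶜ (U ∘ a)))) s s' h

section Refine

variable (V : Opens X)

/-- the refined family -/
def Ur : ι → Opens X := fun i => U i ⊓ V

/-- the refinement morphism of formal coproducts -/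
noncomputable def rFC : FormalCoproduct.mk ι (Ur U V) ⟶ FormalCoproduct.mk ι U where
  f := id
  φ := fun _ => homOfLE inf_le_left

noncomputable def rCech :
    (FormalCoproduct.mk ι (Ur U V)).cech ⟶ (FormalCoproduct.mk ι U).cech :=
  FormalCoproduct.cechFunctor.map (rFC U V)

/-- the refinement map of Čech complexes -/
noncomputable def refineMap :
    (cechComplexFunctor U).obj P ⟶ (cechComplexFunctor (Ur U V)).obj P :=
  (AlgebraicTopology.alternatingCofaceMapComplex _).map
    (Functor.whiskerRight (NatTrans.rightOp (rCech U V))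
      ((FormalCoproduct.evalOp (Opens X) AddCommGrpCat.{u}).obj P))

/-- the inclusion of the refined intersections -/
noncomputable def rφ (n : ℕ) (x : Fin (n + 1) → ι) :
    (∏ᶜ (Ur U V ∘ x) : Opens X) ⟶ (∏ᶜ (U ∘ x) : Opens X) :=
  Limits.Pi.map (fun a => (rFC U V).φ (x a))

lemma π_refineMap (n : ℕ) (x : Fin (n + 1) → ι) (s : ((cechComplexFunctor U).obj P).X n) :
    Pi.π (fun a : Fin (n + 1) → ι => P.obj (op (∏ᶜ (Ur U V ∘ a)))) x ((refineMap U P V).f n s) =
      P.map (rφ U V n x).op (Pi.π (fun a : Fin (n + 1) → ι => P.obj (op (∏ᶜ (U ∘ a)))) x s) :=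
  π_evalOp_map P ((rCech U V).app (op ⦋n⦌)) x s

lemma bijective_refineMap_f (n : ℕ)
    (h : ∀ x : Fin (n + 1) → ι, Function.Bijective (P.map (rφ U V n x).op)) :
    Function.Bijective ((refineMap U P V).f n) := by
  constructor
  · intro s s' hss
    apply cech_ext
    intro x
    apply (h x).1
    rw [← π_refineMap, ← π_refineMap, hss]
  · intro t
    have h1 : ∀ x : Fin (n + 1) → ι, ∃ y : P.obj (op (∏ᶜ (U ∘ x))),
        P.map (rφ U V n x).op y =
          Pi.π (fun a : Fin (n + 1) → ι => P.obj (op (∏ᶜ (Ur U V ∘ a)))) x t := fun x => (h x).2 _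
    choose y hy using h1
    obtain ⟨s, hs⟩ := pi_exists (A := fun a : Fin (n + 1) → ι => P.obj (op (∏ᶜ (U ∘ a)))) y
    refine ⟨s, ?_⟩
    apply cech_ext
    intro x
    exact (π_refineMap U P V n x s).trans ((congrArg _ (hs x)).trans (hy x))

lemma isIso_refineMap
    (h : ∀ (n : ℕ) (x : Fin (n + 1) → ι), Function.Bijective (P.map (rφ U V n x).op)) :
    IsIso (refineMap U P V) := by
  have : ∀ n, IsIso ((refineMap U P V).f n) := by
    intro n
    rw [ConcreteCategory.isIso_iff_bijective]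
    exact bijective_refineMap_f U P V n (h n)
  exact HomologicalComplex.Hom.isIso_of_components _

end Refine

section Cone

variable {P} {A : AddCommGrpCat.{u}} (a : ∀ V : Opens X, A ⟶ P.obj (op V))
  (ha : ∀ {V W : Opens X} (i : op V ⟶ op W), a V ≫ P.map i = a W)

/-- the augmentation of the Čech complex attached to a cone -/
noncomputable def εC : A ⟶ ((cechComplexFunctor U).obj P).X 0 :=
  Pi.lift (fun x : Fin 1 → ι => a (∏ᶜ (U ∘ x)))

lemma π_εC (x : Fin 1 → ι) (n : A) :
    Pi.π (fun x : Fin 1 → ι => P.obj (op (∏ᶜ (U ∘ x)))) x (εC U a n) = a (∏ᶜ (U ∘ x)) n := by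
  have h : εC U a ≫ Pi.π (fun x : Fin 1 → ι => P.obj (op (∏ᶜ (U ∘ x)))) x = a (∏ᶜ (U ∘ x)) :=
    Pi.lift_π _ _
  exact ConcreteCategory.congr_hom h n

include ha

lemma ha_apply {V W : Opens X} (i : op V ⟶ op W) (n : A) : P.map i (a V n) = a W n :=
  ConcreteCategory.congr_hom (ha i) n

lemma εC_d : εC U a ≫ ((cechComplexFunctor U).obj P).d 0 1 = 0 := by
  ext n
  apply cech_ext
  intro b
  change Pi.π (fun a : Fin 2 → ι => P.obj (op (∏ᶜ (U ∘ a)))) b
    (((cechComplexFunctor U).obj P).d 0 1 (εC U a n)) = _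
  refine (d_zero_apply U P (εC U a n) b).trans ?_
  have e0 : P.map (((CechT.cechE U).δ (0 : Fin 2)).φ b).op
      (Pi.π (fun a : Fin 1 → ι => P.obj (op (∏ᶜ (U ∘ a)))) (((CechT.cechE U).δ (0 : Fin 2)).f b)
        (εC U a n)) = a (∏ᶜ (U ∘ b)) n :=
    (congrArg (fun t => P.map (((CechT.cechE U).δ (0 : Fin 2)).φ b).op t) (π_εC U a _ n)).trans
      (ha_apply a ha _ n)
  have e1 : P.map (((CechT.cechE U).δ (1 : Fin 2)).φ b).op
      (Pi.π (fun a : Fin 1 → ι => P.obj (op (∏ᶜ (U ∘ a)))) (((CechT.cechE U).δ (1 : Fin 2)).f b)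
        (εC U a n)) = a (∏ᶜ (U ∘ b)) n :=
    (congrArg (fun t => P.map (((CechT.cechE U).δ (1 : Fin 2)).φ b).op t) (π_εC U a _ n)).trans
      (ha_apply a ha _ n)
  exact (congrArg₂ (fun p q => p - q) e0 e1).trans ((sub_self _).trans (map_zero _).symm)

lemma εC_refine (V : Opens X) : εC U a ≫ (refineMap U P V).f 0 = εC (Ur U V) a := by
  ext n
  apply cech_ext
  intro x
  change Pi.π (fun a : Fin 1 → ι => P.obj (op (∏ᶜ (Ur U V ∘ a)))) x
    ((refineMap U P V).f 0 (εC U a n)) = _
  rw [π_refineMap, π_εC, π_εC, ha_apply a ha]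

end Cone

section Acyclic

variable {P} {A : AddCommGrpCat.{u}} (a : ∀ V : Opens X, A ⟶ P.obj (op V))
  (ha : ∀ {V W : Opens X} (i : op V ⟶ op W), a V ≫ P.map i = a W)

include ha in
/-- acyclicity of the augmented Čech complex when a member of the family is the union -/
theorem isZero_aug_of_top (i₀ : ι) (hi : U i₀ = iSup U) (hbij : Function.Bijective (a (iSup U)))
    (k : ℕ) :
    IsZero ((CochainComplex.augment ((cechComplexFunctor U).obj P) (εC U a)
      (εC_d U a ha)).homology k) := by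
  let G := (FormalCoproduct.evalOp.{u} (Opens X) AddCommGrpCat.{u}).obj P
  let c := (Groth.Agent.S0885.extraD U i₀ hi).coExtra G
  -- the comparison `A → G(pt)`
  let γ : A ⟶ G.obj (op ((FormalCoproduct.incl (Opens X)).obj (iSup U))) :=
    Pi.lift (fun _ => a (iSup U))
  have hγπ : ∀ n : A, Pi.π (fun _ : PUnit.{u + 1} => P.obj (op (iSup U))) PUnit.unit (γ n) =
      a (iSup U) n := by
    intro n
    have h : γ ≫ Pi.π (fun _ : PUnit.{u + 1} => P.obj (op (iSup U))) PUnit.unit = a (iSup U) :=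
      Pi.lift_π _ _
    exact ConcreteCategory.congr_hom h n
  have hγ : Function.Bijective γ := by
    constructor
    · intro n n' hnn
      apply hbij.1
      rw [← hγπ, ← hγπ, hnn]
    · intro z
      obtain ⟨n, hn⟩ := hbij.2
        (Pi.π (fun _ : PUnit.{u + 1} => P.obj (op (iSup U))) PUnit.unit z)
      refine ⟨n, ?_⟩
      apply pi_ext
      intro j
      obtain rfl : j = PUnit.unit := rfl
      exact (hγπ n).trans hn
  have hε : ∀ n : A, c.ε (γ n) = εC U a n := by
    intro n
    apply cech_ext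
    intro x
    have h1 := π_evalOp_map P (Groth.Agent.S0885.extraD U i₀ hi).a x (γ n)
    refine h1.trans ?_
    rw [π_εC]
    exact (congrArg _ (hγπ n)).trans (ha_apply a ha _ n)
  have hd : ∀ m : ℕ, ((cechComplexFunctor U).obj P).d m (m + 1) =
      AlgebraicTopology.AlternatingCofaceMapComplex.objD
        ((Groth.Agent.S0885.E U).rightOp ⋙ G : CosimplicialObject AddCommGrpCat.{u}) m :=
    fun m => CoExtra.obj_d _ m
  match k with
  | 0 =>
    apply isZero_homology_zero
    rw [injective_iff_map_eq_zero]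
    intro n hn
    have h1 : c.ε (γ n) = 0 := (hε n).trans hn
    have h2 : c.π (c.ε (γ n)) = γ n := ConcreteCategory.congr_hom c.ε_π (γ n)
    rw [h1, map_zero] at h2
    exact hγ.1 (h2.symm.trans (map_zero _).symm)
  | 1 =>
    apply isZero_homology_one
    intro z hz
    let h0 : ((cechComplexFunctor U).obj P).X 1 ⟶ ((cechComplexFunctor U).obj P).X 0 := c.h 0
    let ε₀ : G.obj (op ((FormalCoproduct.incl (Opens X)).obj (iSup U))) ⟶
      ((cechComplexFunctor U).obj P).X 0 := c.ε
    let π₀ : ((cechComplexFunctor U).obj P).X 0 ⟶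
      G.obj (op ((FormalCoproduct.incl (Opens X)).obj (iSup U))) := c.π
    have hh : ((cechComplexFunctor U).obj P).d 0 1 ≫ h0 + π₀ ≫ ε₀ =
        𝟙 (((cechComplexFunctor U).obj P).X 0) := by
      rw [hd 0]
      exact c.d_h_zero
    have h1 : h0 (((cechComplexFunctor U).obj P).d 0 1 z) + ε₀ (π₀ z) = z :=
      ConcreteCategory.congr_hom hh z
    have e : h0 (((cechComplexFunctor U).obj P).d 0 1 z) = 0 :=
      (congrArg (fun t => h0 t) hz).trans (map_zero _)
    obtain ⟨n, hn⟩ := hγ.2 (π₀ z)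
    refine ⟨n, ?_⟩
    refine (hε n).symm.trans ?_
    refine (congrArg (fun t => ε₀ t) hn).trans ?_
    exact (zero_add _).symm.trans ((congrArg (fun t => t + ε₀ (π₀ z)) e).symm.trans h1)
  | m + 2 =>
    apply isZero_homology_succ
    intro z hz
    let h0 : ((cechComplexFunctor U).obj P).X (m + 1) ⟶ ((cechComplexFunctor U).obj P).X m := c.h m
    let h1 : ((cechComplexFunctor U).obj P).X (m + 2) ⟶ ((cechComplexFunctor U).obj P).X (m + 1) :=
      c.h (m + 1)
    have hh : ((cechComplexFunctor U).obj P).d (m + 1) (m + 2) ≫ h1 +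
        h0 ≫ ((cechComplexFunctor U).obj P).d m (m + 1) =
        𝟙 (((cechComplexFunctor U).obj P).X (m + 1)) := by
      rw [hd (m + 1), hd m]
      exact c.d_h_succ m
    have h2 : h1 (((cechComplexFunctor U).obj P).d (m + 1) (m + 2) z) +
        ((cechComplexFunctor U).obj P).d m (m + 1) (h0 z) = z :=
      ConcreteCategory.congr_hom hh z
    have e : h1 (((cechComplexFunctor U).obj P).d (m + 1) (m + 2) z) = 0 :=
      (congrArg (fun t => h1 t) hz).trans (map_zero _)
    refine ⟨h0 z, ?_⟩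
    exact (zero_add _).symm.trans ((congrArg
      (fun t => t + ((cechComplexFunctor U).obj P).d m (m + 1) (h0 z)) e).symm.trans h2)

lemma Ur_top (i₀ : ι) : Ur U (U i₀) i₀ = iSup (Ur U (U i₀)) := by
  apply le_antisymm
  · exact le_iSup (Ur U (U i₀)) i₀
  · exact iSup_le fun i => inf_le_right.trans (le_of_eq (inf_idem (U i₀)).symm)

lemma iSup_Ur (i₀ : ι) : iSup (Ur U (U i₀)) = U i₀ := by
  rw [← Ur_top]
  exact inf_idem (U i₀)

include ha in
/-- acyclicity of the augmented Čech complex when restriction to `U i₀` is bijective on all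
finite intersections and on `A` -/
theorem isZero_aug (i₀ : ι)
    (h1 : ∀ (n : ℕ) (x : Fin (n + 1) → ι), Function.Bijective (P.map (rφ U (U i₀) n x).op))
    (h2 : Function.Bijective (a (U i₀))) (k : ℕ) :
    IsZero ((CochainComplex.augment ((cechComplexFunctor U).obj P) (εC U a)
      (εC_d U a ha)).homology k) := by
  have hz := isZero_aug_of_top (Ur U (U i₀)) a ha i₀ (Ur_top U i₀)
    (by rw [iSup_Ur]; exact h2) k
  have := isIso_refineMap U P (U i₀) h1
  have hcomm : εC U a ≫ (refineMap U P (U i₀)).f 0 = 𝟙 A ≫ εC (Ur U (U i₀)) a := by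
    rw [Category.id_comp]
    exact εC_refine U a ha (U i₀)
  have := isIso_augMap (w := εC_d U a ha) (w' := εC_d (Ur U (U i₀)) a ha)
    (refineMap U P (U i₀)) (𝟙 A) hcomm
  exact IsZero.of_iso hz ((HomologicalComplex.homologyFunctor _ _ k).mapIso
    (asIso (augMap (w := εC_d U a ha) (w' := εC_d (Ur U (U i₀)) a ha)
      (refineMap U P (U i₀)) (𝟙 A) hcomm)))

end Acyclic

end Groth.Agent.Lib.Helper98.CechGen
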