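import Groth.Agent.Lib.Helper98.KoszulLES
import Groth.Prelude.Def_ega3

/-!
# helper98: Koszul complexes with module coefficients (`CohIII.koszulCx`, cone model)

* `koszulCx_iso_tensor M fs : Nonempty (K(fs) ⊗ M[0] ≅ koszulCx M fs)`
* `koszulCx_append_singleton_iso M fs g : Nonempty (koszulCx M (fs ++ [g]) ≅ cone(g • 𝟙 (koszulCx M fs)))`
* `inr_homology_surjective`, `inr_homology_ker`, `cone_homology_zero_iso'` (LES consequences for `cone(g • 𝟙 K)`)
* `isZero_koszulCx_X`, `isZero_koszulCx_homology_pos`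
* `koszulCx_homology_zero M fs : H⁰ ≅ M/(fs)M` (no regularity)
* `koszulCx_of_weaklyRegular`: weakly regular on `M` ⇒ `Hⁱ = 0` for `i ≠ 0`.
-/

set_option autoImplicit false
universe u
open CategoryTheory CategoryTheory.Limits MonoidalCategory HomologicalComplex CochainComplex HomComplex
open scoped Pointwise

namespace Helper98.KoszulMod

variable {A : Type u} [CommRing A]

attribute [local instance] HasDerivedCategory.standard

/-- `M` in degree 0 -/
noncomputable abbrev single0 (M : ModuleCat.{u} A) : DRing.Cx A :=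
  (HomologicalComplex.single (ModuleCat.{u} A) (ComplexShape.up ℤ) 0).obj M

theorem koszulCx_iso_tensor (M : ModuleCat.{u} A) (fs : List A) :
    Nonempty ((Koszul.koszul A fs ⊗ single0 M : DRing.Cx A) ≅ CohIII.koszulCx M fs) := by
  induction fs with
  | nil => exact ⟨λ_ (single0 M)⟩
  | cons a l ih =>
    obtain ⟨e⟩ := ih
    exact ⟨Helper98.KoszulTensor.coneSmulTensorIso a (Koszul.koszul A l) (single0 M) ≪≫
      Helper98.KoszulTensor.coneSmulIso a e⟩

theorem koszulCx_append_singleton_iso (M : ModuleCat.{u} A) (fs : List A) (g : A) :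
    Nonempty (CohIII.koszulCx M (fs ++ [g]) ≅ mappingCone (g • 𝟙 (CohIII.koszulCx M fs))) := by
  obtain ⟨e1⟩ := koszulCx_iso_tensor M (fs ++ [g])
  obtain ⟨e2⟩ := koszulCx_iso_tensor M fs
  obtain ⟨c⟩ := Helper98.KoszulLES.koszul_append_singleton_iso fs g
  exact ⟨e1.symm ≪≫ whiskerRightIso c (single0 M) ≪≫
    Helper98.KoszulTensor.coneSmulTensorIso g (Koszul.koszul A fs) (single0 M) ≪≫
    Helper98.KoszulTensor.coneSmulIso g e2⟩


section LES

variable (K : DRing.Cx A) (g : A)

open Helper98.KoszulLES in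
lemma inr_homology_surjective (h1 : IsZero (K.homology 1)) :
    Function.Surjective (homologyMap (mappingCone.inr (g • 𝟙 K)) 0).hom := by
  have e3 := CochainComplex.homologyMap_exact₃_of_distTriang _ (cone_dist K g) 0 1 rfl
  have hepi : Epi (homologyMap (mappingCone.inr (g • 𝟙 K)) 0) := e3.epi_f (h1.eq_of_tgt _ _)
  exact (ModuleCat.epi_iff_surjective _).1 hepi

open Helper98.KoszulLES in
lemma inr_homology_ker (i : ℤ) (x : K.homology i) :
    (homologyMap (mappingCone.inr (g • 𝟙 K)) i).hom x = 0 ↔ ∃ y : K.homology i, g • y = x := by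
  have e2 := CochainComplex.homologyMap_exact₂_of_distTriang _ (cone_dist K g) i
  rw [ShortComplex.moduleCat_exact_iff] at e2
  constructor
  · intro hx
    obtain ⟨y, hy⟩ := e2 x hx
    refine ⟨y, ?_⟩
    change (homologyMap (g • 𝟙 K) i).hom y = x at hy
    rw [homologyMap_smul', homologyMap_id] at hy
    exact hy
  · rintro ⟨y, rfl⟩
    have hz := CochainComplex.homologyMap_comp_eq_zero_of_distTriang _ (cone_dist K g) i
    change homologyMap (g • 𝟙 K) i ≫ homologyMap (mappingCone.inr (g • 𝟙 K)) i = 0 at hz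
    rw [homologyMap_smul', homologyMap_id] at hz
    have := congrArg (fun f => f.hom y) hz
    simpa using this

lemma cone_homology_zero_iso' (N : Type u) [AddCommGroup N] [Module A N]
    (e : K.homology 0 ≅ ModuleCat.of A N) (h1 : IsZero (K.homology 1)) :
    Nonempty ((mappingCone (g • 𝟙 K)).homology 0 ≅ ModuleCat.of A (QuotSMulTop g N)) := by
  have hsurj := inr_homology_surjective K g h1
  have hker := inr_homology_ker K g 0
  let Φ : N →ₗ[A] (mappingCone (g • 𝟙 K)).homology 0 :=
    (homologyMap (mappingCone.inr (g • 𝟙 K)) 0).hom ∘ₗ e.inv.hom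
  have hΦs : Function.Surjective Φ := by
    intro z
    obtain ⟨x, rfl⟩ := hsurj z
    refine ⟨e.hom.hom x, ?_⟩
    simp only [Φ, LinearMap.comp_apply]
    congr 1
    exact congrArg (fun f => f.hom x) e.hom_inv_id
  have hΦk : LinearMap.ker Φ = g • (⊤ : Submodule A N) := by
    ext a
    rw [LinearMap.mem_ker, Submodule.mem_smul_pointwise_iff_exists]
    simp only [Φ, LinearMap.comp_apply]
    rw [hker]
    constructor
    · rintro ⟨y, hy⟩
      refine ⟨e.hom.hom y, Submodule.mem_top, ?_⟩
      rw [← map_smul, hy]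
      exact congrArg (fun f => f.hom a) e.inv_hom_id
    · rintro ⟨b, -, rfl⟩
      exact ⟨e.inv.hom b, (map_smul _ _ _).symm⟩
  exact ⟨(LinearEquiv.toModuleIso ((Submodule.quotEquivOfEq _ _ hΦk).symm ≪≫ₗ
    Φ.quotKerEquivOfSurjective hΦs)).symm⟩

end LES

lemma isZero_koszulCx_X (M : ModuleCat.{u} A) (fs : List A) (i : ℤ) (hi : 0 < i) :
    IsZero ((CohIII.koszulCx M fs).X i) := by
  induction fs generalizing i with
  | nil => exact HomologicalComplex.isZero_single_obj_X _ _ _ _ (by omega)
  | cons a l ih =>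
    change IsZero ((mappingCone (a • 𝟙 (CohIII.koszulCx M l))).X i)
    rw [mappingCone.isZero_X_iff]
    exact ⟨ih _ (by omega), ih _ hi⟩

lemma isZero_koszulCx_homology_pos (M : ModuleCat.{u} A) (fs : List A) (i : ℤ) (hi : 0 < i) :
    IsZero ((CohIII.koszulCx M fs).homology i) :=
  ShortComplex.isZero_homology_of_isZero_X₂ _ (isZero_koszulCx_X M fs i hi)

/-- `M/(l ++ [g])M ≃ (M/(l)M)/g`. -/
noncomputable def quotAppendEquiv (M : Type u) [AddCommGroup M] [Module A M] (l : List A) (g : A) :
    (M ⧸ (Ideal.ofList (l ++ [g]) • ⊤ : Submodule A M)) ≃ₗ[A]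
      QuotSMulTop g (M ⧸ (Ideal.ofList l • ⊤ : Submodule A M)) :=
  Submodule.quotEquivOfEq _ _ (by
    rw [Ideal.ofList_append, Submodule.sup_smul, Ideal.ofList_singleton,
      Submodule.ideal_span_singleton_smul]) ≪≫ₗ
    (Submodule.quotientQuotientEquivQuotientSup (Ideal.ofList l • ⊤) (g • ⊤)).symm ≪≫ₗ
      Submodule.quotEquivOfEq _ _ (by rw [Submodule.map_pointwise_smul, Submodule.map_top, Submodule.range_mkQ])

/-- top Koszul cohomology: `H^0(koszulCx M fs) ≅ M/(fs)M`, no regularity needed. -/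
theorem koszulCx_homology_zero (M : Type u) [AddCommGroup M] [Module A M] (fs : List A) :
    Nonempty ((CohIII.koszulCx (ModuleCat.of A M) fs).homology 0 ≅
      ModuleCat.of A (M ⧸ (Ideal.ofList fs • ⊤ : Submodule A M))) := by
  induction fs using List.reverseRecOn with
  | nil =>
    refine ⟨HomologicalComplex.singleObjHomologySelfIso _ _ _ ≪≫ LinearEquiv.toModuleIso ?_⟩
    exact (Submodule.quotEquivOfEqBot _ (by rw [Ideal.ofList_nil, Submodule.bot_smul])).symm
  | append_singleton l g ih =>
    obtain ⟨e⟩ := ih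
    obtain ⟨c⟩ := koszulCx_append_singleton_iso (ModuleCat.of A M) l g
    obtain ⟨c2⟩ := cone_homology_zero_iso' (CohIII.koszulCx (ModuleCat.of A M) l) g _ e
      (isZero_koszulCx_homology_pos _ _ 1 one_pos)
    refine ⟨(HomologicalComplex.homologyFunctor _ _ 0).mapIso c ≪≫ c2 ≪≫ LinearEquiv.toModuleIso ?_⟩
    exact (quotAppendEquiv M l g).symm


lemma mono_smul_of_iso' {H : ModuleCat.{u} A} (N : Type u) [AddCommGroup N] [Module A N]
    (e : H ≅ ModuleCat.of A N) (g : A) (hg : IsSMulRegular N g) : Mono (g • 𝟙 H) := by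
  rw [ModuleCat.mono_iff_injective]
  intro x y hxy
  change g • x = g • y at hxy
  have h2 : g • e.hom.hom x = g • e.hom.hom y := by
    rw [← map_smul, ← map_smul, hxy]
  have h3 := hg h2
  have hx : e.inv.hom (e.hom.hom x) = x := congrArg (fun f => f.hom x) e.hom_inv_id
  have hy : e.inv.hom (e.hom.hom y) = y := congrArg (fun f => f.hom y) e.hom_inv_id
  rw [← hx, ← hy, h3]

theorem koszulCx_of_weaklyRegular (M : Type u) [AddCommGroup M] [Module A M] (fs : List A)
    (hfs : RingTheory.Sequence.IsWeaklyRegular M fs) (i : ℤ) (hi : i ≠ 0) :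
    IsZero ((CohIII.koszulCx (ModuleCat.of A M) fs).homology i) := by
  induction fs using List.reverseRecOn generalizing i with
  | nil => exact HomologicalComplex.isZero_single_obj_homology _ _ _ _ hi
  | append_singleton l g ih =>
    rw [RingTheory.Sequence.isWeaklyRegular_append_iff, RingTheory.Sequence.isWeaklyRegular_singleton_iff] at hfs
    obtain ⟨hl1, hg⟩ := hfs
    have hz := ih hl1
    obtain ⟨e⟩ := koszulCx_homology_zero M l
    obtain ⟨c⟩ := koszulCx_append_singleton_iso (ModuleCat.of A M) l g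
    have hmono := mono_smul_of_iso' _ e g hg
    refine IsZero.of_iso ?_ ((HomologicalComplex.homologyFunctor _ _ i).mapIso c)
    by_cases h1 : i = -1
    · subst h1
      exact Helper98.KoszulLES.isZero_cone_homology _ g (-1) 0 (by norm_num) (hz _ (by norm_num)) hmono
    · have h2 : IsZero ((CohIII.koszulCx (ModuleCat.of A M) l).homology (i + 1)) := hz _ (by omega)
      exact Helper98.KoszulLES.isZero_cone_homology _ g i (i + 1) rfl (hz _ hi)
        ⟨fun _ _ _ => h2.eq_of_tgt _ _⟩

end Helper98.KoszulMod
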