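import Groth.Agent.Lib.Helper98.LocPresheaf

/-!
# helper98: the comparison `S_V⁻¹ Γ(X, F) → Γ(V, F)` and its bijectivity on basic opens
-/

set_option autoImplicit false
universe u
open AlgebraicGeometry CategoryTheory Opposite TopologicalSpace

namespace Groth.Agent.Lib.Helper98.LocToF

open Groth.Agent.Lib.Helper98.CechGlueGeo Groth.Agent.Lib.Helper98.LocLE
open Groth.Agent.Lib.Helper98.LocPresheaf Groth.Agent.Lib.Helper98.CechGlue

variable {X : Scheme.{u}} (F : X.Modules)

lemma smul_bijective (V : X.Opens) (s : Γ(X, ⊤)) (hs : s ∈ SV V) :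
    Function.Bijective (fun x : PW F V => s • x) := by
  obtain ⟨u, hu⟩ := (mem_SV.mp hs)
  constructor
  · intro x y hxy
    let x' : Γ(F, V) := x
    let y' : Γ(F, V) := y
    have hxy' : rW V s • x' = rW V s • y' := hxy
    exact ((mem_SV.mp hs).smul_left_cancel (x := x') (y := y')).mp hxy'
  · intro y
    refine ⟨(show Γ(F, V) from ((↑u⁻¹ : Γ(X, V)) • (show Γ(F, V) from y))), ?_⟩
    change rW V s • ((↑u⁻¹ : Γ(X, V)) • (show Γ(F, V) from y)) = y
    rw [← hu, smul_smul, Units.mul_inv, one_smul]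

lemma isUnit_end (V : X.Opens) (s : Γ(X, ⊤)) (hs : s ∈ SV V) :
    IsUnit (algebraMap Γ(X, ⊤) (Module.End Γ(X, ⊤) (PW F V)) s) := by
  rw [Module.End.isUnit_iff]
  exact smul_bijective F V s hs

/-- the comparison map `S_V⁻¹ Γ(X, F) → Γ(V, F)` -/
noncomputable def toFLin (V : X.Opens) :
    LocalizedModule (SV V) (PW F ⊤) →ₗ[Γ(X, ⊤)] PW F V :=
  LocalizedModule.lift (SV V) (resW F (le_top : V ≤ ⊤)).hom (fun s => isUnit_end F V s.1 s.2)

lemma toFLin_mk (V : X.Opens) (m : PW F ⊤) (s : SV V) :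
    (s : Γ(X, ⊤)) • toFLin F V (LocalizedModule.mk m s) = (resW F (le_top : V ≤ ⊤)).hom m := by
  have h0 : (s : Γ(X, ⊤)) • toFLin F V (LocalizedModule.mk m s) =
      toFLin F V ((s : Γ(X, ⊤)) • LocalizedModule.mk m s) :=
    (LinearMap.map_smul (toFLin F V) (s : Γ(X, ⊤)) (LocalizedModule.mk m s)).symm
  have h1 : (s : Γ(X, ⊤)) • LocalizedModule.mk m s = LocalizedModule.mk m (1 : SV V) := by
    have : (s : Γ(X, ⊤)) • LocalizedModule.mk m s = LocalizedModule.mk (s • m) s :=
      LocalizedModule.smul'_mk _ _ _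
    rw [this]
    exact LocalizedModule.mk_cancel s m
  rw [h0, h1]
  unfold toFLin
  rw [LocalizedModule.lift_mk_one]

lemma toFLin_unique (V : X.Opens) (m : PW F ⊤) (s : SV V) (y : PW F V)
    (h : (s : Γ(X, ⊤)) • y = (resW F (le_top : V ≤ ⊤)).hom m) :
    toFLin F V (LocalizedModule.mk m s) = y :=
  (smul_bijective F V s.1 s.2).1 ((toFLin_mk F V m s).trans h.symm)

lemma toFLin_res {V W : X.Opens} (h : W ≤ V) (x : LocalizedModule (SV V) (PW F ⊤)) :
    toFLin F W (locLE _ (SV_mono h) x) = (resW F h).hom (toFLin F V x) := by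
  induction x using LocalizedModule.induction_on with
  | h m s =>
    rw [locLE_mk]
    apply toFLin_unique
    change (s : Γ(X, ⊤)) • (resW F h).hom (toFLin F V (LocalizedModule.mk m s)) = _
    rw [← map_smul, toFLin_mk]
    exact res_res' F le_top h m

/-- the comparison morphism of presheaves -/
noncomputable def toF : PN (PW F ⊤) ⟶ F.presheaf where
  app V := AddCommGrpCat.ofHom (toFLin F V.unop).toAddMonoidHom
  naturality V W i := by
    ext x
    exact toFLin_res F (leOfHom i.unop) x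

lemma toF_app_apply (V : (Opens X)ᵒᵖ) (x : LocalizedModule (SV V.unop) (PW F ⊤)) :
    (toF F).app V x = toFLin F V.unop x := rfl

variable [CompactSpace X] [QuasiSeparatedSpace X] [hF : F.IsQuasicoherent]

include hF in
lemma toFLin_bijective (h : Γ(X, ⊤)) (V : X.Opens) (hV : V = X.basicOpen h) :
    Function.Bijective (toFLin F V) := by
  have hloc : IsLocalizedModule (Submonoid.powers h) (resW F (le_top : V ≤ ⊤)).hom :=
    good_top F h V le_top (by rw [hV]; exact (top_inf_eq _).symm)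
  constructor
  · rw [injective_iff_map_eq_zero]
    intro x hx
    induction x using LocalizedModule.induction_on with
    | h m s =>
      have h1 := toFLin_mk F V m s
      rw [hx, smul_zero] at h1
      obtain ⟨⟨_, k, rfl⟩, hk⟩ := (IsLocalizedModule.eq_zero_iff (Submonoid.powers h)
        (resW F (le_top : V ≤ ⊤)).hom).mp h1.symm
      rw [← LocalizedModule.zero_mk (1 : SV V), LocalizedModule.mk_eq]
      refine ⟨⟨h ^ k, pow_mem_SV h k (le_of_eq hV)⟩, ?_⟩
      rw [smul_zero, smul_zero, one_smul]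
      exact hk
  · intro y
    obtain ⟨⟨m, ⟨_, k, rfl⟩⟩, hm⟩ := IsLocalizedModule.surj (Submonoid.powers h)
      (resW F (le_top : V ≤ ⊤)).hom y
    refine ⟨LocalizedModule.mk m ⟨h ^ k, pow_mem_SV h k (le_of_eq hV)⟩, ?_⟩
    apply toFLin_unique
    exact hm

include hF in
lemma isIso_toF_app (h : Γ(X, ⊤)) (V : X.Opens) (hV : V = X.basicOpen h) :
    IsIso ((toF F).app (op V)) := by
  rw [ConcreteCategory.isIso_iff_bijective]
  exact toFLin_bijective F h V hV

end Groth.Agent.Lib.Helper98.LocToF
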