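import Groth.Agent.Lib.Helper98.DimShift
import Groth.Agent.Lib.Helper98.CechGen
import Groth.Agent.Lib.Helper98.LocToF

/-!
# helper98: the augmented full Čech complex of `V ↦ S_V⁻¹N` for the basic opens of a list, as a theory
-/

set_option autoImplicit false
universe u
open AlgebraicGeometry CategoryTheory CategoryTheory.Limits Opposite TopologicalSpace

namespace Groth.Agent.Lib.Helper98.CechTheory

open Groth.Agent.Lib.Helper98.DimShift Groth.Agent.Lib.Helper98.AugAb
open Groth.Agent.Lib.Helper98.CechGen Groth.Agent.Lib.Helper98.LocPresheaf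
open Groth.Agent.Lib.Helper98.CechGlueGeo Groth.Agent.Lib.Helper26.CechLES
open Groth.Agent.Lib.Helper47.ExtCech Groth.Agent.S17776

variable {X : Scheme.{u}}

section Opens

lemma basicOpen_finset_prod {α : Type*} (s : Finset α) (g : α → Γ(X, ⊤)) :
    X.basicOpen (∏ k ∈ s, g k) = ⨅ k ∈ s, X.basicOpen (g k) := by
  classical
  induction s using Finset.induction_on with
  | empty => simp [Scheme.basicOpen_one]
  | insert a s ha ih =>
    rw [Finset.prod_insert ha, Scheme.basicOpen_mul, ih, Finset.iInf_insert]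

lemma basicOpen_prod {α : Type*} [Fintype α] (g : α → Γ(X, ⊤)) :
    X.basicOpen (∏ k, g k) = ⨅ k, X.basicOpen (g k) := by
  rw [basicOpen_finset_prod]
  simp

variable {ι : Type u} (U : ι → X.Opens)

lemma piObj_eq_iInf (n : ℕ) (x : Fin (n + 1) → ι) :
    (∏ᶜ (U ∘ x) : X.Opens) = ⨅ k, U (x k) := by
  apply le_antisymm
  · exact le_iInf fun k => leOfHom (Pi.π (U ∘ x) k)
  · exact leOfHom (Pi.lift (fun k => homOfLE (iInf_le (fun k => U (x k)) k)) :
      (⨅ k, U (x k)) ⟶ ∏ᶜ (U ∘ x))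

end Opens

variable (fs : List Γ(X, ⊤))

/-- the family of basic opens of the list -/
abbrev UU : ULift.{u} (Fin fs.length) → X.Opens := fun i => X.basicOpen (fs.get i.down)

/-- the product of the functions of a tuple of indices -/
noncomputable def hx {n : ℕ} (x : Fin (n + 1) → ULift.{u} (Fin fs.length)) : Γ(X, ⊤) :=
  ∏ k, fs.get (x k).down

lemma piObj_eq {n : ℕ} (x : Fin (n + 1) → ULift.{u} (Fin fs.length)) :
    (∏ᶜ (UU fs ∘ x) : X.Opens) = X.basicOpen (hx fs x) := by
  rw [piObj_eq_iInf, hx, basicOpen_prod]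

lemma piObj_Ur_eq {n : ℕ} (x : Fin (n + 1) → ULift.{u} (Fin fs.length))
    (i₀ : ULift.{u} (Fin fs.length)) :
    (∏ᶜ (Ur (UU fs) (UU fs i₀) ∘ x) : X.Opens) = X.basicOpen (hx fs x * fs.get i₀.down) := by
  rw [piObj_eq_iInf, Scheme.basicOpen_mul, ← piObj_eq, piObj_eq_iInf]
  exact (iInf_inf (f := fun k => UU fs (x k)) (a := UU fs i₀)).symm

lemma piObj_one_eq (x : Fin 1 → ULift.{u} (Fin fs.length)) :
    (∏ᶜ (UU fs ∘ x) : X.Opens) = X.basicOpen (fs.get (x 0).down) := by
  rw [piObj_eq, hx]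
  simp

section Complex

variable (N : ModuleCat.{u} Γ(X, ⊤))

lemma haN {V W : Opens X} (i : op V ⟶ op W) : augN N V ≫ (PN N).map i = augN N W := by
  ext n
  exact augN_map N i n

/-- the Čech complex of `PN N` -/
noncomputable abbrev CN : CochainComplex AddCommGrpCat.{u} ℕ :=
  (cechComplexFunctor (UU fs)).obj (PN N)

/-- the augmentation -/
noncomputable abbrev εN : AddCommGrpCat.of N ⟶ (CN fs N).X 0 :=
  εC (UU fs) (fun V => augN N V)

lemma εN_d : εN fs N ≫ (CN fs N).d 0 1 = 0 := εC_d (UU fs) (fun V => augN N V) (haN N)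

/-- the augmented Čech complex -/
noncomputable abbrev AN : CochainComplex AddCommGrpCat.{u} ℕ :=
  CochainComplex.augment (CN fs N) (εN fs N) (εN_d fs N)

end Complex

section Functor

variable {N N' N'' : ModuleCat.{u} Γ(X, ⊤)}

/-- the underlying morphism of abelian groups -/
noncomputable abbrev gAb (φ : N ⟶ N') : AddCommGrpCat.of N ⟶ AddCommGrpCat.of N' :=
  AddCommGrpCat.ofHom φ.hom.toAddMonoidHom

noncomputable abbrev CNmap (φ : N ⟶ N') : CN fs N ⟶ CN fs N' :=
  (cechComplexFunctor (UU fs)).map (PNmap φ)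

lemma π_CNmap (φ : N ⟶ N') (n : ℕ) (x : Fin (n + 1) → ULift.{u} (Fin fs.length))
    (s : (CN fs N).X n) :
    Pi.π (fun a : Fin (n + 1) → ULift.{u} (Fin fs.length) => (PN N').obj (op (∏ᶜ (UU fs ∘ a)))) x
      ((CNmap fs φ).f n s) = (PNmap φ).app (op (∏ᶜ (UU fs ∘ x)))
      (Pi.π (fun a : Fin (n + 1) → ULift.{u} (Fin fs.length) =>
        (PN N).obj (op (∏ᶜ (UU fs ∘ a)))) x s) :=
  pi_map_apply (fun a : Fin (n + 1) → ULift.{u} (Fin fs.length) =>
    (PNmap φ).app (op (∏ᶜ (UU fs ∘ a)))) s x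

lemma εN_comm (φ : N ⟶ N') : εN fs N ≫ (CNmap fs φ).f 0 = gAb φ ≫ εN fs N' := by
  ext n
  apply cech_ext
  intro x
  change Pi.π (fun a : Fin 1 → ULift.{u} (Fin fs.length) => (PN N').obj (op (∏ᶜ (UU fs ∘ a)))) x
    ((CNmap fs φ).f 0 (εN fs N n)) =
    Pi.π (fun a : Fin 1 → ULift.{u} (Fin fs.length) => (PN N').obj (op (∏ᶜ (UU fs ∘ a)))) x
      (εN fs N' (φ.hom n))
  rw [π_CNmap, π_εC, π_εC]
  exact augN_naturality φ _ n

/-- functoriality of the augmented complex -/
noncomputable abbrev ANmap (φ : N ⟶ N') : AN fs N ⟶ AN fs N' :=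
  augMap (w := εN_d fs N) (w' := εN_d fs N') (CNmap fs φ) (gAb φ) (εN_comm fs φ)

lemma CN_shortExact (a : N ⟶ N') (b : N' ⟶ N'') (h : SES a b) (hz : CNmap fs a ≫ CNmap fs b = 0) :
    (ShortComplex.mk (CNmap fs a) (CNmap fs b) hz).ShortExact := by
  apply HomologicalComplex.shortExact_of_degreewise_shortExact
  intro n
  have hab : a ≫ b = 0 := by
    ext x
    exact (h.2.2 _).mpr ⟨x, rfl⟩
  exact pi_shortExact
    (fun x : Fin (n + 1) → ULift.{u} (Fin fs.length) => (PNmap a).app (op (∏ᶜ (UU fs ∘ x))))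
    (fun x : Fin (n + 1) → ULift.{u} (Fin fs.length) => (PNmap b).app (op (∏ᶜ (UU fs ∘ x))))
    (fun x => by rw [← NatTrans.comp_app, PNmap_comp_zero a b hab]; rfl)
    (fun x => PNmap_injective a h.1 _)
    (fun x => PNmap_surjective b h.2.1 _)
    (fun x => PNmap_exact a b h.2.2 _)

lemma AN_shortExact (a : N ⟶ N') (b : N' ⟶ N'') (h : SES a b) :
    ∃ hz : ANmap fs a ≫ ANmap fs b = 0,
      (ShortComplex.mk (ANmap fs a) (ANmap fs b) hz).ShortExact := by
  have hab : a ≫ b = 0 := by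
    ext x
    exact (h.2.2 _).mpr ⟨x, rfl⟩
  have hzC : CNmap fs a ≫ CNmap fs b = 0 := by
    rw [← Functor.map_comp, PNmap_comp_zero a b hab]
    exact cech_map_zero (UU fs) _ _
  have hzA : gAb a ≫ gAb b = 0 := by
    ext x
    exact (h.2.2 _).mpr ⟨x, rfl⟩
  have hA : (ShortComplex.mk (gAb a) (gAb b) hzA).ShortExact := by
    refine ShortComplex.ShortExact.mk' ?_ ?_ ?_
    · rw [ShortComplex.ab_exact_iff]
      intro y hy
      exact (h.2.2 y).mp hy
    · rw [AddCommGrpCat.mono_iff_injective]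
      exact h.1
    · rw [AddCommGrpCat.epi_iff_surjective]
      exact h.2.1
  have hz := augMap_comp_zero (w := εN_d fs N) (w' := εN_d fs N') (w'' := εN_d fs N'')
    (CNmap fs a) (CNmap fs b) hzC (gAb a) (gAb b) hzA (εN_comm fs a) (εN_comm fs b)
  exact ⟨hz, aug_shortExact (CNmap fs a) (CNmap fs b) hzC (CN_shortExact fs a b h hzC)
    (gAb a) (gAb b) hzA hA (εN_comm fs a) (εN_comm fs b) hz⟩

end Functor

section Theory

lemma subsingleton_CN_X (N : ModuleCat.{u} Γ(X, ⊤)) (hN : ∀ n : N, n ∈ T fs N) (n : ℕ) :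
    Subsingleton ((CN fs N).X n) := by
  refine ⟨fun s s' => ?_⟩
  apply cech_ext
  intro x
  have : Subsingleton ((PN N).obj (op (∏ᶜ (UU fs ∘ x)))) := by
    apply subsingleton_PN N (fs.get (x 0).down) _ (leOfHom (Pi.π (UU fs ∘ x) 0))
    intro m
    exact hN m _ (List.get_mem fs _)
  exact Subsingleton.elim _ _

variable [CompactSpace X] [QuasiSeparatedSpace X]

lemma εN_eq_zero_iff (N : ModuleCat.{u} Γ(X, ⊤)) (n : N) : εN fs N n = 0 ↔ n ∈ T fs N := by
  constructor
  · intro h f hf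
    obtain ⟨i, rfl⟩ := List.get_of_mem hf
    let x : Fin 1 → ULift.{u} (Fin fs.length) := fun _ => ULift.up i
    have h1 : augN N (∏ᶜ (UU fs ∘ x)) n = 0 := by
      rw [← π_εC (UU fs) (fun V => augN N V) x n]
      exact (congrArg _ h).trans (map_zero _)
    exact (augN_eq_zero_iff N (fs.get i) _ (piObj_one_eq fs x) n).mp h1
  · intro h
    apply cech_ext
    intro x
    change Pi.π (fun a : Fin 1 → ULift.{u} (Fin fs.length) => (PN N).obj (op (∏ᶜ (UU fs ∘ a)))) x
      (εN fs N n) = Pi.π (fun a : Fin 1 → ULift.{u} (Fin fs.length) =>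
        (PN N).obj (op (∏ᶜ (UU fs ∘ a)))) x 0
    rw [π_εC, map_zero]
    exact (augN_eq_zero_iff N (fs.get (x 0).down) _ (piObj_one_eq fs x) n).mpr
      (h _ (List.get_mem fs _))

/-- the augmented Čech cohomology as a theory -/
noncomputable def theoryA : Theory fs where
  H k N := ((AN fs N).homology k : AddCommGrpCat.{u})
  grp k N := inferInstance
  mid a b h k h1 h3 := by
    obtain ⟨hz, hS⟩ := AN_shortExact fs a b h
    exact AddCommGrpCat.isZero_iff_subsingleton.mp (isZero_mid hS k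
      (AddCommGrpCat.isZero_iff_subsingleton.mpr h1) (AddCommGrpCat.isZero_iff_subsingleton.mpr h3))
  shift a b h h2 k := by
    obtain ⟨hz, hS⟩ := AN_shortExact fs a b h
    have e := hS.δIso k (k + 1) rfl
      (AddCommGrpCat.isZero_iff_subsingleton.mpr (h2 k))
      (AddCommGrpCat.isZero_iff_subsingleton.mpr (h2 (k + 1)))
    exact ⟨e.symm.addCommGroupIsoToAddEquiv⟩
  quot a b h h1 k hk := by
    obtain ⟨hz, hS⟩ := AN_shortExact fs a b h
    have := isIso_homologyMap_g hS k (k + 1) rfl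
      (AddCommGrpCat.isZero_iff_subsingleton.mpr (h1 k hk))
      (AddCommGrpCat.isZero_iff_subsingleton.mpr (h1 (k + 1) (by omega)))
    exact ⟨(asIso (HomologicalComplex.homologyMap (ANmap fs b) k)).addCommGroupIsoToAddEquiv⟩
  vanish_bij N f hf hbij k := by
    obtain ⟨i, rfl⟩ := List.get_of_mem hf
    apply AddCommGrpCat.isZero_iff_subsingleton.mp
    refine isZero_aug (UU fs) (fun V => augN N V) (haN N) (ULift.up i) ?_ ?_ k
    · intro n x
      exact PN_res_bijective N (hx fs x) (fs.get i) hbij (piObj_eq fs x)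
        (piObj_Ur_eq fs x (ULift.up i)) _
    · exact augN_bijective N (fs.get i) hbij rfl
  vanish_tors N hN k hk := by
    apply AddCommGrpCat.isZero_iff_subsingleton.mp
    match k, hk with
    | 1, _ =>
      apply isZero_homology_one
      intro z _
      have := subsingleton_CN_X fs N hN 0
      exact ⟨0, Subsingleton.elim _ _⟩
    | m + 2, _ =>
      apply isZero_homology_succ
      intro z _
      have := subsingleton_CN_X fs N hN (m + 1)
      exact ⟨0, Subsingleton.elim _ _⟩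
  zero N := by
    refine ⟨(homologyZeroEquiv (CN fs N) (εN fs N) (εN_d fs N)).symm.trans ?_⟩
    exact
      { toFun := fun x => ⟨x.1, (εN_eq_zero_iff fs N x.1).mp x.2⟩
        invFun := fun x => ⟨x.1, (εN_eq_zero_iff fs N x.1).mpr x.2⟩
        left_inv := fun _ => rfl
        right_inv := fun _ => rfl
        map_add' := fun _ _ => rfl }

end Theory

end Groth.Agent.Lib.Helper98.CechTheory
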