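import Mathlib.Algebra.Homology.Augment
import Mathlib.Algebra.Homology.HomologySequence
import Mathlib.Algebra.Homology.ShortComplex.Ab
import Mathlib.Algebra.Homology.HomologicalComplexAbelian
import Mathlib.Algebra.Category.Grp.Abelian
import Mathlib.Algebra.Category.Grp.Limits

/-!
# helper98: consequences of the homology sequence; augmented cochain complexes of abelian groups
-/

set_option autoImplicit false
universe u v w

open CategoryTheory CategoryTheory.Limits

namespace Groth.Agent.Lib.Helper98.AugAb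

section LES

variable {C : Type u} [Category.{v} C] [Abelian C] {ι : Type w} {c : ComplexShape ι}
  {S : ShortComplex (HomologicalComplex C c)} (hS : S.ShortExact)

include hS

lemma isZero_mid (i : ι) (h1 : IsZero (S.X₁.homology i)) (h3 : IsZero (S.X₃.homology i)) :
    IsZero (S.X₂.homology i) :=
  (hS.homology_exact₂ i).isZero_of_both_zeros (h1.eq_of_src _ _) (h3.eq_of_tgt _ _)

lemma isIso_homologyMap_g (i j : ι) (hij : c.Rel i j) (h1 : IsZero (S.X₁.homology i))
    (h1' : IsZero (S.X₁.homology j)) : IsIso (HomologicalComplex.homologyMap S.g i) := by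
  have hm : Mono (HomologicalComplex.homologyMap S.g i) :=
    (hS.homology_exact₂ i).mono_g (h1.eq_of_src _ _)
  have he : Epi (HomologicalComplex.homologyMap S.g i) :=
    (hS.homology_exact₃ i j hij).epi_f (h1'.eq_of_tgt _ _)
  exact isIso_of_mono_of_epi _

end LES

section Aug

open CochainComplex

variable (K : CochainComplex AddCommGrpCat.{u} ℕ) {A : AddCommGrpCat.{u}} (ε : A ⟶ K.X 0)
  (w : ε ≫ K.d 0 1 = 0)

lemma isZero_homology_zero (h : Function.Injective ε) :
    IsZero ((augment K ε w).homology 0) := by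
  rw [← HomologicalComplex.exactAt_iff_isZero_homology,
    HomologicalComplex.exactAt_iff' _ 0 0 1 (by simp) (by simp), ShortComplex.ab_exact_iff]
  intro x hx
  refine ⟨0, ?_⟩
  have hx' : ε x = 0 := hx
  rw [map_zero]
  exact (h (hx'.trans (map_zero _).symm)).symm

lemma isZero_homology_one (h : ∀ z : K.X 0, K.d 0 1 z = 0 → ∃ a, ε a = z) :
    IsZero ((augment K ε w).homology 1) := by
  rw [← HomologicalComplex.exactAt_iff_isZero_homology,
    HomologicalComplex.exactAt_iff' _ 0 1 2 (by simp) (by simp), ShortComplex.ab_exact_iff]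
  intro x hx
  exact h x hx

lemma isZero_homology_succ (n : ℕ)
    (h : ∀ z : K.X (n + 1), K.d (n + 1) (n + 2) z = 0 → ∃ y : K.X n, K.d n (n + 1) y = z) :
    IsZero ((augment K ε w).homology (n + 2)) := by
  rw [← HomologicalComplex.exactAt_iff_isZero_homology,
    HomologicalComplex.exactAt_iff' _ (n + 1) (n + 2) (n + 3) (by simp) (by simp),
    ShortComplex.ab_exact_iff]
  intro x hx
  exact h x hx

/-- the homology of the augmented complex in degrees `≥ 2` -/
noncomputable def homologyIso (n : ℕ) : (augment K ε w).homology (n + 2) ≅ K.homology (n + 1) :=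
  (augment K ε w).homologyIsoSc' (n + 1) (n + 2) (n + 3) (by simp) (by simp) ≪≫
    (show ((augment K ε w).sc' (n + 1) (n + 2) (n + 3)).homology ≅
      (K.sc' n (n + 1) (n + 2)).homology from Iso.refl _) ≪≫
    (K.homologyIsoSc' n (n + 1) (n + 2) (by simp) (by simp)).symm

/-- the inclusion of the kernel of the augmentation -/
noncomputable def kerι : AddCommGrpCat.of (AddMonoidHom.ker ε.hom) ⟶ (augment K ε w).X 0 :=
  AddCommGrpCat.ofHom (AddMonoidHom.ker ε.hom).subtype

lemma kerι_d : kerι K ε w ≫ (augment K ε w).d 0 1 = 0 := by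
  ext x
  exact x.2

noncomputable def kerToH : AddCommGrpCat.of (AddMonoidHom.ker ε.hom) ⟶ (augment K ε w).homology 0 :=
  (augment K ε w).liftCycles (kerι K ε w) 1 (by simp) (kerι_d K ε w) ≫
    (augment K ε w).homologyπ 0

lemma iCycles_lift_apply (x : AddMonoidHom.ker ε.hom) :
    (augment K ε w).iCycles 0
      ((augment K ε w).liftCycles (kerι K ε w) 1 (by simp) (kerι_d K ε w) x) = (x : A) := by
  rw [← ConcreteCategory.comp_apply, HomologicalComplex.liftCycles_i]
  rfl

lemma kerToH_bijective : Function.Bijective (kerToH K ε w) := by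
  have hπ : Function.Bijective ((augment K ε w).homologyπ 0) :=
    ConcreteCategory.bijective_of_isIso _
  have hi : Function.Injective ((augment K ε w).iCycles 0) :=
    (AddCommGrpCat.mono_iff_injective _).1 inferInstance
  constructor
  · intro x y hxy
    have h1 := hπ.1 hxy
    have h2 := congrArg ((augment K ε w).iCycles 0) h1
    exact Subtype.ext ((iCycles_lift_apply K ε w x).symm.trans (h2.trans (iCycles_lift_apply K ε w y)))
  · intro c
    obtain ⟨z, rfl⟩ := hπ.2 c
    have hz : ε ((augment K ε w).iCycles 0 z) = 0 := by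
      change (augment K ε w).d 0 1 ((augment K ε w).iCycles 0 z) = 0
      rw [← ConcreteCategory.comp_apply, HomologicalComplex.iCycles_d]
      rfl
    let x : AddMonoidHom.ker ε.hom := ⟨(augment K ε w).iCycles 0 z, hz⟩
    refine ⟨x, ?_⟩
    change (augment K ε w).homologyπ 0 _ = _
    congr 1
    apply hi
    exact iCycles_lift_apply K ε w x

/-- `H⁰` of the augmented complex is the kernel of the augmentation -/
noncomputable def homologyZeroEquiv :
    AddMonoidHom.ker ε.hom ≃+ (augment K ε w).homology 0 :=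
  AddEquiv.ofBijective (kerToH K ε w).hom (kerToH_bijective K ε w)

end Aug

section AugMap

open CochainComplex

variable {K K' K'' : CochainComplex AddCommGrpCat.{u} ℕ} {A A' A'' : AddCommGrpCat.{u}}
  {ε : A ⟶ K.X 0} {w : ε ≫ K.d 0 1 = 0} {ε' : A' ⟶ K'.X 0} {w' : ε' ≫ K'.d 0 1 = 0}
  {ε'' : A'' ⟶ K''.X 0} {w'' : ε'' ≫ K''.d 0 1 = 0}

/-- functoriality of augmentation -/
noncomputable def augMap (φ : K ⟶ K') (g : A ⟶ A') (comm : ε ≫ φ.f 0 = g ≫ ε') :
    augment K ε w ⟶ augment K' ε' w' where
  f
    | 0 => g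
    | n + 1 => φ.f n
  comm' i j hij := by
    obtain rfl : i + 1 = j := hij
    cases i with
    | zero => exact comm.symm
    | succ i => exact φ.comm i (i + 1)

@[simp] lemma augMap_f_zero (φ : K ⟶ K') (g : A ⟶ A') (comm : ε ≫ φ.f 0 = g ≫ ε') :
    (augMap (w := w) (w' := w') φ g comm).f 0 = g := rfl

@[simp] lemma augMap_f_succ (φ : K ⟶ K') (g : A ⟶ A') (comm : ε ≫ φ.f 0 = g ≫ ε') (n : ℕ) :
    (augMap (w := w) (w' := w') φ g comm).f (n + 1) = φ.f n := rfl

lemma isIso_augMap (φ : K ⟶ K') (g : A ⟶ A') (comm : ε ≫ φ.f 0 = g ≫ ε') [IsIso φ] [IsIso g] :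
    IsIso (augMap (w := w) (w' := w') φ g comm) := by
  have : ∀ n, IsIso ((augMap (w := w) (w' := w') φ g comm).f n) := by
    intro n
    cases n with
    | zero => exact (inferInstance : IsIso g)
    | succ n => exact (inferInstance : IsIso (φ.f n))
  exact HomologicalComplex.Hom.isIso_of_components _

/-- a short exact sequence of augmented complexes -/
lemma aug_shortExact (φ : K ⟶ K') (ψ : K' ⟶ K'') (hφψ : φ ≫ ψ = 0)
    (hK : (ShortComplex.mk φ ψ hφψ).ShortExact)
    (g : A ⟶ A') (g' : A' ⟶ A'') (hgg' : g ≫ g' = 0) (hA : (ShortComplex.mk g g' hgg').ShortExact)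
    (comm : ε ≫ φ.f 0 = g ≫ ε') (comm' : ε' ≫ ψ.f 0 = g' ≫ ε'')
    (hzero : augMap (w := w) (w' := w') φ g comm ≫ augMap (w := w') (w' := w'') ψ g' comm' = 0) :
    (ShortComplex.mk (augMap (w := w) (w' := w') φ g comm)
      (augMap (w := w') (w' := w'') ψ g' comm') hzero).ShortExact := by
  apply HomologicalComplex.shortExact_of_degreewise_shortExact
  intro i
  cases i with
  | zero => exact hA
  | succ n => exact hK.map_of_exact (HomologicalComplex.eval _ _ n)

lemma augMap_comp_zero (φ : K ⟶ K') (ψ : K' ⟶ K'') (hφψ : φ ≫ ψ = 0)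
    (g : A ⟶ A') (g' : A' ⟶ A'') (hgg' : g ≫ g' = 0)
    (comm : ε ≫ φ.f 0 = g ≫ ε') (comm' : ε' ≫ ψ.f 0 = g' ≫ ε'') :
    augMap (w := w) (w' := w') φ g comm ≫ augMap (w := w') (w' := w'') ψ g' comm' = 0 := by
  ext i : 1
  cases i with
  | zero => exact hgg'
  | succ n => exact congrArg (fun k => k.f n) hφψ

end AugMap

end Groth.Agent.Lib.Helper98.AugAb
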