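import Mathlib.Algebra.Module.LocalizedModule.Exact
import Mathlib.Algebra.Module.LocalizedModule.Away

/-!
# helper98: comparison maps `S⁻¹N → S'⁻¹N` for `S ≤ S'` and the localisation functor `lmap`
-/

set_option autoImplicit false
universe u v

namespace Groth.Agent.Lib.Helper98.LocLE

variable {R : Type u} [CommRing R]

section LE

variable {S S' S'' : Submonoid R} (N : Type v) [AddCommGroup N] [Module R N]

/-- the canonical map `S⁻¹N → S'⁻¹N` for `S ≤ S'` -/
noncomputable def locLE (h : S ≤ S') : LocalizedModule S N →ₗ[R] LocalizedModule S' N :=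
  LocalizedModule.lift S (LocalizedModule.mkLinearMap S' N)
    (fun s => IsLocalizedModule.map_units (LocalizedModule.mkLinearMap S' N) ⟨s.1, h s.2⟩)

lemma locLE_mk (h : S ≤ S') (n : N) (s : S) :
    locLE N h (LocalizedModule.mk n s) = LocalizedModule.mk n ⟨s.1, h s.2⟩ := by
  unfold locLE
  rw [LocalizedModule.lift_mk, Module.End.algebraMap_isUnit_inv_apply_eq_iff,
    LocalizedModule.mkLinearMap_apply]
  have : (s : R) • LocalizedModule.mk n (⟨s.1, h s.2⟩ : S') =
      LocalizedModule.mk ((⟨s.1, h s.2⟩ : S') • n) (⟨s.1, h s.2⟩ : S') :=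
    LocalizedModule.smul'_mk _ _ _
  rw [this]
  exact (LocalizedModule.mk_cancel _ n).symm

lemma locLE_refl (x : LocalizedModule S N) : locLE N (le_refl S) x = x := by
  induction x using LocalizedModule.induction_on with
  | h n s => rw [locLE_mk]

lemma locLE_trans (h : S ≤ S') (h' : S' ≤ S'') (x : LocalizedModule S N) :
    locLE N h' (locLE N h x) = locLE N (h.trans h') x := by
  induction x using LocalizedModule.induction_on with
  | h n s => rw [locLE_mk, locLE_mk, locLE_mk]

/-- bijectivity criterion for `S⁻¹N → S'⁻¹N` -/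
lemma locLE_bijective (h : S ≤ S')
    (hS : ∀ t ∈ S', ∃ (a : R) (s : R) (w : R), s ∈ S ∧ t * a = s * w ∧
      Function.Bijective (fun n : N => w • n)) :
    Function.Bijective (locLE N h) := by
  constructor
  · rw [injective_iff_map_eq_zero]
    intro x hx
    induction x using LocalizedModule.induction_on with
    | h n s₀ =>
      rw [locLE_mk, ← LocalizedModule.zero_mk (1 : S'), LocalizedModule.mk_eq] at hx
      obtain ⟨t, ht⟩ := hx
      rw [smul_zero, smul_zero, one_smul] at ht
      obtain ⟨a, s, w, hs, he, hw⟩ := hS t.1 t.2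
      have h1 : w • (s • n) = 0 := by
        rw [smul_smul, mul_comm w s, ← he, mul_comm, mul_smul]
        have : (t : R) • n = 0 := ht
        rw [this, smul_zero]
      have h2 : s • n = 0 := hw.1 (by simpa using h1)
      rw [← LocalizedModule.zero_mk (1 : S), LocalizedModule.mk_eq]
      refine ⟨⟨s, hs⟩, ?_⟩
      rw [smul_zero, smul_zero, one_smul]
      exact h2
  · intro y
    induction y using LocalizedModule.induction_on with
    | h n t =>
      obtain ⟨a, s, w, hs, he, hw⟩ := hS t.1 t.2
      obtain ⟨n', hn'⟩ := hw.2 (a • n)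
      replace hn' : w • n' = a • n := hn'
      refine ⟨LocalizedModule.mk n' ⟨s, hs⟩, ?_⟩
      rw [locLE_mk, LocalizedModule.mk_eq]
      refine ⟨1, ?_⟩
      rw [one_smul, one_smul]
      change (t : R) • n' = s • n
      apply hw.1
      change w • ((t : R) • n') = w • (s • n)
      rw [smul_comm w (t : R) n', hn', smul_smul, he, smul_smul, mul_comm]

/-- bijectivity criterion for `N → S'⁻¹N` -/
lemma mk_bijective
    (hS : ∀ t ∈ S', ∃ (a : R) (w : R), t * a = w ∧ Function.Bijective (fun n : N => w • n)) :
    Function.Bijective (LocalizedModule.mkLinearMap S' N) := by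
  constructor
  · rw [injective_iff_map_eq_zero]
    intro n hn
    rw [IsLocalizedModule.eq_zero_iff S'] at hn
    obtain ⟨t, ht⟩ := hn
    obtain ⟨a, w, he, hw⟩ := hS t.1 t.2
    apply hw.1
    change w • n = w • 0
    rw [smul_zero, ← he, mul_comm, mul_smul]
    have : (t : R) • n = 0 := ht
    rw [this, smul_zero]
  · intro y
    induction y using LocalizedModule.induction_on with
    | h n t =>
      obtain ⟨a, w, he, hw⟩ := hS t.1 t.2
      obtain ⟨n', hn'⟩ := hw.2 (a • n)
      replace hn' : w • n' = a • n := hn'
      refine ⟨n', ?_⟩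
      rw [LocalizedModule.mkLinearMap_apply, LocalizedModule.mk_eq]
      refine ⟨1, ?_⟩
      rw [one_smul, one_smul, one_smul]
      change (t : R) • n' = n
      apply hw.1
      change w • ((t : R) • n') = w • n
      rw [smul_comm w (t : R) n', hn', smul_smul, he]

/-- torsion modules have trivial localisation -/
lemma subsingleton_of_tors (hS : ∀ n : N, ∃ t ∈ S', t • n = 0) :
    Subsingleton (LocalizedModule S' N) := by
  refine ⟨fun x y => ?_⟩
  have hz : ∀ z : LocalizedModule S' N, z = 0 := by
    intro z
    induction z using LocalizedModule.induction_on with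
    | h n s =>
      obtain ⟨t, ht, htn⟩ := hS n
      rw [← LocalizedModule.zero_mk (1 : S'), LocalizedModule.mk_eq]
      refine ⟨⟨t, ht⟩, ?_⟩
      rw [smul_zero, smul_zero, one_smul]
      exact htn
  rw [hz x, hz y]

end LE

section Map

variable (S : Submonoid R) {S' : Submonoid R} {N N' N'' : Type v} [AddCommGroup N] [Module R N]
  [AddCommGroup N'] [Module R N'] [AddCommGroup N''] [Module R N'']

/-- the localisation of a linear map -/
noncomputable abbrev lmap (g : N →ₗ[R] N') : LocalizedModule S N →ₗ[R] LocalizedModule S N' :=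
  IsLocalizedModule.map S (LocalizedModule.mkLinearMap S N) (LocalizedModule.mkLinearMap S N') g

lemma lmap_mk (g : N →ₗ[R] N') (n : N) (s : S) :
    lmap S g (LocalizedModule.mk n s) = LocalizedModule.mk (g n) s :=
  IsLocalizedModule.map_LocalizedModules S g n s

lemma lmap_injective (g : N →ₗ[R] N') (h : Function.Injective g) : Function.Injective (lmap S g) :=
  IsLocalizedModule.map_injective S _ _ _ h

lemma lmap_surjective (g : N →ₗ[R] N') (h : Function.Surjective g) :
    Function.Surjective (lmap S g) :=
  IsLocalizedModule.map_surjective S _ _ _ h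

lemma lmap_exact (g : N →ₗ[R] N') (g' : N' →ₗ[R] N'') (h : Function.Exact g g') :
    Function.Exact (lmap S g) (lmap S g') :=
  LocalizedModule.map_exact S g g' h

lemma lmap_locLE (h : S ≤ S') (g : N →ₗ[R] N') (x : LocalizedModule S N) :
    lmap S' g (locLE N h x) = locLE N' h (lmap S g x) := by
  induction x using LocalizedModule.induction_on with
  | h n s => rw [locLE_mk, lmap_mk, lmap_mk, locLE_mk]

end Map

end Groth.Agent.Lib.Helper98.LocLE
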