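import Groth.Agent.Lib.Helper98.DimShift
import Groth.Agent.Lib.Helper98.CechFun
import Groth.Agent.Lib.Helper98.AugAb
import Groth.Agent.Lib.Helper98.LocLE

/-!
# helper98: the cohomology of the extended alternating Čech complex as a `DimShift.Theory`
-/

set_option autoImplicit false
universe u
open CategoryTheory CategoryTheory.Limits

namespace Groth.Agent.Lib.Helper98.ExtCechTheory

open Groth.Agent.Lib.Helper98.DimShift Groth.Agent.Lib.Helper98.AugAb
open Groth.Agent.Lib.Helper47.ExtCech Helper98.CechFun Helper98.KoszulFun Groth.Agent.S17776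

variable {R : Type u} [CommRing R]

/-- `f`-power torsion modules -/
def Tors (f : R) (N : ModuleCat.{u} R) : Prop := ∀ n : N, ∃ k : ℕ, f ^ k • n = 0

theorem Tors.of_iso {f : R} {X Y : ModuleCat.{u} R} (e : X ≅ Y) (h : Tors f X) : Tors f Y := by
  intro y
  obtain ⟨k, hk⟩ := h (e.inv.hom y)
  refine ⟨k, ?_⟩
  have h1 : e.hom.hom (e.inv.hom y) = y := congrArg (fun φ : Y ⟶ Y => φ.hom y) e.inv_hom_id
  rw [← h1, ← map_smul, hk, map_zero]

theorem Tors.of_isZero {f : R} {X : ModuleCat.{u} R} (h : IsZero X) : Tors f X := by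
  have := ModuleCat.isZero_iff_subsingleton.mp h
  intro x
  exact ⟨0, Subsingleton.elim _ _⟩

theorem Tors.biprod {f : R} {X Y : ModuleCat.{u} R} (hX : Tors f X) (hY : Tors f Y) :
    Tors f (X ⊞ Y) := by
  refine Tors.of_iso (ModuleCat.biprodIsoProd X Y).symm ?_
  rintro ⟨x, y⟩
  obtain ⟨k, hk⟩ := hX x
  obtain ⟨l, hl⟩ := hY y
  refine ⟨k + l, ?_⟩
  change ((f ^ (k + l) • x, f ^ (k + l) • y) : X × Y) = 0
  rw [Prod.mk_eq_zero]
  constructor
  · rw [pow_add, mul_comm, mul_smul, hk, smul_zero]
  · rw [pow_add, mul_smul, hl, smul_zero]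

theorem Tors.loc {f : R} (S : Submonoid R) {X : ModuleCat.{u} R} (hX : Tors f X) :
    Tors f ((DerCA.locFunctor S).obj X) := by
  intro p
  change LocalizedModule S X at p
  induction p using LocalizedModule.induction_on with
  | h m s =>
    obtain ⟨k, hk⟩ := hX m
    refine ⟨k, ?_⟩
    change f ^ k • LocalizedModule.mk m s = 0
    rw [LocalizedModule.smul'_mk, hk, LocalizedModule.zero_mk]

theorem tors_extCech_X (f : R) (M : ModuleCat.{u} R) (hM : Tors f M) (fs : List R) :
    ∀ n : ℤ, Tors f ((DerCA.extCech M fs).X n) := by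
  induction fs with
  | nil =>
    intro n
    by_cases hn : n = 0
    · subst hn
      exact Tors.of_iso (HomologicalComplex.singleObjXSelf (ComplexShape.up ℤ) 0 M).symm hM
    · exact Tors.of_isZero (HomologicalComplex.isZero_single_obj_X _ _ _ _ hn)
  | cons g gs ih =>
    intro n
    refine Tors.of_iso (DerCA.mappingCoconeXIso
      (DerCA.locCxUnit (Submonoid.powers g) (DerCA.extCech M gs)) n).symm ?_
    exact Tors.biprod (ih n) (Tors.loc _ (ih (n - 1)))

theorem isZero_extCech_X (M : ModuleCat.{u} R) (fs : List R) (h : ∀ f ∈ fs, Tors f M) :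
    ∀ n : ℤ, 1 ≤ n → IsZero ((DerCA.extCech M fs).X n) := by
  induction fs with
  | nil =>
    intro n hn
    exact HomologicalComplex.isZero_single_obj_X _ _ _ _ (by omega)
  | cons g gs ih =>
    intro n hn
    refine IsZero.of_iso ?_ (DerCA.mappingCoconeXIso
      (DerCA.locCxUnit (Submonoid.powers g) (DerCA.extCech M gs)) n)
    have h1 : IsZero ((DerCA.extCech M gs).X n) :=
      ih (fun f hf => h f (List.mem_cons_of_mem _ hf)) n hn
    have h2 : IsZero (((DerCA.locCx (Submonoid.powers g)).obj (DerCA.extCech M gs)).X (n - 1)) := by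
      have ht := tors_extCech_X g M (h g List.mem_cons_self) gs (n - 1)
      have : Subsingleton (LocalizedModule (Submonoid.powers g) ((DerCA.extCech M gs).X (n - 1))) := by
        apply Groth.Agent.Lib.Helper98.LocLE.subsingleton_of_tors
        intro x
        obtain ⟨k, hk⟩ := ht x
        exact ⟨g ^ k, ⟨k, rfl⟩, hk⟩
      exact ModuleCat.isZero_of_subsingleton
        (ModuleCat.of R (LocalizedModule (Submonoid.powers g) ((DerCA.extCech M gs).X (n - 1))))
    rw [IsZero.iff_id_eq_zero]
    apply biprod.hom_ext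
    · exact h1.eq_of_tgt _ _
    · exact h2.eq_of_tgt _ _

section Theory

variable (fs : List R)

lemma shortExact_cech {N₁ N₂ N₃ : ModuleCat.{u} R} (a : N₁ ⟶ N₂) (b : N₂ ⟶ N₃) (h : SES a b) :
    (ShortComplex.mk (cechMap a fs) (cechMap b fs)
      (dse_comp_zero _ _ (dse_cechMap a b h.1 h.2.1 h.2.2 fs))).ShortExact :=
  shortExact_of_dse _ _ (dse_cechMap a b h.1 h.2.1 h.2.2 fs)

/-- the cohomology of the extended Čech complex as a theory -/
noncomputable def theoryB : Theory fs where
  H k N := ((DerCA.extCech N fs).homology (k : ℤ) : ModuleCat.{u} R)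
  grp k N := inferInstance
  mid a b h k h1 h3 := by
    have hS := shortExact_cech fs a b h
    exact ModuleCat.isZero_iff_subsingleton.mp (isZero_mid hS (k : ℤ)
      (ModuleCat.isZero_iff_subsingleton.mpr h1) (ModuleCat.isZero_iff_subsingleton.mpr h3))
  shift a b h h2 k := by
    have hS := shortExact_cech fs a b h
    have e := hS.δIso (k : ℤ) ((k + 1 : ℕ) : ℤ) (by simp)
      (ModuleCat.isZero_iff_subsingleton.mpr (h2 k))
      (ModuleCat.isZero_iff_subsingleton.mpr (h2 (k + 1)))
    exact ⟨e.symm.toLinearEquiv.toAddEquiv⟩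
  quot a b h h1 k hk := by
    have hS := shortExact_cech fs a b h
    have := isIso_homologyMap_g hS (k : ℤ) ((k + 1 : ℕ) : ℤ) (by simp)
      (ModuleCat.isZero_iff_subsingleton.mpr (h1 k hk))
      (ModuleCat.isZero_iff_subsingleton.mpr (h1 (k + 1) (by omega)))
    exact ⟨(asIso (HomologicalComplex.homologyMap (cechMap b fs) (k : ℤ))).toLinearEquiv.toAddEquiv⟩
  vanish_bij N f hf hbij k :=
    ModuleCat.isZero_iff_subsingleton.mp
      (isZero_extCechH_of_actsBij fs N f (Ideal.subset_span hf) hbij (k : ℤ))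
  vanish_tors N hN k hk := by
    have hz : IsZero ((DerCA.extCech N fs).X (k : ℤ)) :=
      isZero_extCech_X N fs (fun f hf n => hN n f hf) (k : ℤ) (by exact_mod_cast hk)
    exact ModuleCat.isZero_iff_subsingleton.mp
      (HomologicalComplex.ExactAt.of_isZero hz).isZero_homology
  zero N := by
    obtain ⟨hi, hr⟩ := iotaHom_spec N fs
    exact ⟨((LinearEquiv.ofInjective (iotaHom N fs).hom hi).trans
      (LinearEquiv.ofEq _ _ hr)).toAddEquiv⟩

end Theory

end Groth.Agent.Lib.Helper98.ExtCechTheory
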