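import Groth.Agent.Lib.Helper98.CechGlueSys
import Groth.Agent.S4340
import Groth.Agent.S4341

set_option autoImplicit false
universe u
open AlgebraicGeometry CategoryTheory Opposite TopologicalSpace

namespace Groth.Agent.Lib.Helper98.CechGlueGeo

variable {X : Scheme.{u}} (F : X.Modules)

/-- restriction of global functions -/
noncomputable def rW (W : X.Opens) : Γ(X, ⊤) →+* Γ(X, W) :=
  (X.presheaf.map (homOfLE (le_top : W ≤ ⊤)).op).hom

@[reducible] noncomputable def instMod (W : X.Opens) : Module Γ(X, ⊤) Γ(F, W) :=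
  Module.compHom _ (rW W)

noncomputable def PW (W : X.Opens) : ModuleCat.{u} Γ(X, ⊤) :=
  @ModuleCat.of Γ(X, ⊤) _ Γ(F, W) _ (instMod F W)

lemma PW_smul (W : X.Opens) (r : Γ(X, ⊤)) (s : PW F W) :
    r • s = (show Γ(F, W) from (rW W r • (show Γ(F, W) from s))) := rfl

lemma rW_res {V W : X.Opens} (h : V ≤ W) (r : Γ(X, ⊤)) :
    X.presheaf.map (homOfLE h).op (rW W r) = rW V r := by
  unfold rW
  rw [← CommRingCat.comp_apply, ← Functor.map_comp]
  rfl

noncomputable def resW {V W : X.Opens} (h : V ≤ W) : PW F W ⟶ PW F V :=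
  @ModuleCat.ofHom Γ(X, ⊤) _ Γ(F, W) Γ(F, V) _ (instMod F W) _ (instMod F V)
    (@LinearMap.mk _ _ _ _ (RingHom.id _) Γ(F, W) Γ(F, V) _ _ (instMod F W) (instMod F V)
      ⟨fun s => F.presheaf.map (homOfLE h).op s, fun a b => map_add _ a b⟩
      (fun r s => by
        change F.presheaf.map (homOfLE h).op (rW W r • s) = rW V r • F.presheaf.map (homOfLE h).op s
        rw [Scheme.Modules.map_smul, rW_res]))

lemma resW_apply {V W : X.Opens} (h : V ≤ W) (s : PW F W) :
    (resW F h).hom s = F.presheaf.map (homOfLE h).op (show Γ(F, W) from s) := rfl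

theorem res_res' {U V W : X.Opens} (h1 : V ≤ U) (h2 : W ≤ V)
    (s : Γ(F, U)) :
    F.presheaf.map (homOfLE h2).op (F.presheaf.map (homOfLE h1).op s) =
      F.presheaf.map (homOfLE (h2.trans h1)).op s := by
  rw [← ConcreteCategory.comp_apply, ← Functor.map_comp]
  rfl

theorem res_id' (U : X.Opens) (s : Γ(F, U)) :
    F.presheaf.map (homOfLE (le_refl U)).op s = s := by
  have : (homOfLE (le_refl U)).op = 𝟙 (op U) := rfl
  rw [this, F.presheaf.map_id]
  rfl

theorem bot_eq (s : Γ(F, ⊥)) : s = 0 := by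
  refine TopCat.Sheaf.eq_of_locally_eq' ⟨F.presheaf, F.isSheaf⟩ (fun i : Empty => i.elim) ⊥
    (fun i => i.elim) ?_ _ _ (fun i => i.elim)
  exact bot_le

theorem sep_eq {V₁ V₂ V : X.Opens} (h₁ : V₁ ≤ V) (h₂ : V₂ ≤ V) (hc : V ≤ V₁ ⊔ V₂) (s : Γ(F, V))
    (e₁ : F.presheaf.map (homOfLE h₁).op s = 0) (e₂ : F.presheaf.map (homOfLE h₂).op s = 0) :
    s = 0 := by
  refine TopCat.Sheaf.eq_of_locally_eq₂ ⟨F.presheaf, F.isSheaf⟩ (homOfLE h₁) (homOfLE h₂) hc s 0 ?_ ?_
  · rw [map_zero]; exact e₁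
  · rw [map_zero]; exact e₂

theorem glue_eq {V₁ V₂ V V₁₂ : X.Opens} (h₁ : V₁ ≤ V) (h₂ : V₂ ≤ V) (h : V₁₂ ≤ V₁) (h' : V₁₂ ≤ V₂)
    (hc : V ≤ V₁ ⊔ V₂) (hi : V₁ ⊓ V₂ ≤ V₁₂) (s₁ : Γ(F, V₁)) (s₂ : Γ(F, V₂))
    (e : F.presheaf.map (homOfLE h).op s₁ = F.presheaf.map (homOfLE h').op s₂) :
    ∃ s : Γ(F, V), F.presheaf.map (homOfLE h₁).op s = s₁ ∧ F.presheaf.map (homOfLE h₂).op s = s₂ := by
  let U : Bool → X.Opens := fun b => match b with
    | true => V₁
    | false => V₂
  let sf : ∀ b : Bool, Γ(F, U b) := fun b => match b with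
    | true => s₁
    | false => s₂
  have e' : F.presheaf.map (homOfLE (inf_le_left : V₁ ⊓ V₂ ≤ V₁)).op s₁ =
      F.presheaf.map (homOfLE (inf_le_right : V₁ ⊓ V₂ ≤ V₂)).op s₂ := by
    have := congrArg (F.presheaf.map (homOfLE hi).op) e
    rw [res_res', res_res'] at this
    exact this
  have hcompat : TopCat.Presheaf.IsCompatible F.presheaf U sf := by
    rintro (_ | _) (_ | _)
    · rfl
    · have := congrArg (F.presheaf.map (homOfLE (le_of_eq (inf_comm V₂ V₁))).op) e'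
      rw [res_res', res_res'] at this
      exact this.symm
    · exact e'
    · rfl
  obtain ⟨s, hs, -⟩ := TopCat.Sheaf.existsUnique_gluing' ⟨F.presheaf, F.isSheaf⟩ U V
    (fun b => match b with
      | true => homOfLE h₁
      | false => homOfLE h₂) (by
      refine hc.trans (sup_le ?_ ?_)
      · exact le_iSup U true
      · exact le_iSup U false) sf hcompat
  exact ⟨s, hs true, hs false⟩


open Groth.Agent.Lib.Helper98.CechGlue

/-- the system attached to an `O_X`-module -/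
noncomputable def sys : Sys Γ(X, ⊤) X.Opens where
  P := PW F
  res := fun h => resW F h
  res_id := fun W s => res_id' F W s
  res_res := fun h₁ h₂ s => res_res' F h₂ h₁ s
  bot := fun s => bot_eq F s
  sep := fun h₁ h₂ hc s e₁ e₂ => sep_eq F h₁ h₂ hc s e₁ e₂
  glue := fun h₁ h₂ h h' hc hi s₁ s₂ e => glue_eq F h₁ h₂ h h' hc hi s₁ s₂ e
  D := fun f => X.basicOpen f
  D_mul := fun f g => Scheme.basicOpen_mul X f g

lemma rW_top (r : Γ(X, ⊤)) : rW (X := X) ⊤ r = r := by
  unfold rW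
  have : (homOfLE (le_top : (⊤ : X.Opens) ≤ ⊤)).op = 𝟙 (op ⊤) := rfl
  rw [this, X.presheaf.map_id]
  rfl

lemma isUnit_rW (h : Γ(X, ⊤)) : IsUnit (rW (X.basicOpen h) h) :=
  RingedSpace.isUnit_res_basicOpen X.toRingedSpace h

theorem good_top [CompactSpace X] [QuasiSeparatedSpace X] [hF : F.IsQuasicoherent] :
    (sys F).good ⊤ := by
  intro h V hV hVe
  obtain rfl : V = X.basicOpen h := by rw [hVe]; exact top_inf_eq _
  apply IsLocalizedModule.Away.mk_of_addCommGroup
  · rw [Module.End.isUnit_iff]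
    constructor
    · intro x y hxy
      let x' : Γ(F, X.basicOpen h) := x
      let y' : Γ(F, X.basicOpen h) := y
      have hxy' : rW (X.basicOpen h) h • x' = rW (X.basicOpen h) h • y' := hxy
      exact ((isUnit_rW h).smul_left_cancel (x := x') (y := y')).mp hxy'
    · intro y
      obtain ⟨u, hu⟩ := isUnit_rW (X := X) h
      refine ⟨(show Γ(F, X.basicOpen h) from ((↑u⁻¹ : Γ(X, X.basicOpen h)) • (show Γ(F, X.basicOpen h) from y))), ?_⟩
      change rW (X.basicOpen h) h • ((↑u⁻¹ : Γ(X, X.basicOpen h)) • (show Γ(F, X.basicOpen h) from y)) = y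
      rw [← hu, smul_smul, Units.mul_inv, one_smul]
  · intro x
    obtain ⟨n, -, s, hs⟩ := Groth.Agent.S4341.main X h F (show Γ(F, X.basicOpen h) from x)
    refine ⟨n, s, ?_⟩
    change rW (X.basicOpen h) (h ^ n) • (show Γ(F, X.basicOpen h) from x) =
      F.presheaf.map (homOfLE hV).op s
    rw [hs, map_pow]
    rfl
  · intro x hx
    obtain ⟨n, -, hn⟩ := Groth.Agent.S4340.glue X h F (show Γ(F, ⊤) from x) hx
    refine ⟨n, ?_⟩
    change rW ⊤ (h ^ n) • (show Γ(F, ⊤) from x) = 0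
    rw [rW_top]
    exact hn

end Groth.Agent.Lib.Helper98.CechGlueGeo
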