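import Mathlib.Algebra.Category.ModuleCat.Basic
import Mathlib.Algebra.Module.LocalizedModule.Away
import Mathlib.Order.Lattice

/-!
# helper98: abstract "sheaf of modules with localising basic opens" systems

`Sys R L` : a presheaf `P` of `R`-modules on a distributive lattice `L` with bottom, satisfying binary
gluing/separation, `P ⊥ = 0`, together with "basic opens" `D : R → L`, `D (f * g) = D f ⊓ D g`.
`Sys.good W` : for every `h`, the restriction `P W → P (W ⊓ D h)` is a localisation at `h`.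
-/

set_option autoImplicit false
universe u v

namespace Groth.Agent.Lib.Helper98.CechGlue

structure Sys (R : Type u) [CommRing R] (L : Type v) [DistribLattice L] [OrderBot L] where
  P : L → ModuleCat.{u} R
  res : ∀ {V W : L}, V ≤ W → (P W ⟶ P V)
  res_id : ∀ (W : L) (s : P W), (res (le_refl W)).hom s = s
  res_res : ∀ {U V W : L} (h₁ : U ≤ V) (h₂ : V ≤ W) (s : P W),
    (res h₁).hom ((res h₂).hom s) = (res (h₁.trans h₂)).hom s
  bot : ∀ s : P ⊥, s = 0
  sep : ∀ {V₁ V₂ V : L} (h₁ : V₁ ≤ V) (h₂ : V₂ ≤ V), V ≤ V₁ ⊔ V₂ → ∀ s : P V,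
    (res h₁).hom s = 0 → (res h₂).hom s = 0 → s = 0
  glue : ∀ {V₁ V₂ V V₁₂ : L} (h₁ : V₁ ≤ V) (h₂ : V₂ ≤ V) (h : V₁₂ ≤ V₁) (h' : V₁₂ ≤ V₂),
    V ≤ V₁ ⊔ V₂ → V₁ ⊓ V₂ ≤ V₁₂ → ∀ (s₁ : P V₁) (s₂ : P V₂),
    (res h).hom s₁ = (res h').hom s₂ → ∃ s : P V, (res h₁).hom s = s₁ ∧ (res h₂).hom s = s₂
  D : R → L
  D_mul : ∀ f g : R, D (f * g) = D f ⊓ D g

namespace Sys

variable {R : Type u} [CommRing R] {L : Type v} [DistribLattice L] [OrderBot L] (𝒮 : Sys R L)

/-- `W` is good if restriction to `W ⊓ D h` is a localisation at `h`, for all `h`. -/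
def good (W : L) : Prop :=
  ∀ (h : R) (V : L) (hV : V ≤ W), V = W ⊓ 𝒮.D h →
    IsLocalizedModule (Submonoid.powers h) (𝒮.res hV).hom

/-- the union of the basic opens of a list -/
def UL : List R → L
  | [] => ⊥
  | f :: fs => UL fs ⊔ 𝒮.D f

end Sys

end Groth.Agent.Lib.Helper98.CechGlue
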