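import Groth.Agent.Lib.Helper98.ModuleCatHomology
import Mathlib.Algebra.Colimit.Module

/-!
# helper98: homology classes in `ModuleCat` and a direct-limit criterion

* `directLimit_equiv`: criterion for `Module.DirectLimit G f ≃ₗ P` over `ℕ` (no directed-system laws needed)
* `cls S : ker S.g →ₗ S.homology`, `cls_surjective`, `cls_eq_zero_iff`, `homologyMap_cls`
* `sc_directLimit_homology`, `hc_directLimit_homology`: the homology of a complex `L` is the direct limit of the
  homologies of complexes `K n` given degreewise linear maps `K n → L` (in one degree), compatible with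
  cycles/boundaries/transition maps, "eventually surjective and injective" on homology.
-/

set_option autoImplicit false

namespace Groth.Agent.Lib.Helper98.HomologyCls

open CategoryTheory Groth.Agent.Lib.Helper98.ModuleCatHomology

universe u v

section Abstract
variable {R : Type u} [Ring R]

theorem directLimit_equiv {G : ℕ → Type v} [∀ n, AddCommGroup (G n)] [∀ n, Module R (G n)]
    (f : ∀ n m, n ≤ m → G n →ₗ[R] G m) {P : Type v} [AddCommGroup P] [Module R P]
    (g : ∀ n, G n →ₗ[R] P) (Hg : ∀ n m h x, g m (f n m h x) = g n x)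
    (hsurj : ∀ w : P, ∃ n x, g n x = w)
    (hinj : ∀ n x, g n x = 0 → ∃ (n' : ℕ) (h : n ≤ n') (m : ℕ) (h' : n' ≤ m), f n' m h' (f n n' h x) = 0) :
    Nonempty (Module.DirectLimit G f ≃ₗ[R] P) := by
  refine ⟨LinearEquiv.ofBijective (Module.DirectLimit.lift R ℕ G f g Hg) ⟨?_, ?_⟩⟩
  · rw [injective_iff_map_eq_zero]
    intro z hz
    obtain ⟨n, x, rfl⟩ := Module.DirectLimit.exists_of z
    rw [Module.DirectLimit.lift_of] at hz
    obtain ⟨n', h, m, h', e⟩ := hinj n x hz
    rw [← Module.DirectLimit.of_f (hij := h), ← Module.DirectLimit.of_f (hij := h'), e, map_zero]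
  · intro w
    obtain ⟨n, x, rfl⟩ := hsurj w
    exact ⟨Module.DirectLimit.of R ℕ G f n x, Module.DirectLimit.lift_of _ _ _⟩

lemma exists_factor {Z H P : Type v} [AddCommGroup Z] [Module R Z] [AddCommGroup H] [Module R H]
    [AddCommGroup P] [Module R P] (c : Z →ₗ[R] H) (hc : Function.Surjective c) (k : Z →ₗ[R] P)
    (hk : ∀ z, c z = 0 → k z = 0) : ∃ g : H →ₗ[R] P, ∀ z, g (c z) = k z := by
  refine ⟨((LinearMap.ker c).liftQ k (fun z hz => hk z hz)) ∘ₗ
    (c.quotKerEquivOfSurjective hc).symm.toLinearMap, ?_⟩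
  intro z
  have h1 : (c.quotKerEquivOfSurjective hc).symm (c z) = Submodule.Quotient.mk z := by
    apply (c.quotKerEquivOfSurjective hc).injective
    rw [LinearEquiv.apply_symm_apply]
    rfl
  simp only [LinearMap.comp_apply, LinearEquiv.coe_coe, h1, Submodule.liftQ_apply]

end Abstract

section SC
variable {R : Type u} [Ring R]

/-- the class of a cycle in homology -/
noncomputable def cls (S : ShortComplex (ModuleCat.{v} R)) :
    LinearMap.ker S.g.hom →ₗ[R] S.homology :=
  S.moduleCatLeftHomologyData.homologyIso.inv.hom ∘ₗ S.moduleCatLeftHomologyData.π.hom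

lemma cls_surjective (S : ShortComplex (ModuleCat.{v} R)) : Function.Surjective (cls S) := by
  intro z
  obtain ⟨x, hx⟩ := π_surjective S (S.moduleCatLeftHomologyData.homologyIso.hom.hom z)
  refine ⟨x, ?_⟩
  change S.moduleCatLeftHomologyData.homologyIso.inv.hom (S.moduleCatLeftHomologyData.π.hom x) = z
  rw [hx]
  exact Iso.hom_inv_id_apply _ _

lemma cls_eq_zero_iff (S : ShortComplex (ModuleCat.{v} R)) (z : LinearMap.ker S.g.hom) :
    cls S z = 0 ↔ ∃ y : S.X₁, S.f.hom y = z.1 := by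
  have h := π_eq_zero_iff S z
  change _ ↔ ∃ y : S.X₁, S.f.hom y = z.1 at h
  rw [← h]
  change S.moduleCatLeftHomologyData.homologyIso.inv.hom (S.moduleCatLeftHomologyData.π.hom z) = 0 ↔ _
  constructor
  · intro h0
    have := congrArg S.moduleCatLeftHomologyData.homologyIso.hom.hom h0
    rw [map_zero] at this
    rw [← this]
    exact (Iso.inv_hom_id_apply _ _).symm
  · intro h0
    rw [h0, map_zero]

lemma homologyMap_cls {S₁ S₂ : ShortComplex (ModuleCat.{v} R)} (φ : S₁ ⟶ S₂)
    (z : LinearMap.ker S₁.g.hom) (hz : S₂.g.hom (φ.τ₂.hom z.1) = 0) :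
    (ShortComplex.homologyMap φ).hom (cls S₁ z) = cls S₂ ⟨φ.τ₂.hom z.1, hz⟩ := by
  let γ : ShortComplex.LeftHomologyMapData φ S₁.moduleCatLeftHomologyData
      S₂.moduleCatLeftHomologyData := default
  have e : ShortComplex.homologyMap φ =
      S₁.moduleCatLeftHomologyData.homologyIso.hom ≫ γ.φH ≫
        S₂.moduleCatLeftHomologyData.homologyIso.inv := γ.homologyMap_eq
  rw [e]
  change S₂.moduleCatLeftHomologyData.homologyIso.inv.hom (γ.φH.hom
    (S₁.moduleCatLeftHomologyData.homologyIso.hom.hom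
      (S₁.moduleCatLeftHomologyData.homologyIso.inv.hom (S₁.moduleCatLeftHomologyData.π.hom z)))) =
    S₂.moduleCatLeftHomologyData.homologyIso.inv.hom (S₂.moduleCatLeftHomologyData.π.hom _)
  rw [Iso.inv_hom_id_apply, commπ_apply]
  congr 2

theorem sc_directLimit_homology (S : ℕ → ShortComplex (ModuleCat.{v} R))
    (τ : ∀ n m, n ≤ m → (S n ⟶ S m)) (T : ShortComplex (ModuleCat.{v} R))
    (φ : ∀ n, (S n).X₂ →ₗ[R] T.X₂)
    (H1 : ∀ n x, (S n).g.hom x = 0 → T.g.hom (φ n x) = 0)
    (H2 : ∀ n y, ∃ y', T.f.hom y' = φ n ((S n).f.hom y))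
    (H3 : ∀ n m h x, φ m ((τ n m h).τ₂.hom x) = φ n x)
    (H4 : ∀ w, T.g.hom w = 0 → ∃ n x, (S n).g.hom x = 0 ∧ ∃ y', w = φ n x + T.f.hom y')
    (H5 : ∀ n x, (S n).g.hom x = 0 → (∃ y', T.f.hom y' = φ n x) →
      ∃ (n' : ℕ) (h : n ≤ n') (m : ℕ) (h' : n' ≤ m) (y : _),
        (S m).f.hom y = (τ n' m h').τ₂.hom ((τ n n' h).τ₂.hom x)) :
    Nonempty (Module.DirectLimit (fun n => ((S n).homology : Type v))
      (fun n m h => (ShortComplex.homologyMap (τ n m h)).hom) ≃ₗ[R] T.homology) := by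
  -- restriction of φ to cycles
  let ψ : ∀ n, LinearMap.ker (S n).g.hom →ₗ[R] LinearMap.ker T.g.hom := fun n =>
    LinearMap.codRestrict _ ((φ n) ∘ₗ (LinearMap.ker (S n).g.hom).subtype)
      (fun z => H1 n z.1 z.2)
  have hψ : ∀ n z, ((ψ n z : LinearMap.ker T.g.hom) : T.X₂) = φ n z.1 := fun n z => rfl
  have hfac : ∀ n, ∃ g : (S n).homology →ₗ[R] T.homology,
      ∀ z, g (cls (S n) z) = cls T (ψ n z) := by
    intro n
    refine exists_factor (cls (S n)) (cls_surjective _) (cls T ∘ₗ ψ n) ?_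
    intro z hz
    rw [cls_eq_zero_iff] at hz
    obtain ⟨y, hy⟩ := hz
    change cls T (ψ n z) = 0
    rw [cls_eq_zero_iff, hψ, ← hy]
    exact H2 n y
  choose g hg using hfac
  have hτcyc : ∀ n m h (z : LinearMap.ker (S n).g.hom), (S m).g.hom ((τ n m h).τ₂.hom z.1) = 0 := by
    intro n m h z
    have h1 := congrArg (fun k => k.hom z.1) (τ n m h).comm₂₃
    simp only [ModuleCat.hom_comp, LinearMap.comp_apply] at h1
    rw [h1]
    have := z.2
    rw [LinearMap.mem_ker] at this
    rw [this, map_zero]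
  refine directLimit_equiv _ g ?_ ?_ ?_
  · intro n m h x
    obtain ⟨z, rfl⟩ := cls_surjective (S n) x
    change g m ((ShortComplex.homologyMap (τ n m h)).hom (cls (S n) z)) = _
    rw [homologyMap_cls (τ n m h) z (hτcyc n m h z), hg, hg]
    congr 1
    apply Subtype.ext
    rw [hψ, hψ]
    exact H3 n m h z.1
  · intro w
    obtain ⟨w', rfl⟩ := cls_surjective T w
    have hw' := w'.2
    rw [LinearMap.mem_ker] at hw'
    obtain ⟨n, x, hx, y', hy'⟩ := H4 w'.1 hw'
    refine ⟨n, cls (S n) ⟨x, hx⟩, ?_⟩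
    rw [hg, ← sub_eq_zero, ← map_sub, cls_eq_zero_iff]
    refine ⟨-y', ?_⟩
    rw [map_neg]
    change _ = (ψ n ⟨x, hx⟩ : LinearMap.ker T.g.hom).1 - w'.1
    rw [hψ, hy']
    abel
  · intro n x hx
    obtain ⟨z, rfl⟩ := cls_surjective (S n) x
    rw [hg, cls_eq_zero_iff, hψ] at hx
    obtain ⟨n', h, m, h', y, hy⟩ := H5 n z.1 (by have := z.2; rwa [LinearMap.mem_ker] at this) hx
    refine ⟨n', h, m, h', ?_⟩
    change (ShortComplex.homologyMap (τ n' m h')).hom
      ((ShortComplex.homologyMap (τ n n' h)).hom (cls (S n) z)) = 0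
    rw [homologyMap_cls (τ n n' h) z (hτcyc n n' h z),
      homologyMap_cls (τ n' m h') _ (hτcyc n' m h' _), cls_eq_zero_iff]
    exact ⟨y, hy⟩

end SC

section HC

variable {R : Type u} [Ring R] {ι : Type*} {c : ComplexShape ι}

theorem hc_directLimit_homology (K : ℕ → HomologicalComplex (ModuleCat.{v} R) c)
    (τ : ∀ n m, n ≤ m → (K n ⟶ K m)) (L : HomologicalComplex (ModuleCat.{v} R) c)
    (i j k i' j' k' : ι) (hi : c.prev j = i) (hk : c.next j = k)
    (hi' : c.prev j' = i') (hk' : c.next j' = k')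
    (φ : ∀ n, (K n).X j →ₗ[R] L.X j')
    (H1 : ∀ n x, ((K n).d j k).hom x = 0 → (L.d j' k').hom (φ n x) = 0)
    (H2 : ∀ n y, ∃ y', (L.d i' j').hom y' = φ n (((K n).d i j).hom y))
    (H3 : ∀ n m h x, φ m (((τ n m h).f j).hom x) = φ n x)
    (H4 : ∀ w, (L.d j' k').hom w = 0 → ∃ n x, ((K n).d j k).hom x = 0 ∧
      ∃ y', w = φ n x + (L.d i' j').hom y')
    (H5 : ∀ n x, ((K n).d j k).hom x = 0 → (∃ y', (L.d i' j').hom y' = φ n x) →
      ∃ (n' : ℕ) (h : n ≤ n') (m : ℕ) (h' : n' ≤ m) (y : _),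
        ((K m).d i j).hom y = ((τ n' m h').f j).hom (((τ n n' h).f j).hom x)) :
    Nonempty (Module.DirectLimit (fun n => ((K n).homology j : Type v))
      (fun n m h => (HomologicalComplex.homologyMap (τ n m h) j).hom) ≃ₗ[R] L.homology j') := by
  subst hi hk hi' hk'
  exact sc_directLimit_homology (fun n => (K n).sc j)
    (fun n m h => (HomologicalComplex.shortComplexFunctor _ c j).map (τ n m h)) (L.sc j') φ
    H1 H2 H3 H4 H5

end HC

end Groth.Agent.Lib.Helper98.HomologyCls
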