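import Groth.Agent.Lib.Helper98.CechGlueAlg
import Groth.Agent.Lib.Helper98.CechGlueSys
import Groth.Agent.Lib.Helper98.HomologyCls

/-!
# helper98: Čech 1-cocycles of a "sheaf-like system" are sections over the union of the basic opens

For a `Sys R L` and a good `W`, `exists_fam` produces by induction on `fs` a natural family
`Ψ_W : P (W ⊓ UL fs) → Č(P W, fs)^1` which is injective with image the cocycles and `Ψ (n|) = -d⁰ n`.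
`H0`, `H1` : kernel / cokernel of `P W → P (W ⊓ UL fs)` are `H⁰`, `H¹` of the extended Čech complex.
-/

set_option autoImplicit false
universe u v
open CategoryTheory CategoryTheory.Limits HomologicalComplex CochainComplex HomComplex

namespace Groth.Agent.Lib.Helper98.CechGlue

open Helper98.CechFun Helper98.CechBC Groth.Agent.Lib.Helper98.ConeElem
  Groth.Agent.Lib.Helper98.CechGlueAlg

variable {R : Type u} [CommRing R] {L : Type v} [DistribLattice L] [OrderBot L] (𝒮 : Sys R L)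

lemma good_inf {W : L} (hW : 𝒮.good W) (f : R) : 𝒮.good (W ⊓ 𝒮.D f) := by
  intro h V hV hVe
  have h1 : IsLocalizedModule.Away f (𝒮.res (inf_le_left : W ⊓ 𝒮.D f ≤ W)).hom := hW f _ _ rfl
  have hVW : V ≤ W := hV.trans inf_le_left
  have h2 : IsLocalizedModule.Away (f * h) (𝒮.res hVW).hom :=
    hW (f * h) V hVW (by rw [hVe, 𝒮.D_mul, inf_assoc])
  have h3 : (𝒮.res hVW).hom = (𝒮.res hV).hom ∘ₗ (𝒮.res inf_le_left).hom := by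
    ext s
    exact (𝒮.res_res hV inf_le_left s).symm
  rw [h3] at h2
  exact isLoc_of_comp f h _ _ h2

lemma P_eq_zero_of_le_bot {V : L} (hV : V ≤ ⊥) (s : 𝒮.P V) : s = 0 := by
  have h1 : (𝒮.res (bot_le : ⊥ ≤ V)).hom s = 0 := 𝒮.bot _
  have h2 := 𝒮.res_res hV (bot_le : ⊥ ≤ V) s
  rw [h1, map_zero, 𝒮.res_id] at h2
  exact h2.symm

/-- families of maps from sections over `W ∩ U` to Čech `1`-cochains -/
abbrev Fam (fs : List R) : Type (max u v) :=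
  ∀ W : L, 𝒮.good W → ((𝒮.P (W ⊓ 𝒮.UL fs)) →ₗ[R] ((DerCA.extCech (𝒮.P W) fs).X 1))

structure IsGood (fs : List R) (Ψ : Fam 𝒮 fs) : Prop where
  cocycle : ∀ W hW s, ((DerCA.extCech (𝒮.P W) fs).d 1 2).hom (Ψ W hW s) = 0
  inj : ∀ W hW, Function.Injective (Ψ W hW)
  surj : ∀ W hW y, ((DerCA.extCech (𝒮.P W) fs).d 1 2).hom y = 0 → ∃ s, Ψ W hW s = y
  bdry : ∀ W hW (x : (DerCA.extCech (𝒮.P W) fs).X 0),
    Ψ W hW ((𝒮.res inf_le_left).hom (pi0 _ fs x)) = -((DerCA.extCech (𝒮.P W) fs).d 0 1).hom x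
  nat : ∀ W W' hW hW' (hle : W' ≤ W) s,
    Ψ W' hW' ((𝒮.res (inf_le_inf_right _ hle)).hom s) =
      ((cechMap (𝒮.res hle) fs).f 1).hom (Ψ W hW s)

lemma subsingleton_nil_X1 (N : ModuleCat.{u} R) : Subsingleton ((DerCA.extCech N []).X 1) :=
  ModuleCat.subsingleton_of_isZero
    (HomologicalComplex.isZero_single_obj_X (ComplexShape.up ℤ) 0 N 1 (by omega))

theorem exists_fam_nil : ∃ Ψ : Fam 𝒮 [], IsGood 𝒮 [] Ψ := by
  refine ⟨fun W _ => 0, ?_⟩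
  have hsub : ∀ W, Subsingleton ((DerCA.extCech (𝒮.P W) []).X 1) := fun W => subsingleton_nil_X1 _
  constructor
  · intro W hW s
    rw [LinearMap.zero_apply, map_zero]
  · intro W hW s t _
    rw [P_eq_zero_of_le_bot 𝒮 inf_le_right s, P_eq_zero_of_le_bot 𝒮 inf_le_right t]
  · intro W hW y _
    have := hsub W
    exact ⟨0, Subsingleton.elim _ _⟩
  · intro W hW x
    have := hsub W
    exact Subsingleton.elim _ _
  · intro W W' hW hW' hle s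
    have := hsub W'
    exact Subsingleton.elim _ _

/-- the inverse of `pi0` -/
noncomputable def eps (N : ModuleCat.{u} R) (fs : List R) : N ≃ₗ[R] (DerCA.extCech N fs).X 0 :=
  (LinearEquiv.ofBijective (pi0 N fs) (pi0_bijective N fs)).symm

lemma pi0_eps (N : ModuleCat.{u} R) (fs : List R) (n : N) : pi0 N fs (eps N fs n) = n :=
  (LinearEquiv.ofBijective (pi0 N fs) (pi0_bijective N fs)).apply_symm_apply n

lemma eps_pi0 (N : ModuleCat.{u} R) (fs : List R) (x : (DerCA.extCech N fs).X 0) :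
    eps N fs (pi0 N fs x) = x :=
  (LinearEquiv.ofBijective (pi0 N fs) (pi0_bijective N fs)).symm_apply_apply x

section Step

variable {fs : List R} (Ψ : Fam 𝒮 fs) (f : R)

/-- restriction `W → W ⊓ D f` -/
noncomputable abbrev rho (W : L) : 𝒮.P W ⟶ 𝒮.P (W ⊓ 𝒮.D f) := 𝒮.res inf_le_left

lemma isLoc_rho {W : L} (hW : 𝒮.good W) : IsLocalizedModule.Away f (rho 𝒮 f W).hom :=
  hW f _ _ rfl

/-- the induced map of Čech complexes -/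
noncomputable abbrev lam (fs : List R) (W : L) :
    DerCA.extCech (𝒮.P W) fs ⟶ DerCA.extCech (𝒮.P (W ⊓ 𝒮.D f)) fs :=
  cechMap (rho 𝒮 f W) fs

noncomputable def hatPsi (W : L) (hW : 𝒮.good W) :
    𝒮.P (W ⊓ (𝒮.UL fs ⊔ 𝒮.D f)) →ₗ[R] (mappingCone (lam 𝒮 f fs W)).X (1 + -1) :=
  cinl (lam 𝒮 f fs W) (1 + -1) 1 (by omega) ∘ₗ Ψ W hW ∘ₗ
      (𝒮.res (inf_le_inf_left W le_sup_left : W ⊓ 𝒮.UL fs ≤ W ⊓ (𝒮.UL fs ⊔ 𝒮.D f))).hom +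
    cinr (lam 𝒮 f fs W) (1 + -1) ∘ₗ
      ((eps (𝒮.P (W ⊓ 𝒮.D f)) fs).toLinearMap :
        𝒮.P (W ⊓ 𝒮.D f) →ₗ[R] (DerCA.extCech (𝒮.P (W ⊓ 𝒮.D f)) fs).X (1 + -1)) ∘ₗ
      (𝒮.res (inf_le_inf_left W le_sup_right : W ⊓ 𝒮.D f ≤ W ⊓ (𝒮.UL fs ⊔ 𝒮.D f))).hom

lemma cfst_hatPsi (W : L) (hW : 𝒮.good W) (s : 𝒮.P (W ⊓ (𝒮.UL fs ⊔ 𝒮.D f))) :
    cfst (lam 𝒮 f fs W) (1 + -1) 1 (by omega) (hatPsi 𝒮 Ψ f W hW s) =
      Ψ W hW ((𝒮.res (inf_le_inf_left W le_sup_left : W ⊓ 𝒮.UL fs ≤ W ⊓ (𝒮.UL fs ⊔ 𝒮.D f))).hom s) := by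
  unfold hatPsi
  rw [LinearMap.add_apply, map_add, LinearMap.comp_apply, LinearMap.comp_apply, cfst_cinl,
    LinearMap.comp_apply, cfst_cinr, add_zero]

lemma csnd_hatPsi (W : L) (hW : 𝒮.good W) (s : 𝒮.P (W ⊓ (𝒮.UL fs ⊔ 𝒮.D f))) :
    csnd (lam 𝒮 f fs W) (1 + -1) (hatPsi 𝒮 Ψ f W hW s) =
      eps (𝒮.P (W ⊓ 𝒮.D f)) fs
        ((𝒮.res (inf_le_inf_left W le_sup_right : W ⊓ 𝒮.D f ≤ W ⊓ (𝒮.UL fs ⊔ 𝒮.D f))).hom s) := by
  unfold hatPsi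
  rw [LinearMap.add_apply, map_add, LinearMap.comp_apply, LinearMap.comp_apply, csnd_cinl,
    LinearMap.comp_apply, csnd_cinr, zero_add]
  rfl


variable (hΨ : IsGood 𝒮 fs Ψ)

include hΨ in
lemma hat_cocycle (W : L) (hW : 𝒮.good W) (s : 𝒮.P (W ⊓ (𝒮.UL fs ⊔ 𝒮.D f))) :
    ((mappingCocone (lam 𝒮 f fs W)).d 1 2).hom (hatPsi 𝒮 Ψ f W hW s) = 0 := by
  rw [cocone_cocycle_iff, cfst_hatPsi, csnd_hatPsi]
  refine ⟨hΨ.cocycle W hW _, ?_⟩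
  have hW' := good_inf 𝒮 hW f
  have h1 := hΨ.nat W (W ⊓ 𝒮.D f) hW hW' inf_le_left
    ((𝒮.res (inf_le_inf_left W le_sup_left : W ⊓ 𝒮.UL fs ≤ W ⊓ (𝒮.UL fs ⊔ 𝒮.D f))).hom s)
  have h2 := hΨ.bdry (W ⊓ 𝒮.D f) hW' (eps (𝒮.P (W ⊓ 𝒮.D f)) fs
    ((𝒮.res (inf_le_inf_left W le_sup_right : W ⊓ 𝒮.D f ≤ W ⊓ (𝒮.UL fs ⊔ 𝒮.D f))).hom s))
  rw [pi0_eps, 𝒮.res_res] at h2
  rw [𝒮.res_res] at h1
  have h2' := neg_eq_iff_eq_neg.mpr h2
  rw [← h1, ← h2']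
  exact add_neg_cancel _

include hΨ in
lemma hat_inj (W : L) (hW : 𝒮.good W) : Function.Injective (hatPsi 𝒮 Ψ f W hW) := by
  rw [injective_iff_map_eq_zero]
  intro s hs
  have h1 := cfst_hatPsi 𝒮 Ψ f W hW s
  have h2 := csnd_hatPsi 𝒮 Ψ f W hW s
  rw [hs, map_zero] at h1 h2
  have e1 := (injective_iff_map_eq_zero _).mp (hΨ.inj W hW) _ h1.symm
  have e2 := (LinearEquiv.map_eq_zero_iff _).mp h2.symm
  refine 𝒮.sep _ _ ?_ s e1 e2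
  rw [← inf_sup_left]

include hΨ in
lemma hat_surj (W : L) (hW : 𝒮.good W) (y : (mappingCocone (lam 𝒮 f fs W)).X 1)
    (hy : ((mappingCocone (lam 𝒮 f fs W)).d 1 2).hom y = 0) :
    ∃ s, hatPsi 𝒮 Ψ f W hW s = y := by
  rw [cocone_cocycle_iff] at hy
  obtain ⟨hy1, hy2⟩ := hy
  have hW' := good_inf 𝒮 hW f
  obtain ⟨s₁, hs₁⟩ := hΨ.surj W hW _ hy1
  set z : (DerCA.extCech (𝒮.P (W ⊓ 𝒮.D f)) fs).X 0 := csnd (lam 𝒮 f fs W) (1 + -1) y with hz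
  set t : 𝒮.P (W ⊓ 𝒮.D f) := pi0 _ fs z with ht
  have hcompat : (𝒮.res (inf_le_inf_right _ inf_le_left :
      (W ⊓ 𝒮.D f) ⊓ 𝒮.UL fs ≤ W ⊓ 𝒮.UL fs)).hom s₁ =
      (𝒮.res (inf_le_left : (W ⊓ 𝒮.D f) ⊓ 𝒮.UL fs ≤ W ⊓ 𝒮.D f)).hom t := by
    apply hΨ.inj (W ⊓ 𝒮.D f) hW'
    rw [hΨ.nat W (W ⊓ 𝒮.D f) hW hW' inf_le_left s₁, hs₁, hΨ.bdry (W ⊓ 𝒮.D f) hW' z]
    exact eq_neg_of_add_eq_zero_left hy2
  obtain ⟨s, e1, e2⟩ := 𝒮.glue (inf_le_inf_left W le_sup_left : W ⊓ 𝒮.UL fs ≤ W ⊓ (𝒮.UL fs ⊔ 𝒮.D f))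
    (inf_le_inf_left W le_sup_right : W ⊓ 𝒮.D f ≤ W ⊓ (𝒮.UL fs ⊔ 𝒮.D f))
    (inf_le_inf_right _ inf_le_left : (W ⊓ 𝒮.D f) ⊓ 𝒮.UL fs ≤ W ⊓ 𝒮.UL fs)
    (inf_le_left : (W ⊓ 𝒮.D f) ⊓ 𝒮.UL fs ≤ W ⊓ 𝒮.D f)
    (by rw [← inf_sup_left])
    (le_inf inf_le_right (inf_le_left.trans inf_le_right)) s₁ t hcompat
  refine ⟨s, ?_⟩
  apply cone_ext (lam 𝒮 f fs W) (1 + -1) 1 (by omega)
  · rw [cfst_hatPsi, e1, hs₁]
  · rw [csnd_hatPsi, e2, ht, eps_pi0]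

include hΨ in
lemma hat_bdry (W : L) (hW : 𝒮.good W) (x : (mappingCocone (lam 𝒮 f fs W)).X 0) :
    hatPsi 𝒮 Ψ f W hW ((𝒮.res (inf_le_left : W ⊓ (𝒮.UL fs ⊔ 𝒮.D f) ≤ W)).hom
      (pi0 _ fs (cfst (lam 𝒮 f fs W) (0 + -1) 0 (by omega) x))) =
      -((mappingCocone (lam 𝒮 f fs W)).d 0 1).hom x := by
  have hsub : Subsingleton ((DerCA.extCech (𝒮.P (W ⊓ 𝒮.D f)) fs).X (0 + -1)) :=
    subsingleton_X_neg _ fs (0 + -1) (by omega)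
  have key : ((mappingCocone (lam 𝒮 f fs W)).d 0 1).hom x =
      -(hatPsi 𝒮 Ψ f W hW ((𝒮.res (inf_le_left : W ⊓ (𝒮.UL fs ⊔ 𝒮.D f) ≤ W)).hom
        (pi0 _ fs (cfst (lam 𝒮 f fs W) (0 + -1) 0 (by omega) x)))) := by
    apply cone_ext (lam 𝒮 f fs W) (1 + -1) 1 (by omega)
    · rw [cocone_d01_fst, map_neg, cfst_hatPsi, 𝒮.res_res, hΨ.bdry W hW _, neg_neg]
    · rw [cocone_d01_snd, map_neg, csnd_hatPsi, 𝒮.res_res,
        Subsingleton.elim (csnd (lam 𝒮 f fs W) (0 + -1) x) 0, map_zero, add_zero]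
      have := pi0_natural (rho 𝒮 f W) fs (cfst (lam 𝒮 f fs W) (0 + -1) 0 (by omega) x)
      rw [← this, eps_pi0]
  exact (neg_eq_iff_eq_neg.mpr key).symm


lemma sq_rho {W W' : L} (hle : W' ≤ W) :
    rho 𝒮 f W ≫ 𝒮.res (inf_le_inf_right (𝒮.D f) hle) = 𝒮.res hle ≫ rho 𝒮 f W' := by
  ext s
  change (𝒮.res _).hom ((𝒮.res _).hom s) = (𝒮.res _).hom ((𝒮.res _).hom s)
  rw [𝒮.res_res, 𝒮.res_res]

lemma comm_lam {W W' : L} (hle : W' ≤ W) :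
    lam 𝒮 f fs W ≫ cechMap (𝒮.res (inf_le_inf_right (𝒮.D f) hle)) fs =
      cechMap (𝒮.res hle) fs ≫ lam 𝒮 f fs W' := by
  rw [← cechMap_comp, ← cechMap_comp, sq_rho]

include hΨ in
lemma hat_nat (W W' : L) (hW : 𝒮.good W) (hW' : 𝒮.good W') (hle : W' ≤ W)
    (s : 𝒮.P (W ⊓ (𝒮.UL fs ⊔ 𝒮.D f))) :
    hatPsi 𝒮 Ψ f W' hW' ((𝒮.res (inf_le_inf_right _ hle)).hom s) =
      ((mappingCone.map (lam 𝒮 f fs W) (lam 𝒮 f fs W') (cechMap (𝒮.res hle) fs)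
        (cechMap (𝒮.res (inf_le_inf_right (𝒮.D f) hle)) fs) (comm_lam 𝒮 f hle)).f (1 + -1)).hom
        (hatPsi 𝒮 Ψ f W hW s) := by
  apply cone_ext (lam 𝒮 f fs W') (1 + -1) 1 (by omega)
  · rw [cfst_map, cfst_hatPsi, cfst_hatPsi, 𝒮.res_res]
    have := hΨ.nat W W' hW hW' hle
      ((𝒮.res (inf_le_inf_left W le_sup_left : W ⊓ 𝒮.UL fs ≤ W ⊓ (𝒮.UL fs ⊔ 𝒮.D f))).hom s)
    rw [𝒮.res_res] at this
    exact this
  · rw [csnd_map, csnd_hatPsi, csnd_hatPsi, 𝒮.res_res]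
    apply (pi0_bijective _ fs).1
    rw [pi0_eps]
    have := pi0_natural (𝒮.res (inf_le_inf_right (𝒮.D f) hle)) fs (eps (𝒮.P (W ⊓ 𝒮.D f)) fs
      ((𝒮.res (inf_le_inf_left W le_sup_right : W ⊓ 𝒮.D f ≤ W ⊓ (𝒮.UL fs ⊔ 𝒮.D f))).hom s))
    rw [pi0_eps, 𝒮.res_res] at this
    exact this.symm


section IsoElem

variable {K K' : CochainComplex (ModuleCat.{u} R) ℤ} (e : K ≅ K')

lemma iso_hom_inv_apply (i : ℤ) (x : K'.X i) : (e.hom.f i).hom ((e.inv.f i).hom x) = x := by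
  rw [← LinearMap.comp_apply, ← ModuleCat.hom_comp, ← HomologicalComplex.comp_f, e.inv_hom_id]
  rfl

lemma iso_inv_hom_apply (i : ℤ) (x : K.X i) : (e.inv.f i).hom ((e.hom.f i).hom x) = x := by
  rw [← LinearMap.comp_apply, ← ModuleCat.hom_comp, ← HomologicalComplex.comp_f, e.hom_inv_id]
  rfl

lemma hom_comm_apply {K K' : CochainComplex (ModuleCat.{u} R) ℤ} (φ : K ⟶ K') (i j : ℤ) (x : K.X i) :
    (K'.d i j).hom ((φ.f i).hom x) = (φ.f j).hom ((K.d i j).hom x) := by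
  rw [← LinearMap.comp_apply, ← ModuleCat.hom_comp, φ.comm i j]
  rfl

end IsoElem

/-- the isomorphism `Φ_W` -/
noncomputable abbrev PhiW (fs : List R) (W : L) (hW : 𝒮.good W) :
    mappingCocone (DerCA.locCxUnit (Submonoid.powers f) (DerCA.extCech (𝒮.P W) fs)) ≅
      mappingCocone (lam 𝒮 f fs W) :=
  Phi (rho 𝒮 f W) f (isLoc_rho 𝒮 f hW) fs

/-- the new family -/
noncomputable def newPsi : Fam 𝒮 (f :: fs) := fun W hW =>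
  (((PhiW 𝒮 f fs W hW).inv.f 1).hom :
      (mappingCone (lam 𝒮 f fs W)).X (1 + -1) →ₗ[R] (DerCA.extCech (𝒮.P W) (f :: fs)).X 1) ∘ₗ
    hatPsi 𝒮 Ψ f W hW

lemma newPsi_apply (W : L) (hW : 𝒮.good W) (s : 𝒮.P (W ⊓ (𝒮.UL fs ⊔ 𝒮.D f))) :
    newPsi 𝒮 Ψ f W hW s = ((PhiW 𝒮 f fs W hW).inv.f 1).hom (hatPsi 𝒮 Ψ f W hW s) := rfl

lemma Phi_newPsi (W : L) (hW : 𝒮.good W) (s : 𝒮.P (W ⊓ (𝒮.UL fs ⊔ 𝒮.D f))) :
    ((PhiW 𝒮 f fs W hW).hom.f 1).hom (newPsi 𝒮 Ψ f W hW s) = hatPsi 𝒮 Ψ f W hW s :=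
  iso_hom_inv_apply (PhiW 𝒮 f fs W hW) 1 _

lemma cfst_Phi (W : L) (hW : 𝒮.good W)
    (x : (mappingCocone (DerCA.locCxUnit (Submonoid.powers f) (DerCA.extCech (𝒮.P W) fs))).X 0) :
    cfst (lam 𝒮 f fs W) (0 + -1) 0 (by omega) (((PhiW 𝒮 f fs W hW).hom.f 0).hom x) =
      cfst (DerCA.locCxUnit (Submonoid.powers f) (DerCA.extCech (𝒮.P W) fs)) (0 + -1) 0 (by omega) x := by
  change cfst (lam 𝒮 f fs W) (0 + -1) 0 (by omega) (((mappingCone.map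
    (DerCA.locCxUnit (Submonoid.powers f) (DerCA.extCech (𝒮.P W) fs)) (lam 𝒮 f fs W) (𝟙 _)
    (kappa (rho 𝒮 f W) f (isLoc_rho 𝒮 f hW) fs).hom
    (by rw [unit_kappa, Category.id_comp])).f (0 + -1)).hom x) = _
  rw [cfst_map]
  rfl

include hΨ in
theorem isGood_newPsi : IsGood 𝒮 (f :: fs) (newPsi 𝒮 Ψ f) := by
  constructor
  · intro W hW s
    have h1 := hom_comm_apply (PhiW 𝒮 f fs W hW).inv 1 2 (hatPsi 𝒮 Ψ f W hW s)
    have h2 := hat_cocycle 𝒮 Ψ f hΨ W hW s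
    rw [h2, map_zero] at h1
    exact h1
  · intro W hW s t hst
    apply hat_inj 𝒮 Ψ f hΨ W hW
    have := congrArg ((PhiW 𝒮 f fs W hW).hom.f 1).hom hst
    rw [Phi_newPsi, Phi_newPsi] at this
    exact this
  · intro W hW y hy
    have h1 := hom_comm_apply (PhiW 𝒮 f fs W hW).hom 1 2 y
    have hy' : ((mappingCocone (DerCA.locCxUnit (Submonoid.powers f)
        (DerCA.extCech (𝒮.P W) fs))).d 1 2).hom y = 0 := hy
    rw [hy', map_zero] at h1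
    obtain ⟨s, hs⟩ := hat_surj 𝒮 Ψ f hΨ W hW _ h1
    refine ⟨s, ?_⟩
    have : newPsi 𝒮 Ψ f W hW s = ((PhiW 𝒮 f fs W hW).inv.f 1).hom
        (((PhiW 𝒮 f fs W hW).hom.f 1).hom y) := by
      rw [newPsi_apply, hs]
    rw [this]
    exact iso_inv_hom_apply (PhiW 𝒮 f fs W hW) 1 y
  · intro W hW x
    have h1 := hat_bdry 𝒮 Ψ f hΨ W hW (((PhiW 𝒮 f fs W hW).hom.f 0).hom x)
    rw [cfst_Phi, hom_comm_apply (PhiW 𝒮 f fs W hW).hom 0 1 x] at h1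
    have h2 : pi0 (𝒮.P W) (f :: fs) x = pi0 (𝒮.P W) fs
        (cfst (DerCA.locCxUnit (Submonoid.powers f) (DerCA.extCech (𝒮.P W) fs)) (0 + -1) 0
          (by omega) x) := pi0_cons _ f fs x
    have h3 : newPsi 𝒮 Ψ f W hW ((𝒮.res (inf_le_left : W ⊓ 𝒮.UL (f :: fs) ≤ W)).hom
        (pi0 (𝒮.P W) (f :: fs) x)) = ((PhiW 𝒮 f fs W hW).inv.f 1).hom
          (-(((PhiW 𝒮 f fs W hW).hom.f 1).hom
            (((mappingCocone (DerCA.locCxUnit (Submonoid.powers f)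
              (DerCA.extCech (𝒮.P W) fs))).d 0 1).hom x))) := by
      rw [h2, ← h1]
      rfl
    rw [h3, map_neg]
    congr 1
    exact iso_inv_hom_apply (PhiW 𝒮 f fs W hW) 1 _
  · intro W W' hW hW' hle s
    have h1 := hat_nat 𝒮 Ψ f hΨ W W' hW hW' hle s
    have h2 := Phi_natural (rho 𝒮 f W) (rho 𝒮 f W') (𝒮.res hle)
      (𝒮.res (inf_le_inf_right (𝒮.D f) hle)) (sq_rho 𝒮 f hle) f (isLoc_rho 𝒮 f hW)
      (isLoc_rho 𝒮 f hW') fs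
    have h3 := congrArg (fun φ => (φ.f 1).hom (newPsi 𝒮 Ψ f W hW s)) h2
    simp only [HomologicalComplex.comp_f, ModuleCat.hom_comp, LinearMap.comp_apply] at h3
    rw [Phi_newPsi] at h3
    have h4 : ((coconeMap (lam 𝒮 f fs W) (lam 𝒮 f fs W') (cechMap (𝒮.res hle) fs)
        (cechMap (𝒮.res (inf_le_inf_right (𝒮.D f) hle)) fs)
        (by rw [← cechMap_comp, ← cechMap_comp, sq_rho])).f 1).hom (hatPsi 𝒮 Ψ f W hW s) =
        hatPsi 𝒮 Ψ f W' hW' ((𝒮.res (inf_le_inf_right _ hle)).hom s) := h1.symm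
    rw [h4] at h3
    have h5 := congrArg ((PhiW 𝒮 f fs W' hW').inv.f 1).hom h3
    rw [iso_inv_hom_apply] at h5
    exact h5.symm

end Step

theorem exists_fam : ∀ fs : List R, ∃ Ψ : Fam 𝒮 fs, IsGood 𝒮 fs Ψ
  | [] => exists_fam_nil 𝒮
  | f :: fs => by
    obtain ⟨Ψ, hΨ⟩ := exists_fam fs
    exact ⟨newPsi 𝒮 Ψ f, isGood_newPsi 𝒮 Ψ f hΨ⟩


section Final

open Groth.Agent.Lib.Helper98.HomologyCls

lemma hc_cls {ι : Type*} {c : ComplexShape ι} (K : HomologicalComplex (ModuleCat.{u} R) c)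
    (i j k : ι) (hi : c.prev j = i) (hk : c.next j = k) :
    ∃ cl : LinearMap.ker (K.d j k).hom →ₗ[R] K.homology j, Function.Surjective cl ∧
      ∀ z, cl z = 0 ↔ ∃ y, (K.d i j).hom y = z.1 := by
  subst hi hk
  exact ⟨cls (K.sc j), cls_surjective (K.sc j), fun z => cls_eq_zero_iff (K.sc j) z⟩

theorem H1 (W : L) (hW : 𝒮.good W) (fs : List R) :
    ∃ θ : 𝒮.P (W ⊓ 𝒮.UL fs) →ₗ[R] (DerCA.extCech (𝒮.P W) fs).homology 1,
      Function.Surjective θ ∧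
        ∀ s, θ s = 0 ↔ ∃ n : 𝒮.P W, (𝒮.res (inf_le_left : W ⊓ 𝒮.UL fs ≤ W)).hom n = s := by
  obtain ⟨Ψ, hΨ⟩ := exists_fam 𝒮 fs
  obtain ⟨cl, hcl1, hcl2⟩ := hc_cls (DerCA.extCech (𝒮.P W) fs) 0 1 2 (by simp) (by simp)
  let Ψ' : 𝒮.P (W ⊓ 𝒮.UL fs) →ₗ[R] LinearMap.ker ((DerCA.extCech (𝒮.P W) fs).d 1 2).hom :=
    (Ψ W hW).codRestrict _ (fun s => hΨ.cocycle W hW s)
  refine ⟨cl ∘ₗ Ψ', ?_, ?_⟩
  · intro h
    obtain ⟨z, rfl⟩ := hcl1 h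
    obtain ⟨s, hs⟩ := hΨ.surj W hW z.1 z.2
    exact ⟨s, congrArg cl (Subtype.ext hs)⟩
  · intro s
    rw [LinearMap.comp_apply, hcl2]
    constructor
    · rintro ⟨y, hy⟩
      refine ⟨-(pi0 _ fs y), ?_⟩
      apply hΨ.inj W hW
      rw [map_neg, map_neg, hΨ.bdry W hW y, neg_neg, hy]
      rfl
    · rintro ⟨n, rfl⟩
      refine ⟨-(eps _ fs n), ?_⟩
      have := hΨ.bdry W hW (eps _ fs n)
      rw [pi0_eps] at this
      rw [map_neg, ← this]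
      rfl

theorem H0 (W : L) (hW : 𝒮.good W) (fs : List R) :
    Nonempty (LinearMap.ker (𝒮.res (inf_le_left : W ⊓ 𝒮.UL fs ≤ W)).hom ≃ₗ[R]
      (DerCA.extCech (𝒮.P W) fs).homology 0) := by
  obtain ⟨Ψ, hΨ⟩ := exists_fam 𝒮 fs
  obtain ⟨cl, hcl1, hcl2⟩ := hc_cls (DerCA.extCech (𝒮.P W) fs) (-1) 0 1 (by simp) (by simp)
  have hsub : Subsingleton ((DerCA.extCech (𝒮.P W) fs).X (-1)) :=
    subsingleton_X_neg _ fs (-1) (by omega)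
  have key : ∀ n : 𝒮.P W, (𝒮.res (inf_le_left : W ⊓ 𝒮.UL fs ≤ W)).hom n = 0 ↔
      ((DerCA.extCech (𝒮.P W) fs).d 0 1).hom (eps _ fs n) = 0 := by
    intro n
    have := hΨ.bdry W hW (eps _ fs n)
    rw [pi0_eps] at this
    constructor
    · intro h
      rw [h, map_zero] at this
      exact neg_eq_zero.mp this.symm
    · intro h
      rw [h, neg_zero] at this
      exact (injective_iff_map_eq_zero _).mp (hΨ.inj W hW) _ this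
  let ζ : LinearMap.ker (𝒮.res (inf_le_left : W ⊓ 𝒮.UL fs ≤ W)).hom →ₗ[R]
      LinearMap.ker ((DerCA.extCech (𝒮.P W) fs).d 0 1).hom :=
    ((eps (𝒮.P W) fs).toLinearMap ∘ₗ (LinearMap.ker (𝒮.res (inf_le_left : W ⊓ 𝒮.UL fs ≤ W)).hom).subtype).codRestrict _
      (fun n => (key n.1).mp n.2)
  refine ⟨LinearEquiv.ofBijective (cl ∘ₗ ζ) ⟨?_, ?_⟩⟩
  · rw [← LinearMap.ker_eq_bot, LinearMap.ker_eq_bot']
    intro n hn
    rw [LinearMap.comp_apply, hcl2] at hn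
    obtain ⟨y, hy⟩ := hn
    rw [Subsingleton.elim y 0, map_zero] at hy
    have : eps (𝒮.P W) fs n.1 = 0 := hy.symm
    exact Subtype.ext ((LinearEquiv.map_eq_zero_iff _).mp this)
  · intro h
    obtain ⟨z, rfl⟩ := hcl1 h
    have hz : (𝒮.res (inf_le_left : W ⊓ 𝒮.UL fs ≤ W)).hom (pi0 _ fs z.1) = 0 := by
      rw [key, eps_pi0]
      exact z.2
    refine ⟨⟨pi0 _ fs z.1, hz⟩, ?_⟩
    rw [LinearMap.comp_apply]
    congr 1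
    exact Subtype.ext (eps_pi0 _ fs z.1)

end Final

end Groth.Agent.Lib.Helper98.CechGlue
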