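import Groth.Agent.Lib.Helper98.ConeElem
import Groth.Agent.Lib.Helper98.HomologyCls
import Groth.Prelude.Def_ega3
import Groth.Prelude.Def_DerCA

/-!
# helper98: `colim_n H^{p-r}(K(f^n; M)) ≃ H^p(extended Čech complex)`  (any commutative ring, any module)
-/

set_option autoImplicit false
set_option linter.unusedSimpArgs false
universe u
open CategoryTheory CochainComplex HomComplex

namespace Groth.Agent.Lib.Helper98.KoszulCechLim

open Groth.Agent.Lib.Helper98.ConeElem Groth.Agent.Lib.Helper98.HomologyCls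

variable {A : Type u} [CommRing A]

/-- powers -/
def pw (f : A) (n : ℕ) : Submonoid.powers f := ⟨f ^ n, n, rfl⟩

lemma pw_add (f : A) (a b : ℕ) : pw f (a + b) = pw f a * pw f b := Subtype.ext (pow_add f a b)

lemma pw_smul {M : Type*} [AddCommGroup M] [Module A M] (f : A) (n : ℕ) (y : M) :
    pw f n • y = f ^ n • y := rfl

section mkDiv
variable {M : Type u} [AddCommGroup M] [Module A M] (S : Submonoid A)

/-- `y ↦ y / s` -/
noncomputable def mkDiv (s : S) : M →ₗ[A] LocalizedModule S M where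
  toFun y := IsLocalizedModule.mk' (LocalizedModule.mkLinearMap S M) y s
  map_add' y y' := IsLocalizedModule.mk'_add _ y y' s
  map_smul' r y := IsLocalizedModule.mk'_smul _ r y s

lemma mkDiv_smul_self (s : S) (y : M) :
    mkDiv S s (s • y) = LocalizedModule.mkLinearMap S M y :=
  IsLocalizedModule.mk'_cancel _ y s

lemma mkDiv_mul (s₁ s₂ : S) (y : M) : mkDiv S (s₁ * s₂) (s₁ • y) = mkDiv S s₂ y :=
  IsLocalizedModule.mk'_cancel_left _ y s₁ s₂

lemma mkDiv_surj (z : LocalizedModule S M) : ∃ (y : M) (s : S), mkDiv S s y = z := by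
  obtain ⟨⟨y, s⟩, h⟩ := IsLocalizedModule.mk'_surjective S (LocalizedModule.mkLinearMap S M) z
  exact ⟨y, s, h⟩

lemma mkDiv_eq_zero (s : S) (y : M) : mkDiv S s y = 0 ↔ ∃ s' : S, s' • y = 0 :=
  IsLocalizedModule.mk'_eq_zero' _ s

end mkDiv

section mkDivC
variable (S : Submonoid A) (C : DRing.Cx A)

/-- `y ↦ y / s` on the terms of a complex -/
noncomputable def mkDivC (q : ℤ) (s : S) : C.X q →ₗ[A] ((DerCA.locCx S).obj C).X q :=
  mkDiv S s

lemma mkDivC_smul_self (q : ℤ) (s : S) (y : C.X q) :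
    mkDivC S C q s (s • y) = ((DerCA.locCxUnit S C).f q).hom y :=
  mkDiv_smul_self S s y

lemma mkDivC_mul (q : ℤ) (s₁ s₂ : S) (y : C.X q) :
    mkDivC S C q (s₁ * s₂) (s₁ • y) = mkDivC S C q s₂ y :=
  mkDiv_mul S s₁ s₂ y

lemma mkDivC_surj (q : ℤ) (z : ((DerCA.locCx S).obj C).X q) :
    ∃ (y : C.X q) (s : S), mkDivC S C q s y = z :=
  mkDiv_surj S z

lemma mkDivC_eq_zero (q : ℤ) (s : S) (y : C.X q) :
    mkDivC S C q s y = 0 ↔ ∃ s' : S, s' • y = 0 :=
  mkDiv_eq_zero S s y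

lemma locCx_d_mkDivC (p q : ℤ) (s : S) (y : C.X p) :
    (((DerCA.locCx S).obj C).d p q).hom (mkDivC S C p s y) = mkDivC S C q s ((C.d p q).hom y) := by
  change (IsLocalizedModule.map S (LocalizedModule.mkLinearMap S (C.X p))
    (LocalizedModule.mkLinearMap S (C.X q)) (C.d p q).hom)
      (IsLocalizedModule.mk' (LocalizedModule.mkLinearMap S (C.X p)) y s) = _
  exact IsLocalizedModule.map_mk' (S := S) (f := LocalizedModule.mkLinearMap S (C.X p))
    (g := LocalizedModule.mkLinearMap S (C.X q)) (C.d p q).hom y s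

end mkDivC

lemma locCxUnit_f_apply (S : Submonoid A) (C : DRing.Cx A) (q : ℤ) (y : C.X q) :
    ((DerCA.locCxUnit S C).f q).hom y = LocalizedModule.mkLinearMap S (C.X q) y := rfl

lemma hom_comm_apply {K L : DRing.Cx A} (g : K ⟶ L) (i j : ℤ) (y : K.X i) :
    (g.f j).hom ((K.d i j).hom y) = (L.d i j).hom ((g.f i).hom y) := by
  have := congrArg (fun k => k.hom y) (g.comm i j)
  simp only [ModuleCat.hom_comp, LinearMap.comp_apply] at this
  exact this.symm

lemma smul_id_f_apply (K : DRing.Cx A) (c : A) (q : ℤ) (y : K.X q) :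
    ((c • 𝟙 K).f q).hom y = c • y := by
  simp

lemma smul_f_apply {K L : DRing.Cx A} (g : K ⟶ L) (c : A) (q : ℤ) (y : K.X q) :
    ((c • g).f q).hom y = c • (g.f q).hom y := by
  simp

/-- comparison data between a system of complexes and a complex, with a degree shift -/
structure Data (K : ℕ → DRing.Cx A) (τ : ∀ n m, n ≤ m → (K n ⟶ K m)) (L : DRing.Cx A) (r : ℤ) where
  ε : A
  hε : ε * ε = 1
  φ : ∀ (n : ℕ) (a b : ℤ), a + r = b → ((K n).X a →ₗ[A] L.X b)
  comm : ∀ (n : ℕ) (a a' b b' : ℤ) (h : a + r = b) (h' : a' + r = b') (_ : a + 1 = a')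
    (x : (K n).X a), (L.d b b').hom (φ n a b h x) = ε • φ n a' b' h' (((K n).d a a').hom x)
  trans : ∀ (n m : ℕ) (hnm : n ≤ m) (a b : ℤ) (h : a + r = b) (x : (K n).X a),
    φ m a b h (((τ n m hnm).f a).hom x) = φ n a b h x
  surj : ∀ (a b : ℤ) (h : a + r = b) (w : L.X b), ∃ n₀ : ℕ, ∀ n, n₀ ≤ n → ∃ x, φ n a b h x = w
  inj : ∀ (n : ℕ) (a b : ℤ) (h : a + r = b) (x : (K n).X a), φ n a b h x = 0 →
    ∃ m₀ : ℕ, n ≤ m₀ ∧ ∀ (m : ℕ) (hnm : n ≤ m), m₀ ≤ m → ((τ n m hnm).f a).hom x = 0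

namespace Data

variable {K : ℕ → DRing.Cx A} {τ : ∀ n m, n ≤ m → (K n ⟶ K m)} {L : DRing.Cx A} {r : ℤ}

def congr_r (D : Data K τ L r) {r' : ℤ} (h : r = r') : Data K τ L r' := by
  subst h; exact D

lemma ε_smul_ε_smul (D : Data K τ L r) {M : Type*} [AddCommGroup M] [Module A M] (y : M) :
    D.ε • D.ε • y = y := by
  rw [smul_smul, D.hε, one_smul]

theorem homology_equiv (D : Data K τ L r) (j j' : ℤ) (h : j + r = j') :
    Nonempty (Module.DirectLimit (fun n => ((K n).homology j : Type u))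
      (fun n m hnm => (HomologicalComplex.homologyMap (τ n m hnm) j).hom) ≃ₗ[A] L.homology j') := by
  refine hc_directLimit_homology K τ L (j - 1) j (j + 1) (j' - 1) j' (j' + 1) (by simp) (by simp)
    (by simp) (by simp) (fun n => D.φ n j j' h) ?_ ?_ ?_ ?_ ?_
  · intro n x hx
    rw [D.comm n j (j + 1) j' (j' + 1) h (by omega) rfl, hx, map_zero, smul_zero]
  · intro n y
    refine ⟨D.ε • D.φ n (j - 1) (j' - 1) (by omega) y, ?_⟩
    rw [map_smul, D.comm n (j - 1) j (j' - 1) j' (by omega) h (by omega), D.ε_smul_ε_smul]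
  · intro n m hnm x
    exact D.trans n m hnm j j' h x
  · intro w hw
    obtain ⟨n₀, hn₀⟩ := D.surj j j' h w
    obtain ⟨x, hx⟩ := hn₀ n₀ le_rfl
    have h1 : D.φ n₀ (j + 1) (j' + 1) (by omega) (((K n₀).d j (j + 1)).hom x) = 0 := by
      have h2 := D.comm n₀ j (j + 1) j' (j' + 1) h (by omega) rfl x
      rw [hx, hw] at h2
      have h3 := congrArg (fun t => D.ε • t) h2
      simp only [smul_zero, D.ε_smul_ε_smul] at h3
      exact h3.symm
    obtain ⟨m₀, hm₀, hm⟩ := D.inj n₀ (j + 1) (j' + 1) (by omega) _ h1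
    refine ⟨m₀, ((τ n₀ m₀ hm₀).f j).hom x, ?_, 0, ?_⟩
    · rw [← hom_comm_apply]
      exact hm m₀ hm₀ le_rfl
    · rw [map_zero, add_zero, D.trans, hx]
  · rintro n x hx ⟨y', hy'⟩
    obtain ⟨n₁, hn₁⟩ := D.surj (j - 1) (j' - 1) (by omega) y'
    obtain ⟨y, hy⟩ := hn₁ (max n n₁) (le_max_right _ _)
    have hnn' : n ≤ max n n₁ := le_max_left _ _
    have h1 : D.φ (max n n₁) j j' h (((τ n (max n n₁) hnn').f j).hom x -
        D.ε • ((K (max n n₁)).d (j - 1) j).hom y) = 0 := by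
      rw [map_sub, D.trans, map_smul,
        ← D.comm (max n n₁) (j - 1) j (j' - 1) j' (by omega) h (by omega), hy, hy', sub_self]
    obtain ⟨m₀, hm₀, hm⟩ := D.inj (max n n₁) j j' h _ h1
    refine ⟨max n n₁, hnn', m₀, hm₀, D.ε • ((τ (max n n₁) m₀ hm₀).f (j - 1)).hom y, ?_⟩
    have h2 := hm m₀ hm₀ le_rfl
    rw [map_sub, sub_eq_zero] at h2
    rw [h2, map_smul, map_smul, hom_comm_apply]

/-- base case: constant system -/
noncomputable def base (C : DRing.Cx A) : Data (fun _ => C) (fun _ _ _ => 𝟙 C) C 0 where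
  ε := 1
  hε := one_mul 1
  φ n a b h := (C.XIsoOfEq (by omega : a = b)).hom.hom
  comm := by
    intro n a a' b b' h h' haa' x
    obtain rfl : a = b := by omega
    obtain rfl : a' = b' := by omega
    simp [HomologicalComplex.XIsoOfEq_rfl]
  trans := by
    intro n m hnm a b h x
    simp
  surj := by
    intro a b h w
    obtain rfl : a = b := by omega
    exact ⟨0, fun n _ => ⟨w, by simp [HomologicalComplex.XIsoOfEq_rfl]⟩⟩
  inj := by
    intro n a b h x hx
    obtain rfl : a = b := by omega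
    refine ⟨n, le_rfl, fun m hnm _ => ?_⟩
    simpa [HomologicalComplex.XIsoOfEq_rfl] using hx

end Data

section Step

variable {K : ℕ → DRing.Cx A} {τ : ∀ n m, n ≤ m → (K n ⟶ K m)} {L : DRing.Cx A} {r : ℤ}
  (D : Data K τ L r) (f : A)

/-- the localisation map -/
noncomputable abbrev U (L : DRing.Cx A) (f : A) :
    L ⟶ (DerCA.locCx (Submonoid.powers f)).obj L := DerCA.locCxUnit (Submonoid.powers f) L

noncomputable def stepφ (n : ℕ) (a b : ℤ) (h : a + (r + 1) = b) :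
    (mappingCone (f ^ n • 𝟙 (K n))).X a →ₗ[A] (mappingCone (U L f)).X (b + -1) :=
  cinl (U L f) (b + -1) b (by omega) ∘ₗ D.φ n (a + 1) b (by omega) ∘ₗ
      cfst (f ^ n • 𝟙 (K n)) a (a + 1) rfl +
    cinr (U L f) (b + -1) ∘ₗ (D.ε • mkDivC (Submonoid.powers f) L (b + -1) (pw f n)) ∘ₗ
      D.φ n a (b + -1) (by omega) ∘ₗ csnd (f ^ n • 𝟙 (K n)) a

lemma cfst_stepφ (n : ℕ) (a a₁ b j : ℤ) (h : a + (r + 1) = b) (ha₁ : a + 1 = a₁)
    (hj : b + -1 + 1 = j) (x : (mappingCone (f ^ n • 𝟙 (K n))).X a) :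
    cfst (U L f) (b + -1) j hj (stepφ D f n a b h x) =
      D.φ n a₁ j (by omega) (cfst (f ^ n • 𝟙 (K n)) a a₁ ha₁ x) := by
  subst ha₁
  obtain rfl : j = b := by omega
  simp only [stepφ, LinearMap.add_apply, LinearMap.comp_apply, map_add, cfst_cinl, cfst_cinr,
    add_zero]

lemma csnd_stepφ (n : ℕ) (a b : ℤ) (h : a + (r + 1) = b)
    (x : (mappingCone (f ^ n • 𝟙 (K n))).X a) :
    csnd (U L f) (b + -1) (stepφ D f n a b h x) =
      D.ε • mkDivC (Submonoid.powers f) L (b + -1) (pw f n)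
        (D.φ n a (b + -1) (by omega) (csnd (f ^ n • 𝟙 (K n)) a x)) := by
  simp only [stepφ, LinearMap.add_apply, LinearMap.comp_apply, map_add, csnd_cinl, csnd_cinr,
    zero_add, LinearMap.smul_apply]

lemma stepφ_comm
    (n : ℕ) (a a' b b' : ℤ) (h : a + (r + 1) = b) (h' : a' + (r + 1) = b') (haa' : a + 1 = a')
    (x : (mappingCone (f ^ n • 𝟙 (K n))).X a) :
    ((mappingCocone (U L f)).d b b').hom (stepφ D f n a b h x) =
      (-D.ε) • stepφ D f n a' b' h' (((mappingCone (f ^ n • 𝟙 (K n))).d a a').hom x) := by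
  rw [cocone_d]
  apply cone_ext (U L f) (b' + -1) b' (by omega)
  · have hL : cfst (U L f) (b' + -1) b' (by omega)
        (-((mappingCone (U L f)).d (b + -1) (b' + -1)).hom (stepφ D f n a b h x)) =
        D.ε • D.φ n (a' + 1) b' (by omega)
          (((K n).d a' (a' + 1)).hom (cfst (f ^ n • 𝟙 (K n)) a a' haa' x)) := by
      rw [map_neg, cfst_d (U L f) (b + -1) (b' + -1) b' (by omega) (by omega), neg_neg,
        cfst_stepφ D f n a a' b (b' + -1) h haa' (by omega),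
        D.comm n a' (a' + 1) (b' + -1) b' (by omega) (by omega) rfl]
    have hR : cfst (U L f) (b' + -1) b' (by omega)
        ((-D.ε) • stepφ D f n a' b' h' (((mappingCone (f ^ n • 𝟙 (K n))).d a a').hom x)) =
        D.ε • D.φ n (a' + 1) b' (by omega)
          (((K n).d a' (a' + 1)).hom (cfst (f ^ n • 𝟙 (K n)) a a' haa' x)) := by
      rw [map_smul, cfst_stepφ D f n a' (a' + 1) b' b' h' rfl (by omega),
        cfst_d (f ^ n • 𝟙 (K n)) a a' (a' + 1) haa' rfl, map_neg, smul_neg, neg_smul,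
        neg_neg]
    rw [hL, hR]
  · have hL : csnd (U L f) (b' + -1)
        (-((mappingCone (U L f)).d (b + -1) (b' + -1)).hom (stepφ D f n a b h x)) =
        -(((U L f).f (b' + -1)).hom (D.φ n a' (b' + -1) (by omega)
            (cfst (f ^ n • 𝟙 (K n)) a a' haa' x)) +
          mkDivC (Submonoid.powers f) L (b' + -1) (pw f n) (D.φ n a' (b' + -1) (by omega)
            (((K n).d a a').hom (csnd (f ^ n • 𝟙 (K n)) a x)))) := by
      rw [map_neg, csnd_d (U L f) (b + -1) (b' + -1) (by omega),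
        cfst_stepφ D f n a a' b (b' + -1) h haa' (by omega), csnd_stepφ]
      congr 2
      rw [map_smul, locCx_d_mkDivC,
        D.comm n a a' (b + -1) (b' + -1) (by omega) (by omega) haa', map_smul,
        D.ε_smul_ε_smul]
    have hR : csnd (U L f) (b' + -1)
        ((-D.ε) • stepφ D f n a' b' h' (((mappingCone (f ^ n • 𝟙 (K n))).d a a').hom x)) =
        -(((U L f).f (b' + -1)).hom (D.φ n a' (b' + -1) (by omega)
            (cfst (f ^ n • 𝟙 (K n)) a a' haa' x)) +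
          mkDivC (Submonoid.powers f) L (b' + -1) (pw f n) (D.φ n a' (b' + -1) (by omega)
            (((K n).d a a').hom (csnd (f ^ n • 𝟙 (K n)) a x)))) := by
      rw [map_smul, csnd_stepφ, csnd_d (f ^ n • 𝟙 (K n)) a a' haa', smul_id_f_apply, neg_smul,
        D.ε_smul_ε_smul, map_add, map_add, map_smul, ← pw_smul, mkDivC_smul_self]
    rw [hL, hR]

lemma stepφ_trans (hc : ∀ n m (h : n ≤ m), (f ^ n • 𝟙 (K n)) ≫ (f ^ (m - n) • τ n m h) =
      τ n m h ≫ (f ^ m • 𝟙 (K m)))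
    (n m : ℕ) (hnm : n ≤ m) (a b : ℤ) (h : a + (r + 1) = b)
    (x : (mappingCone (f ^ n • 𝟙 (K n))).X a) :
    stepφ D f m a b h (((mappingCone.map (f ^ n • 𝟙 (K n)) (f ^ m • 𝟙 (K m)) (τ n m hnm)
      (f ^ (m - n) • τ n m hnm) (hc n m hnm)).f a).hom x) = stepφ D f n a b h x := by
  apply cone_ext (U L f) (b + -1) b (by omega)
  · rw [cfst_stepφ D f m a (a + 1) b b h rfl (by omega),
      cfst_stepφ D f n a (a + 1) b b h rfl (by omega), cfst_map, D.trans]
  · rw [csnd_stepφ, csnd_stepφ, csnd_map, smul_f_apply, map_smul, D.trans]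
    have e : pw f m = pw f (m - n) * pw f n := by
      rw [← pw_add, Nat.sub_add_cancel hnm]
    rw [e, ← pw_smul, mkDivC_mul]

lemma mem_powers_eq_pw (f : A) (s : Submonoid.powers f) : ∃ k : ℕ, s = pw f k := by
  obtain ⟨k, hk⟩ := (Submonoid.mem_powers_iff _ _).1 s.2
  exact ⟨k, Subtype.ext hk.symm⟩

lemma stepφ_surj (a b : ℤ) (h : a + (r + 1) = b) (w : (mappingCone (U L f)).X (b + -1)) :
    ∃ n₀ : ℕ, ∀ n, n₀ ≤ n → ∃ x, stepφ D f n a b h x = w := by
  obtain ⟨z₀, s, hz⟩ := mkDivC_surj (Submonoid.powers f) L (b + -1) (csnd (U L f) (b + -1) w)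
  obtain ⟨k, rfl⟩ := mem_powers_eq_pw f s
  obtain ⟨n₁, hn₁⟩ := D.surj (a + 1) b (by omega) (cfst (U L f) (b + -1) b (by omega) w)
  obtain ⟨n₂, hn₂⟩ := D.surj a (b + -1) (by omega) z₀
  refine ⟨max n₁ (max n₂ k), fun n hn => ?_⟩
  have hn1 : n₁ ≤ n := le_trans (le_max_left _ _) hn
  have hn2 : n₂ ≤ n := le_trans (le_trans (le_max_left _ _) (le_max_right _ _)) hn
  have hnk : k ≤ n := le_trans (le_trans (le_max_right _ _) (le_max_right _ _)) hn
  obtain ⟨u, hu⟩ := hn₁ n hn1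
  obtain ⟨v₀, hv₀⟩ := hn₂ n hn2
  refine ⟨cinl (f ^ n • 𝟙 (K n)) a (a + 1) rfl u +
    cinr (f ^ n • 𝟙 (K n)) a (D.ε • f ^ (n - k) • v₀), ?_⟩
  apply cone_ext (U L f) (b + -1) b (by omega)
  · rw [cfst_stepφ D f n a (a + 1) b b h rfl (by omega), map_add, cfst_cinl, cfst_cinr, add_zero,
      hu]
  · rw [csnd_stepφ, map_add, csnd_cinl, csnd_cinr, zero_add, map_smul, map_smul,
      D.ε_smul_ε_smul, map_smul, hv₀, ← hz]
    have e : pw f n = pw f (n - k) * pw f k := by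
      rw [← pw_add, Nat.sub_add_cancel hnk]
    rw [e, ← pw_smul, mkDivC_mul]

lemma stepφ_inj (hc : ∀ n m (h : n ≤ m), (f ^ n • 𝟙 (K n)) ≫ (f ^ (m - n) • τ n m h) =
      τ n m h ≫ (f ^ m • 𝟙 (K m)))
    (n : ℕ) (a b : ℤ) (h : a + (r + 1) = b) (x : (mappingCone (f ^ n • 𝟙 (K n))).X a)
    (hx : stepφ D f n a b h x = 0) :
    ∃ m₀ : ℕ, n ≤ m₀ ∧ ∀ (m : ℕ) (hnm : n ≤ m), m₀ ≤ m →
      ((mappingCone.map (f ^ n • 𝟙 (K n)) (f ^ m • 𝟙 (K m)) (τ n m hnm)
        (f ^ (m - n) • τ n m hnm) (hc n m hnm)).f a).hom x = 0 := by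
  have h1 : D.φ n (a + 1) b (by omega) (cfst (f ^ n • 𝟙 (K n)) a (a + 1) rfl x) = 0 := by
    rw [← cfst_stepφ D f n a (a + 1) b b h rfl (by omega), hx, map_zero]
  have h2 : mkDivC (Submonoid.powers f) L (b + -1) (pw f n)
      (D.φ n a (b + -1) (by omega) (csnd (f ^ n • 𝟙 (K n)) a x)) = 0 := by
    have h3 := csnd_stepφ D f n a b h x
    rw [hx, map_zero] at h3
    have h4 := congrArg (fun t => D.ε • t) h3
    simp only [smul_zero, D.ε_smul_ε_smul] at h4
    exact h4.symm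
  rw [mkDivC_eq_zero] at h2
  obtain ⟨s', hs'⟩ := h2
  obtain ⟨k, rfl⟩ := mem_powers_eq_pw f s'
  rw [pw_smul, ← map_smul] at hs'
  obtain ⟨m₁, hm₁, H₁⟩ := D.inj n (a + 1) b (by omega) _ h1
  obtain ⟨m₂, hm₂, H₂⟩ := D.inj n a (b + -1) (by omega) _ hs'
  refine ⟨max (max m₁ m₂) (n + k), le_trans hm₁ (le_trans (le_max_left _ _) (le_max_left _ _)),
    fun m hnm hm => ?_⟩
  have hm1 : m₁ ≤ m := le_trans (le_trans (le_max_left _ _) (le_max_left _ _)) hm
  have hm2 : m₂ ≤ m := le_trans (le_trans (le_max_right _ _) (le_max_left _ _)) hm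
  have hmk : n + k ≤ m := le_trans (le_max_right _ _) hm
  apply cone_ext (f ^ m • 𝟙 (K m)) a (a + 1) rfl
  · rw [cfst_map, H₁ m hnm hm1, map_zero]
  · rw [csnd_map, smul_f_apply, map_zero]
    have e : f ^ (m - n) = f ^ (m - n - k) * f ^ k := by
      rw [← pow_add]; congr 1; omega
    rw [e, mul_smul, ← map_smul, H₂ m hnm hm2, smul_zero]

/-- the inductive step: adjoin an element -/
noncomputable def Data.step (hc : ∀ n m (h : n ≤ m), (f ^ n • 𝟙 (K n)) ≫ (f ^ (m - n) • τ n m h) =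
      τ n m h ≫ (f ^ m • 𝟙 (K m))) :
    Data (fun n => mappingCone (f ^ n • 𝟙 (K n)))
      (fun n m h => mappingCone.map (f ^ n • 𝟙 (K n)) (f ^ m • 𝟙 (K m)) (τ n m h)
        (f ^ (m - n) • τ n m h) (hc n m h))
      (mappingCocone (DerCA.locCxUnit (Submonoid.powers f) L)) (r + 1) where
  ε := -D.ε
  hε := by rw [neg_mul_neg, D.hε]
  φ n a b h := stepφ D f n a b h
  comm n a a' b b' h h' haa' x := stepφ_comm D f n a a' b b' h h' haa' x
  trans n m hnm a b h x := stepφ_trans D f hc n m hnm a b h x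
  surj a b h w := stepφ_surj D f a b h w
  inj n a b h x hx := stepφ_inj D f hc n a b h x hx

end Step

section Koszul

lemma koszulTrans_comm (M : ModuleCat.{u} A) (f : A) (fs : List A) (n m : ℕ) (h : n ≤ m) :
    (f ^ n • 𝟙 (CohIII.koszulCx M (fs.map (· ^ n)))) ≫ (f ^ (m - n) • CohIII.koszulTrans M n m h fs) =
      CohIII.koszulTrans M n m h fs ≫ (f ^ m • 𝟙 (CohIII.koszulCx M (fs.map (· ^ m)))) := by
  simp only [Linear.smul_comp, Linear.comp_smul, Category.id_comp, Category.comp_id, smul_smul,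
    ← pow_add, Nat.sub_add_cancel h]

/-- comparison data between the Koszul complexes of the powers and the extended Čech complex -/
noncomputable def koszulData (M : ModuleCat.{u} A) : ∀ fs : List A,
    Data (fun n => CohIII.koszulCx M (fs.map (· ^ n))) (fun n m h => CohIII.koszulTrans M n m h fs)
      (DerCA.extCech M fs) (fs.length : ℤ)
  | [] => Data.base _
  | f :: fs => ((koszulData M fs).step f (koszulTrans_comm M f fs)).congr_r
      (by simp only [List.length_cons]; push_cast; rfl)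

theorem koszulHLim_equiv (fs : List A) (M : ModuleCat.{u} A) (p : ℕ) :
    Nonempty (CohIII.koszulHLim fs M p ≃ₗ[A] (DerCA.extCech M fs).homology (p : ℤ)) :=
  (koszulData M fs).homology_equiv ((p : ℤ) - fs.length) p (by omega)

end Koszul

end Groth.Agent.Lib.Helper98.KoszulCechLim
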