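import Groth.Agent.Lib.Helper98.CechFun

/-!
# helper98: extended Čech complexes along exact functors commuting with localisation

* `coconeMap_id/comp`, `coconeIso` (isomorphic arrows have isomorphic mapping cocones), `mapCoconeIso F φ`
* `LocCompat F f₁ f₂` : `F` (additive, `ModuleCat R₁ ⥤ ModuleCat R₂`) sends the localisation map at `f₁` to a
  localisation map at `f₂`; `alpha`, `unit_alpha`, `alpha_naturality`, `alphaCx`
* `cechFunctorIso F l hl M : F(extCech M (l.map fst)) ≅ extCech (F M) (l.map snd)`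
* `cechH_functor` : if moreover `F.PreservesHomology`, `H^q(extCech (F M) ..) ≅ F (H^q(extCech M ..))`.
-/

set_option autoImplicit false
universe u
open CategoryTheory CategoryTheory.Limits HomologicalComplex CochainComplex HomComplex

namespace Helper98.CechBC

open Helper98.KoszulFun Helper98.CechFun Groth.Agent.Lib.Helper47.ExtCech

attribute [local instance] HasDerivedCategory.standard

section Cocone

variable {A : Type u} [CommRing A]

lemma coconeMap_id {K L : DRing.Cx A} (φ : K ⟶ L) :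
    coconeMap φ φ (𝟙 K) (𝟙 L) (by simp) = 𝟙 _ := by
  unfold coconeMap
  rw [mappingCone.map_id]
  exact CategoryTheory.Functor.map_id _ _

lemma coconeMap_comp {K₁ L₁ K₂ L₂ K₃ L₃ : DRing.Cx A} (φ₁ : K₁ ⟶ L₁) (φ₂ : K₂ ⟶ L₂) (φ₃ : K₃ ⟶ L₃)
    (a : K₁ ⟶ K₂) (b : L₁ ⟶ L₂) (comm : φ₁ ≫ b = a ≫ φ₂) (a' : K₂ ⟶ K₃) (b' : L₂ ⟶ L₃)
    (comm' : φ₂ ≫ b' = a' ≫ φ₃) :
    coconeMap φ₁ φ₃ (a ≫ a') (b ≫ b') (by rw [reassoc_of% comm, comm', Category.assoc]) =
      coconeMap φ₁ φ₂ a b comm ≫ coconeMap φ₂ φ₃ a' b' comm' := by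
  unfold coconeMap
  rw [mappingCone.map_comp φ₁ φ₂ φ₃ a b comm a' b' comm']
  exact CategoryTheory.Functor.map_comp _ _ _

/-- isomorphic arrows have isomorphic cocones -/
noncomputable def coconeIso {K₁ L₁ K₂ L₂ : DRing.Cx A} (φ₁ : K₁ ⟶ L₁) (φ₂ : K₂ ⟶ L₂) (a : K₁ ≅ K₂)
    (b : L₁ ≅ L₂) (comm : φ₁ ≫ b.hom = a.hom ≫ φ₂) : mappingCocone φ₁ ≅ mappingCocone φ₂ where
  hom := coconeMap φ₁ φ₂ a.hom b.hom comm
  inv := coconeMap φ₂ φ₁ a.inv b.inv (by
    rw [← cancel_mono b.hom, Category.assoc, Category.assoc, b.inv_hom_id, Category.comp_id, comm,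
      a.inv_hom_id_assoc])
  hom_inv_id := by
    rw [← coconeMap_comp]
    simp only [Iso.hom_inv_id]
    exact coconeMap_id φ₁
  inv_hom_id := by
    rw [← coconeMap_comp]
    simp only [Iso.inv_hom_id]
    exact coconeMap_id φ₂

end Cocone


section Functor

variable {R₁ R₂ : Type u} [CommRing R₁] [CommRing R₂]
variable (F : ModuleCat.{u} R₁ ⥤ ModuleCat.{u} R₂) [F.Additive]

/-- `F` commutes with mapping cocones -/
noncomputable def mapCoconeIso {K L : DRing.Cx R₁} (φ : K ⟶ L) :
    (F.mapHomologicalComplex (ComplexShape.up ℤ)).obj (mappingCocone φ) ≅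
      mappingCocone ((F.mapHomologicalComplex (ComplexShape.up ℤ)).map φ) :=
  (((F.mapHomologicalComplex (ComplexShape.up ℤ)).commShiftIso (-1 : ℤ)).app (mappingCone φ)) ≪≫
    (CategoryTheory.shiftFunctor (DRing.Cx R₂) (-1 : ℤ)).mapIso (mappingCone.mapHomologicalComplexIso φ F)

/-- `F` carries localisation at `f₁` to localisation at `f₂` -/
def LocCompat (f₁ : R₁) (f₂ : R₂) : Prop :=
  ∀ X : ModuleCat.{u} R₁, IsLocalizedModule (Submonoid.powers f₂)
    (F.map ((DerCA.locUnit (Submonoid.powers f₁)).app X)).hom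

lemma loc_hom_ext (S : Submonoid R₂) {X Y : ModuleCat.{u} R₂}
    (hY : ∀ s : S, IsUnit ((algebraMap R₂ (Module.End R₂ Y)) s))
    (u v : (DerCA.locFunctor S).obj X ⟶ Y)
    (h : (DerCA.locUnit S).app X ≫ u = (DerCA.locUnit S).app X ≫ v) : u = v := by
  ext : 1
  apply IsLocalizedModule.ext S (LocalizedModule.mkLinearMap S X) hY
  exact congrArg ModuleCat.Hom.hom h

variable {F} {f₁ : R₁} {f₂ : R₂} (h : LocCompat F f₁ f₂)

/-- the comparison iso `(F X)_{f₂} ≅ F (X_{f₁})` -/
noncomputable def alpha (X : ModuleCat.{u} R₁) :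
    (DerCA.locFunctor (Submonoid.powers f₂)).obj (F.obj X) ≅
      F.obj ((DerCA.locFunctor (Submonoid.powers f₁)).obj X) :=
  haveI := h X
  (IsLocalizedModule.iso (Submonoid.powers f₂)
    (F.map ((DerCA.locUnit (Submonoid.powers f₁)).app X)).hom).toModuleIso

omit [F.Additive] in
lemma unit_alpha (X : ModuleCat.{u} R₁) :
    (DerCA.locUnit (Submonoid.powers f₂)).app (F.obj X) ≫ (alpha h X).hom =
      F.map ((DerCA.locUnit (Submonoid.powers f₁)).app X) := by
  have := h X
  ext x
  change (IsLocalizedModule.iso (Submonoid.powers f₂)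
    (F.map ((DerCA.locUnit (Submonoid.powers f₁)).app X)).hom)
      (LocalizedModule.mkLinearMap (Submonoid.powers f₂) (F.obj X) x) = _
  rw [LocalizedModule.mkLinearMap_apply, ← IsLocalizedModule.iso_symm_apply (Submonoid.powers f₂)
    (F.map ((DerCA.locUnit (Submonoid.powers f₁)).app X)).hom x, LinearEquiv.apply_symm_apply]

lemma alpha_naturality {X Y : ModuleCat.{u} R₁} (g : X ⟶ Y) :
    (DerCA.locFunctor (Submonoid.powers f₂)).map (F.map g) ≫ (alpha h Y).hom =
      (alpha h X).hom ≫ F.map ((DerCA.locFunctor (Submonoid.powers f₁)).map g) := by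
  have := h Y
  apply loc_hom_ext (Submonoid.powers f₂)
    (IsLocalizedModule.map_units (F.map ((DerCA.locUnit (Submonoid.powers f₁)).app Y)).hom)
  rw [← Category.assoc, ← (DerCA.locUnit (Submonoid.powers f₂)).naturality (F.map g),
    Category.assoc, unit_alpha, ← Category.assoc, unit_alpha]
  change F.map g ≫ _ = _
  rw [← F.map_comp, ← F.map_comp]
  congr 1
  exact (DerCA.locUnit (Submonoid.powers f₁)).naturality g

/-- `alpha` on complexes -/
noncomputable def alphaCx (K : DRing.Cx R₁) :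
    (DerCA.locCx (Submonoid.powers f₂)).obj ((F.mapHomologicalComplex (ComplexShape.up ℤ)).obj K) ≅
      (F.mapHomologicalComplex (ComplexShape.up ℤ)).obj ((DerCA.locCx (Submonoid.powers f₁)).obj K) :=
  HomologicalComplex.Hom.isoOfComponents (fun i => alpha h (K.X i)) (by
    intro i j _
    exact (alpha_naturality h (K.d i j)).symm)

lemma unit_alphaCx (K : DRing.Cx R₁) :
    DerCA.locCxUnit (Submonoid.powers f₂) ((F.mapHomologicalComplex (ComplexShape.up ℤ)).obj K) ≫
      (alphaCx h K).hom =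
      (F.mapHomologicalComplex (ComplexShape.up ℤ)).map (DerCA.locCxUnit (Submonoid.powers f₁) K) := by
  ext i : 1
  exact unit_alpha h (K.X i)


variable (F)

theorem cechFunctorIso (l : List (R₁ × R₂)) (hl : ∀ p ∈ l, LocCompat F p.1 p.2)
    (M : ModuleCat.{u} R₁) :
    Nonempty ((F.mapHomologicalComplex (ComplexShape.up ℤ)).obj
      (DerCA.extCech M (l.map Prod.fst)) ≅ DerCA.extCech (F.obj M) (l.map Prod.snd)) := by
  induction l with
  | nil => exact ⟨(HomologicalComplex.singleMapHomologicalComplex F (ComplexShape.up ℤ) 0).app M⟩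
  | cons p l ih =>
    obtain ⟨e⟩ := ih (fun q hq => hl q (List.mem_cons_of_mem _ hq))
    have h := hl p List.mem_cons_self
    refine ⟨mapCoconeIso F _ ≪≫ coconeIso _ _ e
      ((alphaCx h _).symm ≪≫ (DerCA.locCx (Submonoid.powers p.2)).mapIso e) ?_⟩
    rw [Iso.trans_hom, Iso.symm_hom, ← unit_alphaCx h, Category.assoc, Iso.hom_inv_id_assoc]
    exact locCxUnit_naturality _ e.hom

/-- cohomology of the extended Čech complex commutes with an exact functor compatible with the
localisations -/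
theorem cechH_functor [F.PreservesHomology] (l : List (R₁ × R₂))
    (hl : ∀ p ∈ l, LocCompat F p.1 p.2) (M : ModuleCat.{u} R₁) (q : ℤ) :
    Nonempty ((DerCA.extCech (F.obj M) (l.map Prod.snd)).homology q ≅
      F.obj ((DerCA.extCech M (l.map Prod.fst)).homology q)) := by
  obtain ⟨e⟩ := cechFunctorIso F l hl M
  exact ⟨((homologyFunctor _ _ q).mapIso e).symm ≪≫
    ((DerCA.extCech M (l.map Prod.fst)).sc q).mapHomologyIso F⟩

end Functor

end Helper98.CechBC
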