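import Mathlib

/-!
# Q3 for S1940/S1856 (helper90's call): nonzerodivisors modulo an extended prime along a flat map
-/

set_option autoImplicit false

universe u

open TensorProduct

namespace Groth.Agent.Lib.Helper98.Cyc1940Q3

theorem isSMulRegular_quot {A B : Type u} [CommRing A] [CommRing B] [Algebra A B]
    [Module.Flat A B] (P : Ideal A) [P.IsPrime] (c : A) (hc : c ∉ P) :
    IsSMulRegular (B ⧸ P.map (algebraMap A B)) (algebraMap A B c) := by
  have h1 : IsSMulRegular (A ⧸ P) c := by
    intro x y hxy
    obtain ⟨x, rfl⟩ := Ideal.Quotient.mk_surjective x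
    obtain ⟨y, rfl⟩ := Ideal.Quotient.mk_surjective y
    change c • Ideal.Quotient.mk P x = c • Ideal.Quotient.mk P y at hxy
    rw [Algebra.smul_def, Algebra.smul_def, Ideal.Quotient.algebraMap_eq, ← map_mul, ← map_mul,
      Ideal.Quotient.eq, ← mul_sub] at hxy
    rw [Ideal.Quotient.eq]
    exact (Ideal.IsPrime.mem_or_mem inferInstance hxy).resolve_left hc
  have h2 : IsSMulRegular (B ⊗[A] (A ⧸ P)) (algebraMap A B c) :=
    h1.of_flat_of_isBaseChange (TensorProduct.isBaseChange A (A ⧸ P) B)
  let e := (Algebra.TensorProduct.quotIdealMapEquivTensorQuot B P).toLinearEquiv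
  intro x y hxy
  apply e.injective
  apply h2
  change algebraMap A B c • e x = algebraMap A B c • e y
  rw [← map_smul, ← map_smul]
  exact congrArg e hxy

theorem mk_map_mem_nonZeroDivisors {A B : Type u} [CommRing A] [CommRing B] [Algebra A B]
    [Module.Flat A B] (P : Ideal A) [P.IsPrime] (c : A) (hc : c ∉ P) :
    Ideal.Quotient.mk (P.map (algebraMap A B)) (algebraMap A B c) ∈
      nonZeroDivisors (B ⧸ P.map (algebraMap A B)) := by
  have h := isSMulRegular_quot (B := B) P c hc
  rw [mem_nonZeroDivisors_iff_right]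
  intro x hx
  apply h
  change algebraMap A B c • x = algebraMap A B c • 0
  rw [smul_zero, Algebra.smul_def, Ideal.Quotient.algebraMap_eq, mul_comm]
  exact hx

end Groth.Agent.Lib.Helper98.Cyc1940Q3
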