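import Groth.Agent.Lib.Helper98.KoszulMod
import Groth.Agent.S14433
import Groth.Agent.Lib.Helper67.Depth2

/-!
# helper98: functoriality of `CohIII.koszulCx` in the module, SES/LES, bottom degree, depth sensitivity

* `inl_map`, `inr_map`, `map_fst`, `map_snd`: `mappingCone.map` against `inl/inr/fst/snd`
* `DSE u v`: degreewise short exactness; `dse_cone` (cones of SES), `shortExact_of_dse`
* `kmap φ l : koszulCx M l ⟶ koszulCx N l`, `kmap_smul`, `kmap_id`, `dse_kmap`
* `dse_regular`, `isZero_homology_of_quot`, `not_isZero_homology_of_quot` (LES for `0 → M --y--> M → M/yM → 0`, `y ∈ (xs)`)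
* `isZero_koszulCx_X_neg`, `annSub`, `bottom_homology : H^{-n}(koszulCx M l) ≃ₗ {m | ∀ x ∈ l, x • m = 0}`
* `depth_sensitivity` (uses helper67's Depth library).
-/

set_option autoImplicit false
universe u
open CategoryTheory CategoryTheory.Limits HomologicalComplex CochainComplex HomComplex
open scoped Pointwise

namespace Helper98.KoszulFun

variable {A : Type u} [CommRing A]

section ConeMap

variable {K₁ L₁ K₂ L₂ : DRing.Cx A} (φ₁ : K₁ ⟶ L₁) (φ₂ : K₂ ⟶ L₂) (a : K₁ ⟶ K₂) (b : L₁ ⟶ L₂)
  (comm : φ₁ ≫ b = a ≫ φ₂)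

@[reassoc]
lemma inl_map (p q : ℤ) (hpq : p + (-1) = q) :
    (mappingCone.inl φ₁).v p q hpq ≫ (mappingCone.map φ₁ φ₂ a b comm).f q =
      a.f p ≫ (mappingCone.inl φ₂).v p q hpq := by
  simp [mappingCone.map]

@[reassoc]
lemma inr_map (p : ℤ) :
    (mappingCone.inr φ₁).f p ≫ (mappingCone.map φ₁ φ₂ a b comm).f p =
      b.f p ≫ (mappingCone.inr φ₂).f p := by
  simp [mappingCone.map]

@[reassoc]
lemma map_fst (p q : ℤ) (hpq : p + 1 = q) :
    (mappingCone.map φ₁ φ₂ a b comm).f p ≫ (mappingCone.fst φ₂).1.v p q hpq =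
      (mappingCone.fst φ₁).1.v p q hpq ≫ a.f q := by
  subst hpq
  simp [mappingCone.map, mappingCone.ext_from_iff _ (p + 1) p rfl]

@[reassoc]
lemma map_snd (p : ℤ) :
    (mappingCone.map φ₁ φ₂ a b comm).f p ≫ (mappingCone.snd φ₂).v p p (add_zero p) =
      (mappingCone.snd φ₁).v p p (add_zero p) ≫ b.f p := by
  simp [mappingCone.map, mappingCone.ext_from_iff _ (p + 1) p rfl]

end ConeMap


/-- degreewise short exactness of a composable pair of morphisms of complexes of modules -/
def DSE {X' X X'' : DRing.Cx A} (u : X' ⟶ X) (v : X ⟶ X'') : Prop :=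
  ∀ i : ℤ, Function.Injective (u.f i).hom ∧ Function.Surjective (v.f i).hom ∧
    (∀ x, (v.f i).hom x = 0 ↔ ∃ y, (u.f i).hom y = x)

section ConeSES

variable {K' K K'' L' L L'' : DRing.Cx A} (φ' : K' ⟶ L') (φ : K ⟶ L) (φ'' : K'' ⟶ L'')
  (a : K' ⟶ K) (a' : K ⟶ K'') (b : L' ⟶ L) (b' : L ⟶ L'')
  (c : φ' ≫ b = a ≫ φ) (c' : φ ≫ b' = a' ≫ φ'')

lemma cone_decomp {K L : DRing.Cx A} (φ : K ⟶ L) (i : ℤ) (x : (mappingCone φ).X i) :
    x = ((mappingCone.inl φ).v (i + 1) i (by omega)).hom (((mappingCone.fst φ).1.v i (i + 1) rfl).hom x) +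
      ((mappingCone.inr φ).f i).hom (((mappingCone.snd φ).v i i (add_zero i)).hom x) := by
  have h := mappingCone.id_X φ i (i + 1) rfl
  have := congrArg (fun t => t.hom x) h
  simpa using this.symm

lemma cone_ext {K L : DRing.Cx A} (φ : K ⟶ L) (i : ℤ) (x y : (mappingCone φ).X i)
    (h1 : ((mappingCone.fst φ).1.v i (i + 1) rfl).hom x = ((mappingCone.fst φ).1.v i (i + 1) rfl).hom y)
    (h2 : ((mappingCone.snd φ).v i i (add_zero i)).hom x = ((mappingCone.snd φ).v i i (add_zero i)).hom y) :
    x = y := by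
  rw [cone_decomp φ i x, cone_decomp φ i y, h1, h2]

lemma comp_apply' {X Y Z : ModuleCat.{u} A} (f : X ⟶ Y) (g : Y ⟶ Z) (h : X ⟶ Z) (e : f ≫ g = h) (x : X) :
    g.hom (f.hom x) = h.hom x := by
  subst e
  rfl

lemma fst_inl_apply {K L : DRing.Cx A} (φ : K ⟶ L) (i : ℤ) (u : K.X (i + 1)) :
    ((mappingCone.fst φ).1.v i (i + 1) rfl).hom (((mappingCone.inl φ).v (i + 1) i (by omega)).hom u) = u := by
  exact comp_apply' _ _ _ (mappingCone.inl_v_fst_v φ (i + 1) i rfl) u

lemma snd_inl_apply {K L : DRing.Cx A} (φ : K ⟶ L) (i : ℤ) (u : K.X (i + 1)) :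
    ((mappingCone.snd φ).v i i (add_zero i)).hom (((mappingCone.inl φ).v (i + 1) i (by omega)).hom u) = 0 := by
  exact comp_apply' _ _ _ (mappingCone.inl_v_snd_v φ (i + 1) i (by omega)) u

lemma fst_inr_apply {K L : DRing.Cx A} (φ : K ⟶ L) (i : ℤ) (u : L.X i) :
    ((mappingCone.fst φ).1.v i (i + 1) rfl).hom (((mappingCone.inr φ).f i).hom u) = 0 := by
  exact comp_apply' _ _ _ (mappingCone.inr_f_fst_v φ i (i + 1) rfl) u

lemma snd_inr_apply {K L : DRing.Cx A} (φ : K ⟶ L) (i : ℤ) (u : L.X i) :
    ((mappingCone.snd φ).v i i (add_zero i)).hom (((mappingCone.inr φ).f i).hom u) = u := by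
  exact comp_apply' _ _ _ (mappingCone.inr_f_snd_v φ i) u

lemma map_fst_apply (i : ℤ) (x : (mappingCone φ').X i) :
    ((mappingCone.fst φ).1.v i (i + 1) rfl).hom (((mappingCone.map φ' φ a b c).f i).hom x) =
      (a.f (i + 1)).hom (((mappingCone.fst φ').1.v i (i + 1) rfl).hom x) := by
  have := congrArg (fun t => t.hom x) (map_fst φ' φ a b c i (i + 1) rfl)
  simpa using this

lemma map_snd_apply (i : ℤ) (x : (mappingCone φ').X i) :
    ((mappingCone.snd φ).v i i (add_zero i)).hom (((mappingCone.map φ' φ a b c).f i).hom x) =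
      (b.f i).hom (((mappingCone.snd φ').v i i (add_zero i)).hom x) := by
  have := congrArg (fun t => t.hom x) (map_snd φ' φ a b c i)
  simpa using this

include c c' in
lemma dse_cone (hK : DSE a a') (hL : DSE b b') :
    DSE (mappingCone.map φ' φ a b c) (mappingCone.map φ φ'' a' b' c') := by
  intro i
  obtain ⟨hKi, hKs, hKe⟩ := hK (i + 1)
  obtain ⟨hLi, hLs, hLe⟩ := hL i
  refine ⟨?_, ?_, ?_⟩
  · intro x y hxy
    apply cone_ext
    · apply hKi
      rw [← map_fst_apply φ' φ a b c, ← map_fst_apply φ' φ a b c, hxy]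
    · apply hLi
      rw [← map_snd_apply φ' φ a b c, ← map_snd_apply φ' φ a b c, hxy]
  · intro y
    obtain ⟨u, hu⟩ := hKs (((mappingCone.fst φ'').1.v i (i + 1) rfl).hom y)
    obtain ⟨v, hv⟩ := hLs (((mappingCone.snd φ'').v i i (add_zero i)).hom y)
    refine ⟨((mappingCone.inl φ).v (i + 1) i (by omega)).hom u + ((mappingCone.inr φ).f i).hom v, ?_⟩
    apply cone_ext
    · rw [map_fst_apply, map_add, fst_inl_apply, fst_inr_apply, add_zero, hu]
    · rw [map_snd_apply, map_add, snd_inl_apply, snd_inr_apply, zero_add, hv]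
  · intro x
    constructor
    · intro hx
      have h1 : (a'.f (i + 1)).hom (((mappingCone.fst φ).1.v i (i + 1) rfl).hom x) = 0 := by
        rw [← map_fst_apply φ φ'' a' b' c', hx, map_zero]
      have h2 : (b'.f i).hom (((mappingCone.snd φ).v i i (add_zero i)).hom x) = 0 := by
        rw [← map_snd_apply φ φ'' a' b' c', hx, map_zero]
      obtain ⟨u, hu⟩ := (hKe _).1 h1
      obtain ⟨v, hv⟩ := (hLe _).1 h2
      refine ⟨((mappingCone.inl φ').v (i + 1) i (by omega)).hom u + ((mappingCone.inr φ').f i).hom v, ?_⟩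
      apply cone_ext
      · rw [map_fst_apply, map_add, fst_inl_apply, fst_inr_apply, add_zero, hu]
      · rw [map_snd_apply, map_add, snd_inl_apply, snd_inr_apply, zero_add, hv]
    · rintro ⟨y, rfl⟩
      apply cone_ext
      · rw [map_fst_apply, map_fst_apply, map_zero]
        exact (hKe _).2 ⟨_, rfl⟩
      · rw [map_snd_apply, map_snd_apply, map_zero]
        exact (hLe _).2 ⟨_, rfl⟩

end ConeSES


section KMap

/-- functoriality of `koszulCx` in the module -/
noncomputable def kmap {M N : ModuleCat.{u} A} (φ : M ⟶ N) :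
    ∀ l : List A, CohIII.koszulCx M l ⟶ CohIII.koszulCx N l
  | [] => (HomologicalComplex.single (ModuleCat.{u} A) (ComplexShape.up ℤ) 0).map φ
  | f :: l => mappingCone.map (f • 𝟙 (CohIII.koszulCx M l)) (f • 𝟙 (CohIII.koszulCx N l))
      (kmap φ l) (kmap φ l) (by simp)

lemma cone_map_smul {K₁ L₁ K₂ L₂ : DRing.Cx A} (φ₁ : K₁ ⟶ L₁) (φ₂ : K₂ ⟶ L₂) (a : K₁ ⟶ K₂) (b : L₁ ⟶ L₂)
    (comm : φ₁ ≫ b = a ≫ φ₂) (y : A) (comm' : φ₁ ≫ (y • b) = (y • a) ≫ φ₂) :
    mappingCone.map φ₁ φ₂ (y • a) (y • b) comm' = y • mappingCone.map φ₁ φ₂ a b comm := by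
  ext i : 1
  apply mappingCone.ext_from _ (i + 1) i rfl
  · rw [inl_map]
    simp [inl_map]
  · rw [inr_map]
    simp [inr_map]

lemma kmap_smul {M N : ModuleCat.{u} A} (y : A) (φ : M ⟶ N) (l : List A) :
    kmap (y • φ) l = y • kmap φ l := by
  induction l with
  | nil =>
    apply HomologicalComplex.from_single_hom_ext
    change ((HomologicalComplex.single (ModuleCat.{u} A) (ComplexShape.up ℤ) 0).map (y • φ)).f 0 =
      y • ((HomologicalComplex.single (ModuleCat.{u} A) (ComplexShape.up ℤ) 0).map φ).f 0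
    rw [HomologicalComplex.single_map_f_self, HomologicalComplex.single_map_f_self]
    simp
  | cons f l ih =>
    simp only [kmap, ih]
    exact cone_map_smul _ _ _ _ _ y _

lemma kmap_id (M : ModuleCat.{u} A) (l : List A) : kmap (𝟙 M) l = 𝟙 _ := by
  induction l with
  | nil => exact CategoryTheory.Functor.map_id _ _
  | cons f l ih =>
    simp only [kmap]
    simp only [ih]
    exact mappingCone.map_id _

lemma dse_kmap {M' M M'' : ModuleCat.{u} A} (u : M' ⟶ M) (v : M ⟶ M'')
    (hu : Function.Injective u.hom) (hv : Function.Surjective v.hom)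
    (he : ∀ x, v.hom x = 0 ↔ ∃ y, u.hom y = x) : ∀ l : List A, DSE (kmap u l) (kmap v l)
  | [] => by
    intro i
    by_cases hi : i = 0
    · subst hi
      change Function.Injective (((HomologicalComplex.single (ModuleCat.{u} A) (ComplexShape.up ℤ) 0).map u).f 0).hom ∧
        Function.Surjective (((HomologicalComplex.single (ModuleCat.{u} A) (ComplexShape.up ℤ) 0).map v).f 0).hom ∧
        ∀ x, (((HomologicalComplex.single (ModuleCat.{u} A) (ComplexShape.up ℤ) 0).map v).f 0).hom x = 0 ↔
          ∃ y, (((HomologicalComplex.single (ModuleCat.{u} A) (ComplexShape.up ℤ) 0).map u).f 0).hom y = x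
      rw [HomologicalComplex.single_map_f_self, HomologicalComplex.single_map_f_self]
      let e' := (HomologicalComplex.singleObjXSelf (ComplexShape.up ℤ) 0 M').toLinearEquiv
      let e := (HomologicalComplex.singleObjXSelf (ComplexShape.up ℤ) 0 M).toLinearEquiv
      let e'' := (HomologicalComplex.singleObjXSelf (ComplexShape.up ℤ) 0 M'').toLinearEquiv
      refine ⟨?_, ?_, ?_⟩
      · intro x y hxy
        have : e.symm (u.hom (e' x)) = e.symm (u.hom (e' y)) := hxy
        exact e'.injective (hu (e.symm.injective this))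
      · intro z
        obtain ⟨w, hw⟩ := hv (e'' z)
        refine ⟨e.symm w, ?_⟩
        change e''.symm (v.hom (e (e.symm w))) = z
        rw [LinearEquiv.apply_symm_apply, hw, LinearEquiv.symm_apply_apply]
      · intro x
        change e''.symm (v.hom (e x)) = 0 ↔ ∃ y, e.symm (u.hom (e' y)) = x
        rw [LinearEquiv.map_eq_zero_iff, he]
        constructor
        · rintro ⟨y, hy⟩
          exact ⟨e'.symm y, by rw [LinearEquiv.apply_symm_apply, hy, LinearEquiv.symm_apply_apply]⟩
        · rintro ⟨y, rfl⟩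
          exact ⟨e' y, by rw [LinearEquiv.apply_symm_apply]⟩
    · have h1 : Subsingleton ((CohIII.koszulCx M' []).X i) :=
        ModuleCat.subsingleton_of_isZero (HomologicalComplex.isZero_single_obj_X _ _ _ _ hi)
      have h2 : Subsingleton ((CohIII.koszulCx M []).X i) :=
        ModuleCat.subsingleton_of_isZero (HomologicalComplex.isZero_single_obj_X _ _ _ _ hi)
      have h3 : Subsingleton ((CohIII.koszulCx M'' []).X i) :=
        ModuleCat.subsingleton_of_isZero (HomologicalComplex.isZero_single_obj_X _ _ _ _ hi)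
      refine ⟨fun x y _ => Subsingleton.elim _ _, fun z => ⟨0, Subsingleton.elim _ _⟩, fun x => ?_⟩
      exact ⟨fun _ => ⟨0, Subsingleton.elim _ _⟩, fun _ => Subsingleton.elim _ _⟩
  | f :: l => dse_cone _ _ _ _ _ _ _ _ _ (dse_kmap u v hu hv he l) (dse_kmap u v hu hv he l)

end KMap


section SES

lemma dse_comp_zero {X' X X'' : DRing.Cx A} (u : X' ⟶ X) (v : X ⟶ X'') (h : DSE u v) : u ≫ v = 0 := by
  ext i x
  exact ((h i).2.2 _).2 ⟨x, rfl⟩

lemma shortExact_of_dse {X' X X'' : DRing.Cx A} (u : X' ⟶ X) (v : X ⟶ X'') (h : DSE u v) :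
    (ShortComplex.mk u v (dse_comp_zero u v h)).ShortExact := by
  apply HomologicalComplex.shortExact_of_degreewise_shortExact
  intro i
  obtain ⟨h1, h2, h3⟩ := h i
  exact
    { exact := by
        rw [ShortComplex.moduleCat_exact_iff]
        intro x hx
        exact (h3 x).1 hx
      mono_f := (ModuleCat.mono_iff_injective _).2 h1
      epi_g := (ModuleCat.epi_iff_surjective _).2 h2 }

end SES


section Regular

variable (M : Type u) [AddCommGroup M] [Module A M] (y : A) (hy : IsSMulRegular M y) (xs : List A)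
  (hyx : y ∈ Ideal.span {x | x ∈ xs})

/-- the SES `0 → K(xs;M) --y--> K(xs;M) → K(xs;M/yM) → 0`. -/
lemma dse_regular (hy : IsSMulRegular M y) :
    DSE (kmap (y • 𝟙 (ModuleCat.of A M)) xs)
      (kmap (ModuleCat.ofHom (Submodule.mkQ (y • (⊤ : Submodule A M)))) xs) := by
  apply dse_kmap
  · exact hy
  · exact Submodule.mkQ_surjective _
  · intro x
    change Submodule.mkQ (y • (⊤ : Submodule A M)) x = 0 ↔ ∃ z : M, y • z = x
    rw [Submodule.mkQ_apply, Submodule.Quotient.mk_eq_zero, Submodule.mem_smul_pointwise_iff_exists]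
    simp

include hyx in
lemma homologyMap_kmap_smul_eq_zero (j : ℤ) :
    homologyMap (kmap (y • 𝟙 (ModuleCat.of A M)) xs) j = 0 := by
  rw [kmap_smul, kmap_id]
  obtain ⟨h⟩ := Groth.Agent.S14433.span_homotopy (ModuleCat.of A M) xs y hyx
  rw [h.homologyMap_eq j, homologyMap_zero]

include hy hyx in
lemma isZero_homology_of_quot (i j : ℤ) (hij : i + 1 = j)
    (h : IsZero ((CohIII.koszulCx (ModuleCat.of A (QuotSMulTop y M)) xs).homology i)) :
    IsZero ((CohIII.koszulCx (ModuleCat.of A M) xs).homology j) := by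
  have hS := shortExact_of_dse _ _ (dse_regular M y xs hy)
  have e1 := hS.homology_exact₁ i j hij
  have : Epi (hS.δ i j hij) := e1.epi_f (homologyMap_kmap_smul_eq_zero M y xs hyx j)
  exact IsZero.of_epi (hS.δ i j hij) h

include hy in
lemma not_isZero_homology_of_quot (i j : ℤ) (hij : i + 1 = j)
    (h0 : IsZero ((CohIII.koszulCx (ModuleCat.of A M) xs).homology i))
    (h : ¬ IsZero ((CohIII.koszulCx (ModuleCat.of A (QuotSMulTop y M)) xs).homology i)) :
    ¬ IsZero ((CohIII.koszulCx (ModuleCat.of A M) xs).homology j) := by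
  have hS := shortExact_of_dse _ _ (dse_regular M y xs hy)
  have e3 := hS.homology_exact₃ i j hij
  have : Mono (hS.δ i j hij) := e3.mono_g (h0.eq_of_src _ _)
  intro hj
  exact h (IsZero.of_mono (hS.δ i j hij) hj)

end Regular


section Bottom

attribute [local instance] HasDerivedCategory.standard

lemma isZero_koszulCx_X_neg (M : ModuleCat.{u} A) (l : List A) (i : ℤ) (hi : i < -(l.length : ℤ)) :
    IsZero ((CohIII.koszulCx M l).X i) := by
  induction l generalizing i with
  | nil =>
    simp only [List.length_nil, Nat.cast_zero, neg_zero] at hi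
    exact HomologicalComplex.isZero_single_obj_X _ _ _ _ (by omega)
  | cons a l ih =>
    simp only [List.length_cons, Nat.cast_add, Nat.cast_one] at hi
    change IsZero ((mappingCone (a • 𝟙 (CohIII.koszulCx M l))).X i)
    rw [mappingCone.isZero_X_iff]
    exact ⟨ih _ (by omega), ih _ (by omega)⟩

/-- elements of `M` annihilated by all members of `l` -/
def annSub (M : Type u) [AddCommGroup M] [Module A M] (l : List A) : Submodule A M where
  carrier := {m | ∀ x ∈ l, x • m = 0}
  add_mem' := by
    intro a b ha hb x hx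
    rw [smul_add, ha x hx, hb x hx, add_zero]
  zero_mem' := by
    intro x _
    exact smul_zero x
  smul_mem' := by
    intro c m hm x hx
    rw [smul_comm, hm x hx, smul_zero]

lemma mem_annSub {M : Type u} [AddCommGroup M] [Module A M] (l : List A) (m : M) :
    m ∈ annSub M l ↔ ∀ x ∈ l, x • m = 0 := Iff.rfl

theorem bottom_homology (M : Type u) [AddCommGroup M] [Module A M] (l : List A) (i : ℤ)
    (hi : i = -(l.length : ℤ)) :
    Nonempty ((CohIII.koszulCx (ModuleCat.of A M) l).homology i ≃ₗ[A] annSub M l) := by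
  induction l generalizing i with
  | nil =>
    simp only [List.length_nil, Nat.cast_zero, neg_zero] at hi
    subst hi
    refine ⟨(HomologicalComplex.singleObjHomologySelfIso _ _ _).toLinearEquiv ≪≫ₗ ?_⟩
    refine (LinearEquiv.ofTop (annSub M []) ?_).symm
    rw [eq_top_iff]
    intro m _ x hx
    simp at hx
  | cons f l ih =>
    simp only [List.length_cons, Nat.cast_add, Nat.cast_one] at hi
    obtain ⟨e⟩ := ih (i + 1) (by omega)
    set K := CohIII.koszulCx (ModuleCat.of A M) l with hK
    have hd := Helper98.KoszulLES.cone_dist K f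
    have e3 := CochainComplex.homologyMap_exact₃_of_distTriang _ hd i (i + 1) rfl
    have e1 := CochainComplex.homologyMap_exact₁_of_distTriang _ hd i (i + 1) rfl
    have hz : IsZero (K.homology i) :=
      ShortComplex.isZero_homology_of_isZero_X₂ _ (isZero_koszulCx_X_neg _ l i (by omega))
    have hmono : Mono (homologyδOfTriangle (mappingCone.triangle (f • 𝟙 K)) i (i + 1) rfl) :=
      e3.mono_g (hz.eq_of_src _ _)
    let δ' : (mappingCone (f • 𝟙 K)).homology i →ₗ[A] K.homology (i + 1) :=
      (homologyδOfTriangle (mappingCone.triangle (f • 𝟙 K)) i (i + 1) rfl).hom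
    have hinj : Function.Injective δ' := (ModuleCat.mono_iff_injective _).1 hmono
    rw [ShortComplex.moduleCat_exact_iff] at e1
    have hrange : ∀ z : K.homology (i + 1), f • z = 0 ↔ ∃ w, δ' w = z := by
      intro z
      constructor
      · intro hz'
        apply e1 z
        change (homologyMap (f • 𝟙 K) (i + 1)).hom z = 0
        rw [Helper98.KoszulLES.homologyMap_smul', homologyMap_id]
        exact hz'
      · rintro ⟨w, rfl⟩
        have h0 := CochainComplex.homologyδOfTriangle_homologyMap _ hd i (i + 1) rfl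
        change _ ≫ homologyMap (f • 𝟙 K) (i + 1) = 0 at h0
        rw [Helper98.KoszulLES.homologyMap_smul', homologyMap_id] at h0
        exact congrArg (fun t => t.hom w) h0
    let Ψ : (mappingCone (f • 𝟙 K)).homology i →ₗ[A] M :=
      (annSub M l).subtype ∘ₗ e.toLinearMap ∘ₗ δ'
    have hΨi : Function.Injective Ψ :=
      (Submodule.injective_subtype _).comp (e.injective.comp hinj)
    have hΨr : LinearMap.range Ψ = annSub M (f :: l) := by
      ext m
      constructor
      · rintro ⟨w, rfl⟩
        intro x hx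
        rcases List.mem_cons.1 hx with rfl | hx'
        · have h1 : x • δ' w = 0 := (hrange _).2 ⟨w, rfl⟩
          have h2 : x • e (δ' w) = 0 := by rw [← e.map_smul, h1, map_zero]
          exact congrArg Subtype.val h2
        · exact (e (δ' w)).2 x hx'
      · intro hm
        have hml : m ∈ annSub M l := fun x hx => hm x (List.mem_cons_of_mem _ hx)
        have hfz : f • e.symm ⟨m, hml⟩ = 0 := by
          rw [← e.symm.map_smul]
          have : f • (⟨m, hml⟩ : annSub M l) = 0 := Subtype.ext (hm f List.mem_cons_self)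
          rw [this, map_zero]
        obtain ⟨w, hw⟩ := (hrange _).1 hfz
        refine ⟨w, ?_⟩
        change ((e (δ' w) : annSub M l) : M) = m
        rw [hw, LinearEquiv.apply_symm_apply]
    exact ⟨LinearEquiv.ofInjective Ψ hΨi ≪≫ₗ LinearEquiv.ofEq _ _ hΨr⟩

end Bottom


section Depth

open LocCoh Groth.Agent.Lib.Helper67

variable {R : Type u} [CommRing R] [IsNoetherianRing R]

lemma exists_ne_zero_mem_annSub (xs : List R) (M : Type u) [AddCommGroup M] [Module R M] [Module.Finite R M]
    (h0 : idealDepth (Ideal.span {x | x ∈ xs}) M = 0) : ∃ m : M, m ≠ 0 ∧ m ∈ annSub M xs := by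
  rw [idealDepth_eq_zero_iff] at h0
  obtain ⟨-, p, hp, hle⟩ := h0
  obtain ⟨hpp, g, hg⟩ := (isAssociatedPrime_iff_exists_injective_linearMap p M).1 hp
  refine ⟨g (Submodule.mkQ p 1), ?_, ?_⟩
  · intro h
    have h1 : Submodule.mkQ p (1 : R) = 0 := hg (by rw [h, map_zero])
    rw [Submodule.mkQ_apply, Submodule.Quotient.mk_eq_zero] at h1
    exact hpp.ne_top ((Ideal.eq_top_iff_one p).2 h1)
  · intro x hx
    rw [← map_smul, ← map_smul, smul_eq_mul, mul_one]
    have hxp : x ∈ p := hle (Ideal.subset_span hx)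
    have : Submodule.mkQ p x = 0 := by
      rw [Submodule.mkQ_apply, Submodule.Quotient.mk_eq_zero]
      exact hxp
    rw [this, map_zero]

theorem depth_sensitivity (xs : List R) : ∀ (r : ℕ) (M : Type u) [AddCommGroup M] [Module R M] [Module.Finite R M],
    (Ideal.span {x | x ∈ xs}) • (⊤ : Submodule R M) ≠ ⊤ →
    idealDepth (Ideal.span {x | x ∈ xs}) M = r →
    (∀ i : ℤ, i < (r : ℤ) - xs.length → IsZero ((CohIII.koszulCx (ModuleCat.of R M) xs).homology i)) ∧
    ¬ IsZero ((CohIII.koszulCx (ModuleCat.of R M) xs).homology ((r : ℤ) - xs.length)) := by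
  intro r
  induction r with
  | zero =>
    intro M _ _ _ hIM hd
    constructor
    · intro i hi
      exact ShortComplex.isZero_homology_of_isZero_X₂ _ (isZero_koszulCx_X_neg _ xs i (by simpa using hi))
    · intro hz
      obtain ⟨m, hm0, hm⟩ := exists_ne_zero_mem_annSub xs M (by simpa using hd)
      obtain ⟨e⟩ := bottom_homology M xs (((0 : ℕ) : ℤ) - xs.length) (by simp)
      have hsub : Subsingleton ((CohIII.koszulCx (ModuleCat.of R M) xs).homology (((0 : ℕ) : ℤ) - xs.length)) :=
        ModuleCat.subsingleton_of_isZero hz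
      have : e.symm ⟨m, hm⟩ = e.symm 0 := Subsingleton.elim _ _
      have h2 := e.symm.injective this
      exact hm0 (congrArg Subtype.val h2)
  | succ r ih =>
    intro M _ _ _ hIM hd
    have h1 : (1 : ℕ∞) ≤ idealDepth (Ideal.span {x | x ∈ xs}) M := by
      rw [hd]
      exact_mod_cast Nat.succ_le_succ (Nat.zero_le r)
    rw [one_le_idealDepth_iff] at h1
    rcases h1 with h1 | ⟨y, hyI, hy⟩
    · exact absurd h1 hIM
    · have hIQ := smul_top_quotSMulTop_ne_top hyI hIM
      have hdQ : idealDepth (Ideal.span {x | x ∈ xs}) (QuotSMulTop y M) = r := by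
        have := idealDepth_quotSMulTop_add_one _ M hIM y hyI hy
        rw [hd] at this
        have h3 : idealDepth (Ideal.span {x | x ∈ xs}) (QuotSMulTop y M) + 1 = (r : ℕ∞) + 1 := by
          rw [this]; norm_cast
        exact (ENat.add_left_injective_of_ne_top ENat.one_ne_top) h3
      obtain ⟨ih1, ih2⟩ := ih (QuotSMulTop y M) hIQ hdQ
      have hfirst : ∀ i : ℤ, i < ((r + 1 : ℕ) : ℤ) - xs.length →
          IsZero ((CohIII.koszulCx (ModuleCat.of R M) xs).homology i) := by
        intro i hi
        exact isZero_homology_of_quot M y hy xs hyI (i - 1) i (by omega) (ih1 _ (by push_cast at hi; omega))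
      refine ⟨hfirst, ?_⟩
      have := not_isZero_homology_of_quot M y hy xs ((r : ℤ) - xs.length) (((r + 1 : ℕ) : ℤ) - xs.length)
        (by push_cast; omega) (hfirst _ (by push_cast; omega)) ih2
      exact this

end Depth

end Helper98.KoszulFun
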