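import Groth.Agent.Lib.Helper92.LocCohDepth
import Groth.Agent.Lib.Helper92.LocCohLoc

set_option autoImplicit false
open CategoryTheory
open scoped Pointwise

namespace Groth.Agent.Lib.Helper98.LCFaltings

open Groth.Agent.Lib.Helper92.LC Groth.Agent.Lib.Helper67

universe u
variable {R : Type u} [CommRing R] [IsNoetherianRing R] (I : Ideal R)

/-- a finite module without `I`-torsion has a regular element in `I` -/
theorem exists_regular (M : Type u) [AddCommGroup M] [Module R M] [Module.Finite R M]
    (h : DRing.torsionSub I M = ⊥) : ∃ r ∈ I, IsSMulRegular M r := by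
  cases subsingleton_or_nontrivial M
  · exact ⟨0, I.zero_mem, IsSMulRegular.zero⟩
  · by_contra! hcon
    obtain ⟨p, hp, hIp⟩ := (forall_not_isSMulRegular_iff I M).1 hcon
    obtain ⟨hprime, x, hx⟩ := isAssociatedPrime_iff.1 hp
    have hx0 : x ≠ 0 := by
      rintro rfl
      apply hprime.ne_top
      rw [hx, Ideal.eq_top_iff_one, Submodule.mem_colon_singleton]
      simp
    have hmem : x ∈ DRing.torsionSub I M := by
      refine ⟨1, fun a ha => ?_⟩
      rw [pow_one] at ha
      have := hIp ha
      rw [hx, Submodule.mem_colon_singleton] at this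
      simpa using this
    rw [h] at hmem
    exact hx0 ((Submodule.mem_bot R).1 hmem)

/-- the sequence `0 → Γ_I(M) → M → M/Γ_I(M) → 0` -/
noncomputable abbrev sesTors (M : Type u) [AddCommGroup M] [Module R M] :
    ShortComplex (ModuleCat.{u} R) :=
  sesOfInjective (DRing.torsionSub I M).subtype

omit [IsNoetherianRing R] in
theorem sesTors_shortExact (M : Type u) [AddCommGroup M] [Module R M] :
    (sesTors I M).ShortExact :=
  sesOfInjective_shortExact _ (Submodule.subtype_injective _)

theorem subsingleton_tors (M : Type u) [AddCommGroup M] [Module R M] (j : ℕ) :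
    Subsingleton ((localCohomology I (j + 1)).obj (sesTors I M).X₁) :=
  subsingleton_of_isPowerTorsion I j _ (isPowerTorsion_torsionSub I M)

/-- `M/Γ_I(M)` has no `I`-torsion -/
theorem torsionSub_quot_eq_bot (M : Type u) [AddCommGroup M] [Module R M] :
    DRing.torsionSub I (sesTors I M).X₃ = ⊥ := by
  rw [eq_bot_iff]
  intro x hx
  rw [Submodule.mem_bot]
  obtain ⟨z, hz⟩ := exists_γ_eq I (M := (sesTors I M).X₃) x hx
  have := subsingleton_tors I M 0
  obtain ⟨y, hy⟩ := exact₃ I 0 (sesTors_shortExact I M) z (Subsingleton.elim _ _)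
  rw [← hz, ← hy, γ_naturality]
  have hmem := γ_mem I y
  change (LinearMap.range (DRing.torsionSub I M).subtype).mkQ (γ I y) = 0
  rw [Submodule.mkQ_apply, Submodule.Quotient.mk_eq_zero]
  exact ⟨⟨_, hmem⟩, rfl⟩

theorem H0_quot_eq_zero (M : Type u) [AddCommGroup M] [Module R M]
    (x : (localCohomology I 0).obj (sesTors I M).X₃) : x = 0 := by
  apply γ_injective I
  rw [map_zero]
  have := γ_mem I x
  rw [torsionSub_quot_eq_bot] at this
  exact (Submodule.mem_bot R).1 this

theorem Hmap_quot_surjective (M : Type u) [AddCommGroup M] [Module R M] (j : ℕ) :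
    Function.Surjective (Hmap I (j + 1) (sesTors I M).g) := by
  intro z
  have := subsingleton_tors I M (j + 1)
  exact exact₃ I (j + 1) (sesTors_shortExact I M) z (Subsingleton.elim _ _)

theorem Hmap_quot_injective (M : Type u) [AddCommGroup M] [Module R M] (j : ℕ) :
    Function.Injective (Hmap I (j + 1) (sesTors I M).g) := by
  rw [injective_iff_map_eq_zero]
  intro y hy
  obtain ⟨x, rfl⟩ := exact₂ I (j + 1) (sesTors_shortExact I M) y hy
  have := subsingleton_tors I M j
  rw [Subsingleton.elim x 0, map_zero]

/-- **Faltings' criterion, easy half**: if a power of `I` kills `H^i_I(M)` for all `i ≤ n`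
(`M` finite over a Noetherian ring) then these modules are finitely generated. -/
theorem finite_of_kills (n : ℕ) : ∀ (M : Type u) [AddCommGroup M] [Module R M]
    [Module.Finite R M] (t : ℕ),
    (∀ i ≤ n, ∀ a ∈ I ^ t, ∀ x : (localCohomology I i).obj (ModuleCat.of R M), a • x = 0) →
    ∀ i ≤ n, Module.Finite R ((localCohomology I i).obj (ModuleCat.of R M)) := by
  induction n with
  | zero =>
    intro M _ _ _ t _ i hi
    obtain rfl : i = 0 := by omega
    exact Module.Finite.of_injective (γ (M := ModuleCat.of R M) I) (γ_injective I)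
  | succ n ih =>
    intro M _ _ _ t hkill i hi
    rcases Nat.lt_or_ge i (n + 1) with hlt | hge
    · exact ih M t (fun i hi => hkill i (by omega)) i (by omega)
    obtain rfl : i = n + 1 := by omega
    -- pass to `M̄ = M/Γ_I(M)`
    have hfin3 : Module.Finite R (sesTors I M).X₃ :=
      Module.Finite.quotient R _
    suffices hbar : Module.Finite R ((localCohomology I (n + 1)).obj (sesTors I M).X₃) from
      Module.Finite.of_injective _ (Hmap_quot_injective I M n)
    have hkillbar : ∀ i ≤ n + 1, ∀ a ∈ I ^ t,
        ∀ x : (localCohomology I i).obj (sesTors I M).X₃, a • x = 0 := by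
      intro i hi a ha x
      cases i with
      | zero => rw [H0_quot_eq_zero I M x, smul_zero]
      | succ j =>
        obtain ⟨y, rfl⟩ := Hmap_quot_surjective I M j x
        rw [← map_smul, hkill (j + 1) hi a ha y, map_zero]
    obtain ⟨r, hrI, hr⟩ := exists_regular I (sesTors I M).X₃ (torsionSub_quot_eq_bot I M)
    have hrt : IsSMulRegular (sesTors I M).X₃ (r ^ t) := hr.pow t
    have hrtI : r ^ t ∈ I ^ t := Ideal.pow_mem_pow hrI t
    have hS := sesSMul_shortExact (sesTors I M).X₃ (r ^ t) hrt
    have hfin' : Module.Finite R (sesSMul (sesTors I M).X₃ (r ^ t)).X₃ :=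
      Module.Finite.quotient R _
    -- `I^(t+t)` kills `H^j(M̄/r^t)` for `j ≤ n`
    have hkill' : ∀ j ≤ n, ∀ c ∈ I ^ (t + t),
        ∀ x : (localCohomology I j).obj (sesSMul (sesTors I M).X₃ (r ^ t)).X₃, c • x = 0 := by
      intro j hj c hc x
      rw [pow_add] at hc
      refine Submodule.mul_induction_on hc ?_ ?_
      · intro a ha b hb
        have h1 : δ I j hS (b • x) = 0 := by
          rw [map_smul]
          exact hkillbar (j + 1) (by omega) b hb _
        obtain ⟨y, hy⟩ := exact₃ I j hS (b • x) h1
        rw [mul_smul, ← hy, ← map_smul, hkillbar j (by omega) a ha y, map_zero]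
      · intro a b ha hb
        rw [add_smul, ha, hb, add_zero]
    have hfinn := ih (sesSMul (sesTors I M).X₃ (r ^ t)).X₃ (t + t) hkill' n le_rfl
    refine Module.Finite.of_surjective (δ I n hS) ?_
    intro x
    apply exact₁ I n hS x
    rw [sesSMul_f, Hmap_smul_id]
    exact hkillbar (n + 1) le_rfl _ hrtI x

omit [IsNoetherianRing R] in
/-- the converse: a finitely generated `H^i_I(M)` is killed by a power of `I`. -/
theorem kills_of_finite (i : ℕ) (M : ModuleCat.{u} R)
    [Module.Finite R ((localCohomology I i).obj M)] :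
    ∃ t : ℕ, ∀ a ∈ I ^ t, ∀ x : (localCohomology I i).obj M, a • x = 0 := by
  obtain ⟨s, hs⟩ := (Module.finite_def (R := R) (M := (localCohomology I i).obj M)).1 inferInstance
  choose t ht using fun y : (localCohomology I i).obj M => exists_pow_smul_eq_zero I i y
  refine ⟨s.sup t, fun a ha x => ?_⟩
  have hx : x ∈ Submodule.span R (s : Set ((localCohomology I i).obj M)) := by
    rw [hs]; exact Submodule.mem_top
  refine Submodule.span_induction ?_ ?_ ?_ ?_ hx
  · intro y hy
    exact ht y a (Ideal.pow_le_pow_right (Finset.le_sup hy) ha)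
  · rw [smul_zero]
  · intro y z _ _ hy hz
    rw [smul_add, hy, hz, add_zero]
  · intro c y _ hy
    rw [smul_comm, hy, smul_zero]

end Groth.Agent.Lib.Helper98.LCFaltings
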