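import Groth.Agent.Lib.Helper98.KoszulEulerAdd
import Groth.Agent.Lib.Helper98.KoszulLES
import Groth.Agent.Lib.Helper8.ResOfExact
import Groth.Agent.Lib.Helper80.TorBalance

set_option autoImplicit false
universe u
open CategoryTheory CategoryTheory.Limits MonoidalCategory HomologicalComplex

namespace Groth.Agent.Lib.Helper98.KoszulEuler

variable {A : Type u} [CommRing A]

/-- An augmentation `K⁰ → H⁰(K) ≅ Z` for a complex vanishing in degree one. -/
lemma exists_aug (K : DRing.Cx A) (h1 : IsZero (K.X 1)) (Z : ModuleCat.{u} A)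
    (e : K.homology 0 ≅ Z) :
    ∃ ε : K.X 0 →ₗ[A] Z, Function.Surjective ε ∧
      LinearMap.ker ε = LinearMap.range (K.d (-1) 0).hom := by
  have hd : K.d 0 1 = 0 := h1.eq_of_tgt _ _
  let lift : K.X 0 ⟶ K.cycles 0 :=
    K.liftCycles (𝟙 _) 1 (by simp) (by rw [Category.id_comp, hd])
  have hlift : lift ≫ K.iCycles 0 = 𝟙 _ := K.liftCycles_i _ _ _ _
  have hlift' : K.iCycles 0 ≫ lift = 𝟙 _ := by
    rw [← cancel_mono (K.iCycles 0), Category.assoc, hlift, Category.comp_id, Category.id_comp]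
  have hiso : IsIso lift := ⟨K.iCycles 0, hlift, hlift'⟩
  refine ⟨(lift ≫ K.homologyπ 0 ≫ e.hom).hom, ?_, ?_⟩
  · rw [← ModuleCat.epi_iff_surjective]
    infer_instance
  · have hex : (ShortComplex.mk (K.toCycles (-1) 0) (K.homologyπ 0)
        (K.toCycles_comp_homologyπ (-1) 0)).Exact :=
      ShortComplex.exact_of_g_is_cokernel _ (K.homologyIsCokernel (-1) 0 (by simp))
    rw [ShortComplex.moduleCat_exact_iff] at hex
    ext x
    rw [LinearMap.mem_ker, LinearMap.mem_range]
    have hinj : Function.Injective e.hom.hom := by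
      rw [← ModuleCat.mono_iff_injective]; infer_instance
    have hinj2 : Function.Injective (K.iCycles 0).hom := by
      rw [← ModuleCat.mono_iff_injective]; infer_instance
    constructor
    · intro hx
      have hx' : (K.homologyπ 0).hom (lift.hom x) = 0 := by
        apply hinj
        rw [map_zero]
        exact hx
      obtain ⟨y, hy⟩ := hex (lift.hom x) hx'
      refine ⟨y, ?_⟩
      have h2 := congrArg (K.iCycles 0).hom hy
      have h3 : (K.iCycles 0).hom ((K.toCycles (-1) 0).hom y) = (K.d (-1) 0).hom y :=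
        congrArg (fun t => t.hom y) (K.toCycles_i (-1) 0)
      have h4 : (K.iCycles 0).hom (lift.hom x) = x := congrArg (fun t => t.hom x) hlift
      change (K.iCycles 0).hom ((K.toCycles (-1) 0).hom y) = (K.iCycles 0).hom (lift.hom x) at h2
      rw [h3, h4] at h2
      exact h2
    · rintro ⟨y, rfl⟩
      have h5 : lift.hom ((K.d (-1) 0).hom y) = (K.toCycles (-1) 0).hom y := by
        apply hinj2
        have h3 : (K.iCycles 0).hom ((K.toCycles (-1) 0).hom y) = (K.d (-1) 0).hom y :=
          congrArg (fun t => t.hom y) (K.toCycles_i (-1) 0)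
        have h4 : (K.iCycles 0).hom (lift.hom ((K.d (-1) 0).hom y)) = (K.d (-1) 0).hom y :=
          congrArg (fun t => t.hom ((K.d (-1) 0).hom y)) hlift
        rw [h3, h4]
      change e.hom.hom ((K.homologyπ 0).hom (lift.hom ((K.d (-1) 0).hom y))) = 0
      rw [h5]
      have h6 : (K.homologyπ 0).hom ((K.toCycles (-1) 0).hom y) = 0 :=
        congrArg (fun t => t.hom y) (K.toCycles_comp_homologyπ (-1) 0)
      rw [h6, map_zero]


/-! ### The Koszul complex as a chain complex indexed by `ℕ` -/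

/-- Terms of the reindexed Koszul complex. -/
abbrev KX (l : List A) (n : ℕ) : Type u := (Koszul.koszul A l).X (-(n : ℤ))

/-- Differentials of the reindexed Koszul complex. -/
noncomputable def Kd (l : List A) (n : ℕ) : KX l (n + 1) →ₗ[A] KX l n :=
  ((Koszul.koszul A l).d (-((n + 1 : ℕ) : ℤ)) (-(n : ℤ))).hom

lemma Kd_comp (l : List A) (n : ℕ) : (Kd l n).comp (Kd l (n + 1)) = 0 := by
  ext x
  have := congrArg (fun t => t.hom x) ((Koszul.koszul A l).d_comp_d (-((n + 1 + 1 : ℕ) : ℤ))
    (-((n + 1 : ℕ) : ℤ)) (-(n : ℤ)))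
  exact this

instance (l : List A) (n : ℕ) : Module.Free A (KX l n) := free_X l _

lemma isZero_koszul_X_pos (l : List A) (i : ℤ) (hi : 0 < i) : IsZero ((Koszul.koszul A l).X i) := by
  induction l generalizing i with
  | nil => exact HomologicalComplex.isZero_single_obj_X _ _ _ _ (by omega)
  | cons a l ih =>
    change IsZero ((CochainComplex.mappingCone (a • 𝟙 (Koszul.koszul A l))).X i)
    rw [CochainComplex.mappingCone.isZero_X_iff]
    exact ⟨ih _ (by omega), ih _ hi⟩

/-- The Koszul resolution of `A/(l)` for a weakly regular sequence `l`. -/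
theorem exists_koszul_resolution (l : List A) (hl : RingTheory.Sequence.IsWeaklyRegular A l) :
    ∃ P : ProjectiveResolution (ModuleCat.of A (A ⧸ Ideal.ofList l)),
      P.complex = Groth.Agent.Lib.Helper8.ResOfExact.cx (KX l) (Kd l) (Kd_comp l) := by
  obtain ⟨hz, ⟨e⟩⟩ := Helper98.KoszulLES.koszul_of_weaklyRegular l hl
  obtain ⟨ε, hsurj, hker⟩ := exists_aug (Koszul.koszul A l) (isZero_koszul_X_pos l 1 one_pos) _ e
  have h0 : LinearMap.ker ε = LinearMap.range (Kd l 0) := hker
  have hε : ε.comp (Kd l 0) = 0 := by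
    ext x
    have : (Kd l 0) x ∈ LinearMap.ker ε := by rw [h0]; exact ⟨x, rfl⟩
    exact this
  have hex : ∀ n, LinearMap.ker (Kd l n) = LinearMap.range (Kd l (n + 1)) := by
    intro n
    have h1 := hz (-((n + 1 : ℕ) : ℤ)) (by omega)
    rw [← HomologicalComplex.exactAt_iff_isZero_homology,
      HomologicalComplex.exactAt_iff' _ (-((n + 1 + 1 : ℕ) : ℤ)) (-((n + 1 : ℕ) : ℤ)) (-(n : ℤ))
        (by simp; omega) (by simp), ShortComplex.moduleCat_exact_iff_range_eq_ker] at h1
    exact h1.symm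
  exact ⟨Groth.Agent.Lib.Helper8.ResOfExact.res (KX l) (Kd l) ε (Kd_comp l) hε hsurj h0 hex, rfl⟩


/-! ### Comparing the homology of the reindexed complex tensored with `M` with `CM l M` -/

open Groth.Agent.Lib.Helper8.ResOfExact in
theorem length_tensor_homology (l : List A) (M : ModuleCat.{u} A) (n : ℕ) :
    Module.length A ((((tensorRight M).mapHomologicalComplex (ComplexShape.down ℕ)).obj
      (cx (KX l) (Kd l) (Kd_comp l))).homology n) =
    Module.length A ((CM l M).homology (-(n : ℤ))) := by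
  set C := ((tensorRight M).mapHomologicalComplex (ComplexShape.down ℕ)).obj
      (cx (KX l) (Kd l) (Kd_comp l)) with hC
  set D := CM l M with hD
  have hCd : ∀ m : ℕ, C.d (m + 1) m =
      (Koszul.koszul A l).d (-((m + 1 : ℕ) : ℤ)) (-(m : ℤ)) ▷ M := by
    intro m
    change (tensorRight M).map ((cx (KX l) (Kd l) (Kd_comp l)).d (m + 1) m) = _
    rw [cx_d]
    rfl
  cases n with
  | zero =>
    have e₁ := C.homologyIsoSc' 1 0 0 (by simp) (by simp)
    have e₂ := D.homologyIsoSc' (-((0 + 1 : ℕ) : ℤ)) (-((0 : ℕ) : ℤ)) 1 (by simp) (by simp)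
    let φ : D.sc' (-((0 + 1 : ℕ) : ℤ)) (-((0 : ℕ) : ℤ)) 1 ⟶ C.sc' 1 0 0 :=
      ShortComplex.homMk (𝟙 _) (𝟙 _) 0 (by
        change 𝟙 _ ≫ C.d 1 0 = D.d _ _ ≫ 𝟙 _
        rw [Category.id_comp, Category.comp_id, hCd 0]
        rfl) (by
        change 𝟙 _ ≫ C.d 0 0 = D.d _ _ ≫ 0
        rw [comp_zero, C.shape 0 0 (by simp), comp_zero]
        rfl)
    have hz : IsZero (D.X 1) :=
      Functor.map_isZero (tensorRight M) (isZero_koszul_X_pos l 1 one_pos)
    have : Epi φ.τ₁ := by change Epi (𝟙 _); infer_instance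
    have : IsIso φ.τ₂ := by change IsIso (𝟙 _); infer_instance
    have : Mono φ.τ₃ := hz.mono _
    have hq := ShortComplex.quasiIso_of_epi_of_isIso_of_mono φ
    exact (e₁ ≪≫ (asIso (ShortComplex.homologyMap φ)).symm ≪≫ e₂.symm).toLinearEquiv.length_eq
  | succ m =>
    have e₁ := C.homologyIsoSc' (m + 1 + 1) (m + 1) m (by simp) (by simp)
    have e₂ := D.homologyIsoSc' (-((m + 1 + 1 : ℕ) : ℤ)) (-((m + 1 : ℕ) : ℤ)) (-(m : ℤ))
      (by simp; omega) (by simp)
    let e₃ : C.sc' (m + 1 + 1) (m + 1) m ≅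
        D.sc' (-((m + 1 + 1 : ℕ) : ℤ)) (-((m + 1 : ℕ) : ℤ)) (-(m : ℤ)) :=
      ShortComplex.isoMk (Iso.refl _) (Iso.refl _) (Iso.refl _) (by
        change 𝟙 _ ≫ D.d _ _ = C.d (m + 1 + 1) (m + 1) ≫ 𝟙 _
        rw [Category.id_comp, Category.comp_id, hCd (m + 1)]
        rfl) (by
        change 𝟙 _ ≫ D.d _ _ = C.d (m + 1) m ≫ 𝟙 _
        rw [Category.id_comp, Category.comp_id, hCd m]
        rfl)
    exact (e₁ ≪≫ ShortComplex.homologyMapIso e₃ ≪≫ e₂.symm).toLinearEquiv.length_eq


/-- For a weakly regular sequence, `Tor_n(A/(l), M)` has the length of the Koszul homology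
`H^{-n}(K(l) ⊗ M)`. -/
theorem length_tor_eq (l : List A) (hl : RingTheory.Sequence.IsWeaklyRegular A l) (M : Type u)
    [AddCommGroup M] [Module A M] (n : ℕ) :
    Module.length A (DRing.Tor A n (A ⧸ Ideal.ofList l) M) =
      Module.length A ((CM l (ModuleCat.of A M)).homology (-(n : ℤ))) := by
  obtain ⟨P, hP⟩ := exists_koszul_resolution l hl
  obtain ⟨e⟩ := Groth.Agent.Lib.Helper80.TorBalance.nonempty_tor_iso_homology
    (ModuleCat.of A (A ⧸ Ideal.ofList l)) (ModuleCat.of A M) P n
  rw [hP] at e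
  rw [← length_tensor_homology l (ModuleCat.of A M) n]
  exact e.toLinearEquiv.length_eq

/-- The Tor Euler characteristic against `A/(l)` for a weakly regular `l` is the Koszul one. -/
theorem tor_chi_eq_chi [IsNoetherianRing A] (l : List A)
    (hl : RingTheory.Sequence.IsWeaklyRegular A l) (M : Type u)
    [AddCommGroup M] [Module A M] [Module.Finite A M] :
    (∑ᶠ i : ℕ, (-1 : ℤ) ^ i * ((Module.length A (DRing.Tor A i (A ⧸ Ideal.ofList l) M)).toNat : ℤ)) =
      chi l (ModuleCat.of A M) := by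
  set f : ℤ → ℤ := fun j => ((j.negOnePow : ℤˣ) : ℤ) *
    ((Module.length A ((CM l (ModuleCat.of A M)).homology j)).toNat : ℤ) with hf
  have h1 : ∀ i : ℕ, (-1 : ℤ) ^ i *
      ((Module.length A (DRing.Tor A i (A ⧸ Ideal.ofList l) M)).toNat : ℤ) = f (-(i : ℤ)) := by
    intro i
    rw [hf]
    simp only
    rw [length_tor_eq l hl M i, Int.negOnePow_neg, Int.negOnePow_def, zpow_natCast]
    simp
  rw [finsum_congr h1]
  have hg : Function.Injective (fun i : ℕ => -(i : ℤ)) := by
    intro a b hab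
    simp only [neg_inj, Nat.cast_inj] at hab
    exact hab
  rw [← finsum_mem_range (f := f) hg]
  have hchi : chi l (ModuleCat.of A M) = ∑ᶠ j ∈ (Set.univ : Set ℤ), f j := by
    rw [finsum_mem_univ]
    rfl
  rw [hchi]
  apply finsum_mem_inter_support_eq'
  intro j hj
  simp only [Set.mem_range, Set.mem_univ, iff_true]
  have hj0 : j ≤ 0 := by
    by_contra hpos
    apply hj
    have hz := (good l (ModuleCat.of A M)).zero j (Or.inl (by omega))
    have := ModuleCat.subsingleton_of_isZero hz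
    have h0 : Module.length A ((CM l (ModuleCat.of A M)).homology j) = 0 := Module.length_eq_zero
    rw [hf]
    simp only
    rw [h0]
    simp
  exact ⟨(-j).toNat, by omega⟩

end Groth.Agent.Lib.Helper98.KoszulEuler
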