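import Mathlib

set_option autoImplicit false
open Filter Topology

namespace Groth.Agent.Lib.Helper98.DiscreteCalc

/-- Backward difference. -/
def bdiff (f : ℤ → ℤ) : ℤ → ℤ := fun p => f p - f (p - 1)

/-- `B d k = C(k + d, d)` for `k ≥ 0`, and `0` for `k < 0`. -/
def B (d : ℕ) : ℤ → ℤ := fun k => if 0 ≤ k then ((k.toNat + d).choose d : ℤ) else 0

lemma bdiff_B (d : ℕ) : bdiff (B (d + 1)) = B d := by
  funext k
  unfold bdiff B
  rcases lt_trichotomy k 0 with hk | hk | hk
  · rw [if_neg (by omega), if_neg (by omega), if_neg (by omega)]; simp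
  · subst hk
    rw [if_pos le_rfl, if_neg (by omega), if_pos le_rfl]
    simp
  · rw [if_pos (by omega), if_pos (by omega), if_pos (by omega)]
    obtain ⟨m, rfl⟩ : ∃ m : ℕ, k = (m : ℤ) + 1 := ⟨(k - 1).toNat, by omega⟩
    have e1 : ((m : ℤ) + 1).toNat = m + 1 := by omega
    have e2 : ((m : ℤ) + 1 - 1).toNat = m := by omega
    rw [e1, e2]
    have h := Nat.choose_succ_succ (m + 1 + d) d
    have e3 : m + 1 + (d + 1) = (m + 1 + d).succ := by omega
    have e4 : m + (d + 1) = m + 1 + d := by omega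
    rw [e3, e4, h]
    push_cast
    ring

lemma iter_bdiff_B (d : ℕ) : bdiff^[d] (B d) = B 0 := by
  induction d with
  | zero => rfl
  | succ d ih => rw [Function.iterate_succ_apply, bdiff_B, ih]

lemma B_zero_of_nonneg (p : ℤ) (hp : 0 ≤ p) : B 0 p = 1 := by
  unfold B
  rw [if_pos hp]
  simp

lemma iter_bdiff_sub_mul (d : ℕ) (c : ℤ) : ∀ f g : ℤ → ℤ,
    bdiff^[d] (fun p => f p - c * g p) = fun p => bdiff^[d] f p - c * bdiff^[d] g p := by
  induction d with
  | zero => intro f g; rfl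
  | succ d ih =>
    intro f g
    rw [Function.iterate_succ_apply]
    have : bdiff (fun p => f p - c * g p) = fun p => bdiff f p - c * bdiff g p := by
      funext p; unfold bdiff; ring
    rw [this, ih]
    rfl

/-- If the `(d+1)`-st difference of `E` vanishes eventually, `E` is `O(n^d)`. -/
theorem growth (d : ℕ) : ∀ (E : ℤ → ℤ) (p₀ : ℤ), (∀ p, p₀ ≤ p → bdiff^[d + 1] E p = 0) →
    ∃ C₀ : ℝ, 0 ≤ C₀ ∧ ∀ n : ℕ, |(E n : ℝ)| ≤ C₀ * ((n : ℝ) + 1) ^ d := by
  induction d with
  | zero =>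
    intro E p₀ h
    set q := p₀.toNat with hq
    have h1 : ∀ n : ℕ, q ≤ n → E n = E q := by
      intro n hn
      induction n, hn using Nat.le_induction with
      | base => rfl
      | succ n hn ih =>
        have h2 := h ((n : ℤ) + 1) (by omega)
        simp only [zero_add, Function.iterate_one, bdiff] at h2
        have h3 : E ((n : ℤ) + 1) = E n := by
          have : (n : ℤ) + 1 - 1 = n := by ring
          rw [this] at h2
          linarith
        push_cast
        rw [h3, ih]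
    refine ⟨∑ j ∈ Finset.range (q + 1), |(E j : ℝ)|, Finset.sum_nonneg (fun _ _ => abs_nonneg _),
      fun n => ?_⟩
    rw [pow_zero, mul_one]
    by_cases hn : q ≤ n
    · rw [h1 n hn]
      exact Finset.single_le_sum (f := fun j : ℕ => |(E j : ℝ)|) (fun _ _ => abs_nonneg _)
        (Finset.mem_range.2 (Nat.lt_succ_self q))
    · exact Finset.single_le_sum (f := fun j : ℕ => |(E j : ℝ)|) (fun _ _ => abs_nonneg _)
        (Finset.mem_range.2 (by omega))
  | succ d ih =>
    intro E p₀ h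
    obtain ⟨C₁, hC₁, hb⟩ := ih (bdiff E) p₀ (fun p hp => by
      have := h p hp
      rwa [Function.iterate_succ_apply] at this)
    have key : ∀ n : ℕ, |(E n : ℝ)| ≤ |(E 0 : ℝ)| + C₁ * n * ((n : ℝ) + 1) ^ d := by
      intro n
      induction n with
      | zero => simp
      | succ n ihn =>
        have h1 : (E ((n + 1 : ℕ) : ℤ) : ℝ) = (E (n : ℤ) : ℝ) + (bdiff E ((n + 1 : ℕ) : ℤ) : ℝ) := by
          unfold bdiff
          have : ((n + 1 : ℕ) : ℤ) - 1 = n := by push_cast; ring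
          rw [this]
          push_cast
          ring
        have h2 := hb (n + 1)
        have h3 : |(E ((n + 1 : ℕ) : ℤ) : ℝ)| ≤ |(E (n : ℤ) : ℝ)| + |(bdiff E ((n + 1 : ℕ) : ℤ) : ℝ)| := by
          rw [h1]; exact abs_add_le _ _
        have h4 : ((n : ℝ) + 1) ^ d ≤ (((n + 1 : ℕ) : ℝ) + 1) ^ d := by
          apply pow_le_pow_left₀ (by positivity)
          push_cast; linarith
        have h5 : (0 : ℝ) ≤ C₁ * n := by positivity
        calc |(E ((n + 1 : ℕ) : ℤ) : ℝ)| ≤ |(E (n : ℤ) : ℝ)| + |(bdiff E ((n + 1 : ℕ) : ℤ) : ℝ)| := h3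
          _ ≤ (|(E 0 : ℝ)| + C₁ * n * ((n : ℝ) + 1) ^ d) + C₁ * (((n + 1 : ℕ) : ℝ) + 1) ^ d :=
            add_le_add ihn h2
          _ ≤ (|(E 0 : ℝ)| + C₁ * n * (((n + 1 : ℕ) : ℝ) + 1) ^ d) + C₁ * (((n + 1 : ℕ) : ℝ) + 1) ^ d := by
            have := mul_le_mul_of_nonneg_left h4 h5
            linarith
          _ = |(E 0 : ℝ)| + C₁ * ((n + 1 : ℕ) : ℝ) * (((n + 1 : ℕ) : ℝ) + 1) ^ d := by
            push_cast; ring
    refine ⟨|(E 0 : ℝ)| + C₁, by positivity, fun n => ?_⟩
    have h1 : (1 : ℝ) ≤ ((n : ℝ) + 1) ^ (d + 1) := one_le_pow₀ (by linarith [Nat.cast_nonneg (α := ℝ) n])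
    have h2 : C₁ * n * ((n : ℝ) + 1) ^ d ≤ C₁ * ((n : ℝ) + 1) ^ (d + 1) := by
      rw [pow_succ]
      have : (0 : ℝ) ≤ ((n : ℝ) + 1) ^ d := by positivity
      nlinarith [mul_nonneg hC₁ this]
    calc |(E n : ℝ)| ≤ |(E 0 : ℝ)| + C₁ * n * ((n : ℝ) + 1) ^ d := key n
      _ ≤ |(E 0 : ℝ)| * ((n : ℝ) + 1) ^ (d + 1) + C₁ * ((n : ℝ) + 1) ^ (d + 1) := by
        have := mul_le_mul_of_nonneg_left h1 (abs_nonneg (E 0 : ℝ))
        linarith
      _ = (|(E 0 : ℝ)| + C₁) * ((n : ℝ) + 1) ^ (d + 1) := by ring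


lemma tendsto_prod_div (d : ℕ) :
    Tendsto (fun n : ℕ => (∏ i ∈ Finset.range d, ((n : ℝ) + 1 + i)) / (n : ℝ) ^ d) atTop (𝓝 1) := by
  induction d with
  | zero => simp
  | succ d ih =>
    have h1 : Tendsto (fun n : ℕ => ((n : ℝ) + 1 + d) / n) atTop (𝓝 1) := by
      have h2 : Tendsto (fun n : ℕ => 1 + ((1 : ℝ) + d) / n) atTop (𝓝 (1 + 0)) :=
        tendsto_const_nhds.add (tendsto_const_div_atTop_nhds_zero_nat _)
      rw [add_zero] at h2
      refine h2.congr' ?_
      filter_upwards [eventually_ne_atTop 0] with n hn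
      have : (n : ℝ) ≠ 0 := Nat.cast_ne_zero.2 hn
      field_simp
      ring
    have h3 := ih.mul h1
    rw [one_mul] at h3
    refine h3.congr (fun n => ?_)
    rw [Finset.prod_range_succ, pow_succ, div_mul_div_comm]

/-- If the `d`-th backward difference of `H` is eventually the constant `c`, then
`d! · H(n) / n^d → c`. -/
theorem tendsto_of_iter_bdiff (d : ℕ) (H : ℤ → ℤ) (c : ℤ) (p₀ : ℤ)
    (h : ∀ p, p₀ ≤ p → bdiff^[d] H p = c) :
    Tendsto (fun n : ℕ => (d.factorial : ℝ) * (H n : ℝ) / (n : ℝ) ^ d) atTop (𝓝 (c : ℝ)) := by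
  cases d with
  | zero =>
    refine tendsto_const_nhds.congr' ?_
    filter_upwards [eventually_ge_atTop p₀.toNat] with n hn
    have := h n (by omega)
    simp only [Function.iterate_zero, id] at this
    simp [this]
  | succ d =>
    set E : ℤ → ℤ := fun p => H p - c * B (d + 1) p with hE
    have hE0 : ∀ p, max p₀ 0 ≤ p → bdiff^[d + 1] E p = 0 := by
      intro p hp
      rw [hE, iter_bdiff_sub_mul, iter_bdiff_B]
      simp only
      rw [h p (le_trans (le_max_left _ _) hp), B_zero_of_nonneg p (le_trans (le_max_right _ _) hp)]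
      ring
    obtain ⟨C₀, hC₀, hb⟩ := growth d E _ hE0
    have hdec : ∀ n : ℕ, ((d + 1).factorial : ℝ) * (H n : ℝ) / (n : ℝ) ^ (d + 1) =
        ((d + 1).factorial : ℝ) * (E n : ℝ) / (n : ℝ) ^ (d + 1) +
        c * ((∏ i ∈ Finset.range (d + 1), ((n : ℝ) + 1 + i)) / (n : ℝ) ^ (d + 1)) := by
      intro n
      have h1 : (B (d + 1) (n : ℤ) : ℝ) = ((n + (d + 1)).choose (d + 1) : ℝ) := by
        unfold B
        rw [if_pos (Int.natCast_nonneg n)]
        simp
      have h2 : (∏ i ∈ Finset.range (d + 1), ((n : ℝ) + 1 + i)) =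
          ((d + 1).factorial : ℝ) * ((n + (d + 1)).choose (d + 1) : ℝ) := by
        have h0 := Nat.ascFactorial_eq_factorial_mul_choose n (d + 1)
        rw [Nat.ascFactorial_eq_prod_range] at h0
        have h0' := congrArg (Nat.cast (R := ℝ)) h0
        push_cast at h0'
        exact h0'
      have h3 : (E n : ℝ) = (H n : ℝ) - c * (B (d + 1) n : ℝ) := by simp [hE]
      rw [h2, h3, h1]
      ring
    have hE_lim : Tendsto (fun n : ℕ => ((d + 1).factorial : ℝ) * (E n : ℝ) / (n : ℝ) ^ (d + 1))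
        atTop (𝓝 0) := by
      set K : ℝ := ((d + 1).factorial : ℝ) * C₀ * 2 ^ d with hKdef
      have hK : Tendsto (fun n : ℕ => K / (n : ℝ)) atTop (𝓝 0) :=
        tendsto_const_div_atTop_nhds_zero_nat K
      refine squeeze_zero_norm' ?_ hK
      filter_upwards [eventually_ge_atTop 1] with n hn
      have hn' : (1 : ℝ) ≤ n := by exact_mod_cast hn
      have hnpos : (0 : ℝ) < n := by linarith
      rw [Real.norm_eq_abs, abs_div, abs_mul,
        abs_of_nonneg (by positivity : (0 : ℝ) ≤ ((d + 1).factorial : ℝ)),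
        abs_of_nonneg (by positivity : (0 : ℝ) ≤ (n : ℝ) ^ (d + 1))]
      rw [div_le_div_iff₀ (by positivity) hnpos]
      have h1 : ((n : ℝ) + 1) ^ d ≤ (2 * n) ^ d := pow_le_pow_left₀ (by positivity) (by linarith) d
      have h2 := hb n
      have h4 : |(E n : ℝ)| ≤ C₀ * (2 * n) ^ d := le_trans h2 (mul_le_mul_of_nonneg_left h1 hC₀)
      calc ((d + 1).factorial : ℝ) * |(E n : ℝ)| * n
          ≤ ((d + 1).factorial : ℝ) * (C₀ * (2 * n) ^ d) * n := by
            apply mul_le_mul_of_nonneg_right _ hnpos.le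
            exact mul_le_mul_of_nonneg_left h4 (by positivity)
        _ = K * (n : ℝ) ^ (d + 1) := by rw [mul_pow, hKdef]; ring
    have hfin := hE_lim.add ((tendsto_prod_div (d + 1)).const_mul (c : ℝ))
    rw [zero_add, mul_one] at hfin
    exact hfin.congr (fun n => (hdec n).symm)

end Groth.Agent.Lib.Helper98.DiscreteCalc
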