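import Groth.Agent.Lib.Helper98.KoszulFilt
import Groth.Agent.Lib.Helper75.EulerChar2
import Groth.Agent.Lib.Helper98.DiscreteCalc

set_option autoImplicit false
universe u
open CategoryTheory CategoryTheory.Limits MonoidalCategory HomologicalComplex CochainComplex HomComplex

namespace Groth.Agent.Lib.Helper98.KoszulEuler

variable {A : Type u} [CommRing A]

theorem chi_eq_sum_quot [IsNoetherianRing A] (l : List A) (M : ModuleCat.{u} A) [Module.Finite A M]
    (hfl : ∀ (k : ℕ) (n : ℤ), IsFiniteLength A ((CM l M).X n ⧸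
      (Ideal.span {a : A | a ∈ l}) ^ k • (⊤ : Submodule A ((CM l M).X n)))) :
    ∃ p₀ : ℤ, ∀ p, p₀ ≤ p → chi l M = ∑ᶠ n : ℤ, ((n.negOnePow : ℤˣ) : ℤ) *
      ((Module.length A ((CM l M).X n ⧸ (Ideal.span {a : A | a ∈ l}) ^ (p + n).toNat •
        (⊤ : Submodule A ((CM l M).X n)))).toNat : ℤ) := by
  classical
  obtain ⟨p₀, hp₀⟩ := exists_filt_acyclic l M
  refine ⟨p₀, fun p hp => ?_⟩
  set S := filtCM l M p with hSdef
  have hS := S.ses_shortExact
  have hiso : ∀ n : ℤ, IsIso (HomologicalComplex.homologyMap S.π n) := by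
    intro n
    have hm : Mono (HomologicalComplex.homologyMap S.π n) :=
      (hS.homology_exact₂ n).mono_g ((hp₀ p hp n).eq_of_src _ _)
    have he : Epi (HomologicalComplex.homologyMap S.π n) :=
      (hS.homology_exact₃ n (n + 1) rfl).epi_f ((hp₀ p hp (n + 1)).eq_of_tgt _ _)
    exact isIso_of_mono_of_epi _
  have hlen : ∀ n : ℤ, Module.length A ((CM l M).homology n) =
      Module.length A (S.quot.homology n) := fun n =>
    (@asIso _ _ _ _ _ (hiso n)).toLinearEquiv.length_eq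
  set s := Finset.Icc (-(l.length : ℤ)) 0 with hs
  have hzero : ∀ i, i ∉ s → IsZero (S.quot.X i) := by
    intro i hi
    have hi' : i < -(l.length : ℤ) ∨ 0 < i := by
      rw [hs, Finset.mem_Icc] at hi; omega
    have := CM_X_subsingleton M l i hi'
    have : Subsingleton ((CM l M).X i ⧸ S.N i) := inferInstance
    exact ModuleCat.isZero_of_subsingleton (ModuleCat.of A ((CM l M).X i ⧸ S.N i))
  have heul := Groth.Agent.Lib.Helper75.EulerChar.euler S.quot s hzero (fun i => hfl _ i)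
  have e1 : chi l M = ∑ᶠ n : ℤ, ((n.negOnePow : ℤˣ) : ℤ) *
      ((Module.length A (S.quot.homology n)).toNat : ℤ) := by
    unfold chi chiC
    exact finsum_congr (fun n => by rw [hlen n])
  rw [e1, finsum_eq_sum_of_support_subset (s := s), ← heul, finsum_eq_sum_of_support_subset (s := s)]
  · rfl
  · intro i hi
    by_contra his
    apply hi
    have := ModuleCat.subsingleton_of_isZero (hzero i his)
    have h0 : Module.length A ((CM l M).X i ⧸ (Ideal.span {a : A | a ∈ l}) ^ (p + i).toNat •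
        (⊤ : Submodule A ((CM l M).X i))) = 0 := by
      have : Subsingleton ((CM l M).X i ⧸ (Ideal.span {a : A | a ∈ l}) ^ (p + i).toNat •
        (⊤ : Submodule A ((CM l M).X i))) := this
      exact Module.length_eq_zero
    show _ * _ = _
    rw [h0]; simp
  · intro i hi
    by_contra his
    apply hi
    have h1 := Groth.Agent.Lib.Helper75.EulerChar.isZero_homology S.quot i (hzero i his)
    have := ModuleCat.subsingleton_of_isZero h1
    have h0 : Module.length A (S.quot.homology i) = 0 := Module.length_eq_zero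
    show _ * _ = _
    rw [h0]; simp


/-! ### Lengths of `X ⧸ I X` -/

lemma length_quot_smul_equiv (I : Ideal A) {X Y : Type u} [AddCommGroup X] [Module A X]
    [AddCommGroup Y] [Module A Y] (e : X ≃ₗ[A] Y) :
    Module.length A (X ⧸ I • (⊤ : Submodule A X)) = Module.length A (Y ⧸ I • (⊤ : Submodule A Y)) := by
  refine (Submodule.Quotient.equiv _ _ e ?_).length_eq
  rw [Submodule.map_smul'', Submodule.map_top, LinearMap.range_eq_top.2 e.surjective]

lemma length_quot_smul_prod (I : Ideal A) (X Y : Type u) [AddCommGroup X] [Module A X]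
    [AddCommGroup Y] [Module A Y] :
    Module.length A ((X × Y) ⧸ I • (⊤ : Submodule A (X × Y))) =
      Module.length A (X ⧸ I • (⊤ : Submodule A X)) + Module.length A (Y ⧸ I • (⊤ : Submodule A Y)) := by
  let f : (X ⧸ I • (⊤ : Submodule A X)) →ₗ[A] ((X × Y) ⧸ I • (⊤ : Submodule A (X × Y))) :=
    Submodule.mapQ _ _ (LinearMap.inl A X Y) (Submodule.smul_top_le_comap_smul_top I _)
  let g : ((X × Y) ⧸ I • (⊤ : Submodule A (X × Y))) →ₗ[A] (Y ⧸ I • (⊤ : Submodule A Y)) :=
    Submodule.mapQ _ _ (LinearMap.snd A X Y) (Submodule.smul_top_le_comap_smul_top I _)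
  refine Module.length_eq_add_of_exact f g ?_ ?_ ?_
  · rw [← LinearMap.ker_eq_bot, LinearMap.ker_eq_bot']
    intro x hx
    obtain ⟨x, rfl⟩ := Submodule.Quotient.mk_surjective _ x
    have h1 : (x, (0 : Y)) ∈ I • (⊤ : Submodule A (X × Y)) :=
      (Submodule.Quotient.mk_eq_zero _).1 hx
    have h2 := Submodule.smul_top_le_comap_smul_top I (LinearMap.fst A X Y) h1
    exact (Submodule.Quotient.mk_eq_zero _).2 h2
  · intro y
    obtain ⟨y, rfl⟩ := Submodule.Quotient.mk_surjective _ y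
    exact ⟨Submodule.Quotient.mk (0, y), rfl⟩
  · intro t
    obtain ⟨⟨x, y⟩, rfl⟩ := Submodule.Quotient.mk_surjective _ t
    constructor
    · intro h
      have h1 : y ∈ I • (⊤ : Submodule A Y) := (Submodule.Quotient.mk_eq_zero _).1 h
      refine ⟨Submodule.Quotient.mk x, ?_⟩
      change Submodule.Quotient.mk (x, (0 : Y)) = Submodule.Quotient.mk (x, y)
      rw [Submodule.Quotient.eq]
      have h2 := Submodule.smul_top_le_comap_smul_top I (LinearMap.inr A X Y) h1
      have : (x, (0 : Y)) - (x, y) = -(LinearMap.inr A X Y y) := by simp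
      rw [this]
      exact Submodule.neg_mem _ h2
    · rintro ⟨x', hx'⟩
      rw [← hx']
      obtain ⟨x', rfl⟩ := Submodule.Quotient.mk_surjective _ x'
      change Submodule.Quotient.mk (0 : Y) = 0
      rfl

lemma length_quot_cons (I : Ideal A) (z : A) (l : List A) (M : ModuleCat.{u} A) (n : ℤ) :
    Module.length A ((CM (z :: l) M).X n ⧸ I • (⊤ : Submodule A ((CM (z :: l) M).X n))) =
      Module.length A ((CM l M).X (n + 1) ⧸ I • (⊤ : Submodule A ((CM l M).X (n + 1)))) +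
      Module.length A ((CM l M).X n ⧸ I • (⊤ : Submodule A ((CM l M).X n))) := by
  rw [length_quot_smul_equiv I (CMconsXEquiv z l M n), length_quot_smul_prod]

lemma length_quot_nil_zero (I : Ideal A) (M : ModuleCat.{u} A) :
    Module.length A ((CM [] M).X 0 ⧸ I • (⊤ : Submodule A ((CM [] M).X 0))) =
      Module.length A (M ⧸ I • (⊤ : Submodule A M)) :=
  length_quot_smul_equiv I (CMnilXEquiv M)

lemma length_quot_of_out (I : Ideal A) (l : List A) (M : ModuleCat.{u} A) (n : ℤ)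
    (hn : n < -(l.length : ℤ) ∨ 0 < n) :
    Module.length A ((CM l M).X n ⧸ I • (⊤ : Submodule A ((CM l M).X n))) = 0 := by
  have := CM_X_subsingleton M l n hn
  exact Module.length_eq_zero

lemma length_quot_ne_top (I : Ideal A) (M : ModuleCat.{u} A)
    (hM : Module.length A (M ⧸ I • (⊤ : Submodule A M)) ≠ ⊤) (l : List A) :
    ∀ n : ℤ, Module.length A ((CM l M).X n ⧸ I • (⊤ : Submodule A ((CM l M).X n))) ≠ ⊤ := by
  induction l with
  | nil =>
    intro n
    by_cases hn : n = 0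
    · subst hn
      rw [length_quot_nil_zero]
      exact hM
    · rw [length_quot_of_out I [] M n (by simp; omega)]
      exact ENat.zero_ne_top
  | cons z l ih =>
    intro n
    rw [length_quot_cons]
    exact WithTop.add_ne_top.2 ⟨ih _, ih _⟩


/-! ### The alternating sum of lengths as an iterated difference -/

open Groth.Agent.Lib.Helper98.DiscreteCalc

/-- `ℓ(C^n / 𝔞^k C^n)` as an integer. -/
noncomputable def Lz (𝔞 : Ideal A) (l : List A) (M : ModuleCat.{u} A) (n : ℤ) (k : ℕ) : ℤ :=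
  ((Module.length A ((CM l M).X n ⧸ 𝔞 ^ k • (⊤ : Submodule A ((CM l M).X n)))).toNat : ℤ)

lemma Lz_cons (𝔞 : Ideal A) (M : ModuleCat.{u} A)
    (hM : ∀ k : ℕ, Module.length A (M ⧸ 𝔞 ^ k • (⊤ : Submodule A M)) ≠ ⊤)
    (z : A) (l : List A) (n : ℤ) (k : ℕ) :
    Lz 𝔞 (z :: l) M n k = Lz 𝔞 l M (n + 1) k + Lz 𝔞 l M n k := by
  unfold Lz
  rw [length_quot_cons, ENat.toNat_add (length_quot_ne_top _ M (hM k) l _)
    (length_quot_ne_top _ M (hM k) l _)]
  push_cast
  rfl

lemma Lz_of_out (𝔞 : Ideal A) (l : List A) (M : ModuleCat.{u} A) (n : ℤ) (k : ℕ)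
    (hn : n < -(l.length : ℤ) ∨ 0 < n) : Lz 𝔞 l M n k = 0 := by
  unfold Lz
  rw [length_quot_of_out _ l M n hn]
  rfl

lemma Lz_nil_zero (𝔞 : Ideal A) (M : ModuleCat.{u} A) (k : ℕ) :
    Lz 𝔞 [] M 0 k = ((Module.length A (M ⧸ 𝔞 ^ k • (⊤ : Submodule A M))).toNat : ℤ) := by
  unfold Lz
  rw [length_quot_nil_zero]

/-- The alternating sum `Σ_n (-1)^n ℓ(C^n / 𝔞^{(p+n)⁺} C^n)`. -/
noncomputable def Tz (𝔞 : Ideal A) (l : List A) (M : ModuleCat.{u} A) (p : ℤ) : ℤ :=
  ∑ᶠ n : ℤ, ((n.negOnePow : ℤˣ) : ℤ) * Lz 𝔞 l M n (p + n).toNat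

lemma Tz_cons (𝔞 : Ideal A) (M : ModuleCat.{u} A)
    (hM : ∀ k : ℕ, Module.length A (M ⧸ 𝔞 ^ k • (⊤ : Submodule A M)) ≠ ⊤)
    (z : A) (l : List A) (p : ℤ) :
    Tz 𝔞 (z :: l) M p = Tz 𝔞 l M p - Tz 𝔞 l M (p - 1) := by
  unfold Tz
  have hsupp : ∀ q : ℤ, (Function.support fun n : ℤ =>
      ((n.negOnePow : ℤˣ) : ℤ) * Lz 𝔞 l M n (q + n).toNat).Finite := by
    intro q
    refine (Finset.Icc (-(l.length : ℤ)) 0).finite_toSet.subset (fun n hn => ?_)
    by_contra h
    apply hn
    simp only [Finset.coe_Icc, Set.mem_Icc, not_and_or, not_le] at h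
    show _ * _ = 0
    rw [Lz_of_out 𝔞 l M n _ h, mul_zero]
  have hsupp' : (Function.support fun n : ℤ =>
      ((n.negOnePow : ℤˣ) : ℤ) * Lz 𝔞 l M (n + 1) (p + n).toNat).Finite := by
    refine (Finset.Icc (-(l.length : ℤ) - 1) 0).finite_toSet.subset (fun n hn => ?_)
    by_contra h
    apply hn
    simp only [Finset.coe_Icc, Set.mem_Icc, not_and_or, not_le] at h
    show _ * _ = 0
    rw [Lz_of_out 𝔞 l M (n + 1) _ (by omega), mul_zero]
  have e1 : ∑ᶠ n : ℤ, ((n.negOnePow : ℤˣ) : ℤ) * Lz 𝔞 l M (n + 1) (p + n).toNat =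
      -(∑ᶠ m : ℤ, ((m.negOnePow : ℤˣ) : ℤ) * Lz 𝔞 l M m (p - 1 + m).toNat) := by
    have e0 := finsum_comp_equiv (Equiv.addRight (1 : ℤ))
      (f := fun m : ℤ => ((m.negOnePow : ℤˣ) : ℤ) * Lz 𝔞 l M m (p - 1 + m).toNat)
    rw [← e0, ← finsum_neg_distrib]
    refine finsum_congr (fun n => ?_)
    simp only [Equiv.coe_addRight, Int.negOnePow_succ, Units.val_neg, neg_mul, neg_neg]
    have : p - 1 + (n + 1) = p + n := by ring
    rw [this]
  simp_rw [Lz_cons 𝔞 M hM, mul_add]
  rw [finsum_add_distrib hsupp' (hsupp p), e1]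
  ring

theorem Tz_eq (𝔞 : Ideal A) (M : ModuleCat.{u} A)
    (hM : ∀ k : ℕ, Module.length A (M ⧸ 𝔞 ^ k • (⊤ : Submodule A M)) ≠ ⊤) (l : List A) :
    Tz 𝔞 l M = bdiff^[l.length]
      (fun p : ℤ => ((Module.length A (M ⧸ 𝔞 ^ p.toNat • (⊤ : Submodule A M))).toNat : ℤ)) := by
  induction l with
  | nil =>
    funext p
    simp only [List.length_nil, Function.iterate_zero, id_eq]
    unfold Tz
    rw [finsum_eq_single _ 0 (fun n hn => by
      rw [Lz_of_out 𝔞 [] M n _ (by simp; omega), mul_zero])]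
    simp [Lz_nil_zero]
  | cons z l ih =>
    rw [List.length_cons, Function.iterate_succ_apply', ← ih]
    funext p
    exact Tz_cons 𝔞 M hM z l p


/-! ### Serre's theorem: Samuel multiplicity = Koszul Euler characteristic -/

lemma isFiniteLength_quot_pow [IsNoetherianRing A] (l : List A) (M : Type u) [AddCommGroup M]
    [Module A M] [Module.Finite A M]
    (hfl : IsFiniteLength A (M ⧸ (Ideal.span {a : A | a ∈ l} • (⊤ : Submodule A M)))) (k : ℕ) :
    IsFiniteLength A (M ⧸ (Ideal.span {a : A | a ∈ l}) ^ k • (⊤ : Submodule A M)) := by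
  refine isFiniteLength_of_kills M {a : A | a ∈ l} hfl _ (fun a ha x => ?_) (fun s hs => ?_)
  · obtain ⟨m, rfl⟩ := Submodule.Quotient.mk_surjective _ x
    rw [← Submodule.Quotient.mk_smul, ha, Submodule.Quotient.mk_zero]
  · refine ⟨k, fun x => ?_⟩
    obtain ⟨m, rfl⟩ := Submodule.Quotient.mk_surjective _ x
    rw [← Submodule.Quotient.mk_smul, Submodule.Quotient.mk_eq_zero]
    exact Submodule.smul_mem_smul (Ideal.pow_mem_pow (Ideal.subset_span hs) k) Submodule.mem_top

open Filter Topology in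
theorem tendsto_samuel_chi [IsNoetherianRing A] (l : List A) (M : Type u) [AddCommGroup M]
    [Module A M] [Module.Finite A M]
    (hfl : IsFiniteLength A (M ⧸ (Ideal.span {a : A | a ∈ l} • (⊤ : Submodule A M)))) :
    Tendsto (fun n : ℕ => (l.length.factorial : ℝ) *
      ((Module.length A (M ⧸ (Ideal.span {a : A | a ∈ l}) ^ n • (⊤ : Submodule A M))).toNat : ℝ) /
        (n : ℝ) ^ l.length) atTop (𝓝 ((chi l (ModuleCat.of A M) : ℤ) : ℝ)) := by
  set 𝔞 := Ideal.span {a : A | a ∈ l} with h𝔞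
  have hM : ∀ k : ℕ, Module.length A ((ModuleCat.of A M) ⧸ 𝔞 ^ k •
      (⊤ : Submodule A (ModuleCat.of A M))) ≠ ⊤ := fun k =>
    Module.length_ne_top_iff.2 (isFiniteLength_quot_pow l M hfl k)
  have hflC : ∀ (k : ℕ) (n : ℤ), IsFiniteLength A ((CM l (ModuleCat.of A M)).X n ⧸
      𝔞 ^ k • (⊤ : Submodule A ((CM l (ModuleCat.of A M)).X n))) := fun k n =>
    Module.length_ne_top_iff.1 (length_quot_ne_top (𝔞 ^ k) (ModuleCat.of A M) (hM k) l n)
  obtain ⟨p₀, hp₀⟩ := chi_eq_sum_quot l (ModuleCat.of A M) hflC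
  have hT := Tz_eq 𝔞 (ModuleCat.of A M) hM l
  have key : ∀ p, p₀ ≤ p → bdiff^[l.length]
      (fun p : ℤ => ((Module.length A (M ⧸ 𝔞 ^ p.toNat • (⊤ : Submodule A M))).toNat : ℤ)) p =
      chi l (ModuleCat.of A M) := by
    intro p hp
    rw [hp₀ p hp]
    exact (congrFun hT p).symm
  have h1 := tendsto_of_iter_bdiff l.length _ _ p₀ key
  refine h1.congr (fun n => ?_)
  simp only [Int.toNat_natCast, Int.cast_natCast]

end Groth.Agent.Lib.Helper98.KoszulEuler
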