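import Groth.Agent.Lib.Helper98.KoszulEulerPerm
import Mathlib.RingTheory.Flat.CategoryTheory
import Mathlib.Algebra.Category.ModuleCat.Biproducts

set_option autoImplicit false
universe u
open CategoryTheory CategoryTheory.Limits MonoidalCategory HomologicalComplex CochainComplex HomComplex
open Groth.Agent.Lib.Helper98.EulerLES
open scoped Pointwise

namespace Groth.Agent.Lib.Helper98.KoszulEuler

variable {A : Type u} [CommRing A]

attribute [local instance] HasDerivedCategory.standard

/-- The terms of the Koszul complex are free. -/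
theorem free_X (l : List A) : ∀ i : ℤ, Module.Free A ((Koszul.koszul A l).X i) := by
  induction l with
  | nil =>
    intro i
    by_cases hi : i = 0
    · subst hi
      exact Module.Free.of_equiv
        (HomologicalComplex.singleObjXSelf (ComplexShape.up ℤ) 0 (ModuleCat.of A A)).toLinearEquiv.symm
    · have : IsZero ((Koszul.koszul A []).X i) :=
        HomologicalComplex.isZero_single_obj_X _ _ _ _ hi
      have : Subsingleton ((Koszul.koszul A []).X i) := ModuleCat.subsingleton_of_isZero this
      infer_instance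
  | cons z l ih =>
    intro i
    have := ih i
    have := ih (i + 1)
    let e : (Koszul.koszul A (z :: l)).X i ≅ ModuleCat.of A ((Koszul.koszul A l).X (i + 1) × (Koszul.koszul A l).X i) :=
      homotopyCofiber.XIsoBiprod (z • 𝟙 (Koszul.koszul A l)) i (i + 1) rfl ≪≫ ModuleCat.biprodIsoProd _ _
    exact Module.Free.of_equiv e.toLinearEquiv.symm

instance flat_X (l : List A) (i : ℤ) : Module.Flat A ((Koszul.koszul A l).X i) := by
  have := free_X l i
  infer_instance

/-- Functoriality of `K(l) ⊗ M` in `M`. -/
noncomputable def CMmap (l : List A) {M N : ModuleCat.{u} A} (f : M ⟶ N) : CM l M ⟶ CM l N :=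
  (NatTrans.mapHomologicalComplex ((tensoringRight (ModuleCat.{u} A)).map f) (ComplexShape.up ℤ)).app
    (Koszul.koszul A l)

@[simp]
lemma CMmap_f (l : List A) {M N : ModuleCat.{u} A} (f : M ⟶ N) (i : ℤ) :
    (CMmap l f).f i = (Koszul.koszul A l).X i ◁ f := rfl

lemma CMmap_id (l : List A) (M : ModuleCat.{u} A) : CMmap l (𝟙 M) = 𝟙 _ := by
  ext i : 1
  exact MonoidalCategory.whiskerLeft_id _ _

lemma CMmap_comp (l : List A) {M N P : ModuleCat.{u} A} (f : M ⟶ N) (g : N ⟶ P) :
    CMmap l (f ≫ g) = CMmap l f ≫ CMmap l g := by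
  ext i : 1
  exact MonoidalCategory.whiskerLeft_comp _ _ _

lemma CMmap_zero (l : List A) (M N : ModuleCat.{u} A) : CMmap l (0 : M ⟶ N) = 0 := by
  ext i : 1
  exact MonoidalPreadditive.whiskerLeft_zero

lemma CMmap_smul (l : List A) {M N : ModuleCat.{u} A} (z : A) (f : M ⟶ N) :
    CMmap l (z • f) = z • CMmap l f := by
  ext i : 1
  exact MonoidalLinear.whiskerLeft_smul _ _ _

/-- Functoriality in `M` for isomorphisms. -/
noncomputable def CMmapIso (l : List A) {M N : ModuleCat.{u} A} (e : M ≅ N) : CM l M ≅ CM l N where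
  hom := CMmap l e.hom
  inv := CMmap l e.inv
  hom_inv_id := by rw [← CMmap_comp, e.hom_inv_id, CMmap_id]
  inv_hom_id := by rw [← CMmap_comp, e.inv_hom_id, CMmap_id]

lemma chi_iso (l : List A) {M N : ModuleCat.{u} A} (e : M ≅ N) : chi l M = chi l N :=
  chiC_iso (CMmapIso l e)

/-- The short complex of complexes attached to a short complex of modules. -/
noncomputable def CMses (l : List A) (S : ShortComplex (ModuleCat.{u} A)) :
    ShortComplex (DRing.Cx A) :=
  ShortComplex.mk (CMmap l S.f) (CMmap l S.g) (by rw [← CMmap_comp, S.zero, CMmap_zero])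

lemma CMses_shortExact (l : List A) (S : ShortComplex (ModuleCat.{u} A)) (hS : S.ShortExact) :
    (CMses l S).ShortExact := by
  apply HomologicalComplex.shortExact_of_degreewise_shortExact
  intro i
  have : Mono S.f := hS.mono_f
  have : Epi S.g := hS.epi_g
  exact hS.map_of_exact (tensorLeft ((Koszul.koszul A l).X i))

/-- Finite length of Koszul homology of `N`, when `Ann M ⊆ Ann N` and `M/(l)M` has finite length. -/
theorem isFiniteLength_homology' [IsNoetherianRing A] (l : List A) (M : Type u) [AddCommGroup M]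
    [Module A M] [Module.Finite A M]
    (hfl : IsFiniteLength A (M ⧸ (Ideal.span {a : A | a ∈ l} • (⊤ : Submodule A M))))
    (N : ModuleCat.{u} A) [Module.Finite A N]
    (hMN : ∀ a : A, (∀ m : M, a • m = 0) → ∀ n : N, a • n = 0) (i : ℤ) :
    IsFiniteLength A ((CM l N).homology i) := by
  have hg := good l N
  have := hg.fin i
  refine isFiniteLength_of_kills M {a : A | a ∈ l} hfl _ (fun a ha x => ?_) (fun s hs => ?_)
  · exact kills_ann l N a (hMN a ha) i x
  · obtain ⟨N, hN⟩ := hg.kill s hs
    exact ⟨N, hN i⟩

/-- Additivity of the Euler characteristic on short exact sequences of complexes. -/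
theorem euler_ses (S : ShortComplex (DRing.Cx A)) (hS : S.ShortExact)
    (h1 : ∀ i, IsFiniteLength A (S.X₁.homology i)) (h3 : ∀ i, IsFiniteLength A (S.X₃.homology i))
    (a b : ℤ) (hb1 : ∀ i, i < a ∨ b < i → IsZero (S.X₁.homology i))
    (hb3 : ∀ i, i < a ∨ b < i → IsZero (S.X₃.homology i)) :
    chiC S.X₂ = chiC S.X₁ + chiC S.X₃ := by
  refine euler_les (A := A) (fun i => S.X₁.homology i) (fun i => S.X₂.homology i)
    (fun i => S.X₃.homology i)
    (fun i => (homologyMap S.f i).hom) (fun i => (homologyMap S.g i).hom)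
    (fun i j h => (hS.δ i j h).hom) ?_ ?_ ?_ h1 h3 a b
    (fun i hi => subsingleton_of_isZero' (hb1 i hi)) (fun i hi => subsingleton_of_isZero' (hb3 i hi))
  · intro i j h
    exact (ShortComplex.ShortExact.moduleCat_exact_iff_function_exact _).1 (hS.homology_exact₁ i j h)
  · intro i
    exact (ShortComplex.ShortExact.moduleCat_exact_iff_function_exact _).1 (hS.homology_exact₂ i)
  · intro i j h
    exact (ShortComplex.ShortExact.moduleCat_exact_iff_function_exact _).1 (hS.homology_exact₃ i j h)

/-- Additivity of `χ(l; -)` on short exact sequences of modules. -/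
theorem chi_add [IsNoetherianRing A] (l : List A) (S : ShortComplex (ModuleCat.{u} A))
    (hS : S.ShortExact) [Module.Finite A S.X₂]
    (hfl : IsFiniteLength A (S.X₂ ⧸ (Ideal.span {a : A | a ∈ l} • (⊤ : Submodule A S.X₂)))) :
    chi l S.X₂ = chi l S.X₁ + chi l S.X₃ := by
  have hinj : Function.Injective S.f.hom := (ModuleCat.mono_iff_injective _).1 hS.mono_f
  have hsurj : Function.Surjective S.g.hom := (ModuleCat.epi_iff_surjective _).1 hS.epi_g
  have : IsNoetherian A S.X₂ := isNoetherian_of_isNoetherianRing_of_finite A _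
  have : Module.Finite A S.X₁ := Module.Finite.of_injective S.f.hom hinj
  have : Module.Finite A S.X₃ := Module.Finite.of_surjective S.g.hom hsurj
  refine euler_ses (CMses l S) (CMses_shortExact l S hS)
    (isFiniteLength_homology' l S.X₂ hfl S.X₁ (fun a ha n => ?_))
    (isFiniteLength_homology' l S.X₂ hfl S.X₃ (fun a ha n => ?_)) (-(l.length : ℤ)) 0
    (fun i hi => (good l S.X₁).zero i (by omega)) (fun i hi => (good l S.X₃).zero i (by omega))
  · apply hinj
    rw [map_smul, ha, map_zero]
  · obtain ⟨m, rfl⟩ := hsurj n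
    rw [← map_smul, ha, map_zero]

/-- Half-exactness: `ℓ(H^i(l; M)) ≤ ℓ(H^i(l; M')) + ℓ(H^i(l; M''))`. -/
theorem length_homology_le (l : List A) (S : ShortComplex (ModuleCat.{u} A))
    (hS : S.ShortExact) (i : ℤ) :
    Module.length A ((CM l S.X₂).homology i) ≤
      Module.length A ((CM l S.X₁).homology i) + Module.length A ((CM l S.X₃).homology i) :=
  length_le_of_exact _ _ ((ShortComplex.ShortExact.moduleCat_exact_iff_function_exact _).1
    ((CMses_shortExact l S hS).homology_exact₂ i))

/-- If `M/(l)M` already has finite length then `χ(w, l; M) = 0`. -/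
theorem chi_cons_zero [IsNoetherianRing A] (w : A) (l : List A) (M : Type u) [AddCommGroup M]
    [Module A M] [Module.Finite A M]
    (hfl : IsFiniteLength A (M ⧸ (Ideal.span {a : A | a ∈ l} • (⊤ : Submodule A M)))) :
    chi (w :: l) (ModuleCat.of A M) = 0 := by
  have hfl' : IsFiniteLength A (M ⧸ (Ideal.span {a : A | a ∈ w :: l} • (⊤ : Submodule A M))) :=
    isFiniteLength_quot_of_pow M _ _ hfl (fun s hs => ⟨1, Ideal.subset_span (by
      rw [pow_one]
      exact List.mem_cons_of_mem _ hs)⟩)
  have key := euler_triangle _ (Helper98.KoszulLES.cone_dist (CM l (ModuleCat.of A M)) w)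
    (isFiniteLength_homology l M hfl) (isFiniteLength_cone w l M hfl')
    (-((l.length : ℤ) + 1)) 0 (fun i hi => (good l (ModuleCat.of A M)).zero i (by omega))
    (fun i hi => isZero_cone w l _ i hi)
  rw [chi_cons]
  change chiC (CM l (ModuleCat.of A M)) = chiC (CM l (ModuleCat.of A M)) +
    chiC (mappingCone (w • 𝟙 (CM l (ModuleCat.of A M)))) at key
  linarith

/-! ### Regular head -/

/-- The short exact sequence `0 → M --z--> M → M/zM → 0`. -/
noncomputable def regSES (z : A) (M : Type u) [AddCommGroup M] [Module A M] :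
    ShortComplex (ModuleCat.{u} A) :=
  ShortComplex.mk (z • 𝟙 (ModuleCat.of A M))
    (ModuleCat.ofHom (Submodule.mkQ (z • (⊤ : Submodule A M)))) (by
      ext m
      change Submodule.mkQ (z • (⊤ : Submodule A M)) (z • m) = 0
      rw [Submodule.mkQ_apply, Submodule.Quotient.mk_eq_zero]
      exact Submodule.smul_mem_pointwise_smul m z ⊤ Submodule.mem_top)

lemma regSES_shortExact (z : A) (M : Type u) [AddCommGroup M] [Module A M]
    (hz : IsSMulRegular M z) : (regSES z M).ShortExact := by
  apply ModuleCat.shortComplex_shortExact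
  · intro (m : M)
    change Submodule.mkQ (z • (⊤ : Submodule A M)) m = 0 ↔ m ∈ Set.range fun m' : M => z • m'
    rw [Submodule.mkQ_apply, Submodule.Quotient.mk_eq_zero, Submodule.mem_smul_pointwise_iff_exists]
    simp
  · exact hz
  · exact Submodule.mkQ_surjective _

/-- For `M`-regular `z`: `H^i(z, l; M) ≅ H^i(l; M/zM)`. -/
noncomputable def regHeadIso (z : A) (l : List A) (M : Type u) [AddCommGroup M] [Module A M]
    (hz : IsSMulRegular M z) (i : ℤ) :
    (CM (z :: l) (ModuleCat.of A M)).homology i ≅
      (CM l (ModuleCat.of A (QuotSMulTop z M))).homology i :=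
  coneHomologyIso z l (ModuleCat.of A M) i ≪≫
    (HomologicalComplex.homologyFunctor _ _ i).mapIso
      (coneEqIso (show z • 𝟙 (CM l (ModuleCat.of A M)) = (CMses l (regSES z M)).f by
        change _ = CMmap l (z • 𝟙 (ModuleCat.of A M))
        rw [CMmap_smul, CMmap_id])) ≪≫
    (haveI := mappingCone.quasiIso_descShortComplex (CMses_shortExact l _ (regSES_shortExact z M hz))
     isoOfQuasiIsoAt
      (mappingCone.descShortComplex (CMses l (regSES z M))) i)

theorem chi_reg_head (z : A) (l : List A) (M : Type u) [AddCommGroup M] [Module A M]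
    (hz : IsSMulRegular M z) :
    chi (z :: l) (ModuleCat.of A M) = chi l (ModuleCat.of A (QuotSMulTop z M)) := by
  unfold chi chiC
  refine finsum_congr (fun i => ?_)
  have : Module.length A ((CM (z :: l) (ModuleCat.of A M)).homology i) =
      Module.length A ((CM l (ModuleCat.of A (QuotSMulTop z M))).homology i) :=
    (regHeadIso z l M hz i).toLinearEquiv.length_eq
  rw [this]

end Groth.Agent.Lib.Helper98.KoszulEuler
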