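import Mathlib.RingTheory.Length
import Mathlib.RingTheory.FiniteLength
import Mathlib.Algebra.BigOperators.Finprod
import Mathlib.Algebra.Ring.NegOnePow
import Mathlib.Algebra.Exact.Basic
import Mathlib.Tactic

/-!
# Euler characteristic of a long exact sequence of finite-length modules (helper98)

`len A X` is the `ℤ`-valued length (`0` for infinite length).  `euler_les` : for a long exact sequence
`… → X₁ i → X₂ i → X₃ i → X₁ (i+1) → …` with `X₁ i`, `X₃ i` of finite length and vanishing outside a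
bounded range, `∑ᶠ (-1)^i len (X₂ i) = ∑ᶠ (-1)^i len (X₁ i) + ∑ᶠ (-1)^i len (X₃ i)`.
-/

set_option autoImplicit false
universe u

namespace Groth.Agent.Lib.Helper98.EulerLES

variable (A : Type u) [CommRing A]

/-- `ℤ`-valued length. -/
noncomputable def len (X : Type u) [AddCommGroup X] [Module A X] : ℤ :=
  ((Module.length A X).toNat : ℤ)

variable {A}

lemma len_nonneg (X : Type u) [AddCommGroup X] [Module A X] : 0 ≤ len A X :=
  Int.natCast_nonneg _

lemma len_congr {X Y : Type u} [AddCommGroup X] [Module A X] [AddCommGroup Y] [Module A Y]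
    (e : X ≃ₗ[A] Y) : len A X = len A Y := by
  unfold len
  rw [e.length_eq]

lemma len_of_subsingleton (X : Type u) [AddCommGroup X] [Module A X] [Subsingleton X] :
    len A X = 0 := by
  unfold len
  rw [Module.length_eq_zero]
  rfl

lemma length_ker_add_range {X Y : Type u} [AddCommGroup X] [Module A X] [AddCommGroup Y]
    [Module A Y] (f : X →ₗ[A] Y) :
    Module.length A X = Module.length A (LinearMap.ker f) + Module.length A (LinearMap.range f) :=
  Module.length_eq_add_of_exact (LinearMap.ker f).subtype f.rangeRestrict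
    (Submodule.subtype_injective _) f.surjective_rangeRestrict (by
      intro x
      constructor
      · intro hx
        exact ⟨⟨x, by simpa [Subtype.ext_iff] using hx⟩, rfl⟩
      · rintro ⟨y, rfl⟩
        exact Subtype.ext y.2)

lemma length_range_le {X Y : Type u} [AddCommGroup X] [Module A X] [AddCommGroup Y]
    [Module A Y] (f : X →ₗ[A] Y) :
    Module.length A (LinearMap.range f) ≤ Module.length A X := by
  rw [length_ker_add_range f]
  exact le_add_self

lemma length_range_le' {X Y : Type u} [AddCommGroup X] [Module A X] [AddCommGroup Y]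
    [Module A Y] (f : X →ₗ[A] Y) :
    Module.length A (LinearMap.range f) ≤ Module.length A Y :=
  Module.length_le_of_injective (LinearMap.range f).subtype (Submodule.subtype_injective _)

lemma toNat_add_of_eq {a b c : ℕ∞} (h : c = a + b) (ha : a ≠ ⊤) (hb : b ≠ ⊤) :
    (c.toNat : ℤ) = a.toNat + b.toNat := by
  subst h
  rw [ENat.toNat_add ha hb]
  push_cast
  rfl

/-- Exactness in the middle: `ℓ(X₂) = ℓ(range f) + ℓ(range g)`. -/
lemma length_of_exact {X₁ X₂ X₃ : Type u} [AddCommGroup X₁] [Module A X₁] [AddCommGroup X₂]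
    [Module A X₂] [AddCommGroup X₃] [Module A X₃] (f : X₁ →ₗ[A] X₂) (g : X₂ →ₗ[A] X₃)
    (h : Function.Exact f g) :
    Module.length A X₂ = Module.length A (LinearMap.range f) + Module.length A (LinearMap.range g) := by
  rw [length_ker_add_range g, LinearMap.exact_iff.1 h]

/-- Half-exactness inequality. -/
lemma length_le_of_exact {X₁ X₂ X₃ : Type u} [AddCommGroup X₁] [Module A X₁] [AddCommGroup X₂]
    [Module A X₂] [AddCommGroup X₃] [Module A X₃] (f : X₁ →ₗ[A] X₂) (g : X₂ →ₗ[A] X₃)
    (h : Function.Exact f g) :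
    Module.length A X₂ ≤ Module.length A X₁ + Module.length A X₃ := by
  rw [length_of_exact f g h]
  exact add_le_add (length_range_le f) (length_range_le' g)

lemma isFiniteLength_of_exact {X₁ X₂ X₃ : Type u} [AddCommGroup X₁] [Module A X₁] [AddCommGroup X₂]
    [Module A X₂] [AddCommGroup X₃] [Module A X₃] (f : X₁ →ₗ[A] X₂) (g : X₂ →ₗ[A] X₃)
    (h : Function.Exact f g) (h1 : IsFiniteLength A X₁) (h3 : IsFiniteLength A X₃) :
    IsFiniteLength A X₂ := by
  rw [← Module.length_ne_top_iff] at h1 h3 ⊢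
  have := length_le_of_exact f g h
  intro htop
  rw [htop, top_le_iff, ENat.add_eq_top] at this
  tauto

section LES

variable (X₁ X₂ X₃ : ℤ → Type u)
  [∀ i, AddCommGroup (X₁ i)] [∀ i, Module A (X₁ i)]
  [∀ i, AddCommGroup (X₂ i)] [∀ i, Module A (X₂ i)]
  [∀ i, AddCommGroup (X₃ i)] [∀ i, Module A (X₃ i)]
  (f : ∀ i, X₁ i →ₗ[A] X₂ i) (g : ∀ i, X₂ i →ₗ[A] X₃ i)
  (δ : ∀ i j, i + 1 = j → (X₃ i →ₗ[A] X₁ j))
  (e1 : ∀ i j (h : i + 1 = j), Function.Exact (δ i j h) (f j))
  (e2 : ∀ i, Function.Exact (f i) (g i))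
  (e3 : ∀ i j (h : i + 1 = j), Function.Exact (g i) (δ i j h))
  (h1 : ∀ i, IsFiniteLength A (X₁ i)) (h3 : ∀ i, IsFiniteLength A (X₃ i))
  (a b : ℤ) (hb1 : ∀ i, i < a ∨ b < i → Subsingleton (X₁ i))
  (hb3 : ∀ i, i < a ∨ b < i → Subsingleton (X₃ i))

include e1 e2 e3 h1 h3 hb1 hb3 in
theorem euler_les :
    (∑ᶠ i : ℤ, ((i.negOnePow : ℤˣ) : ℤ) * len A (X₂ i)) =
      (∑ᶠ i : ℤ, ((i.negOnePow : ℤˣ) : ℤ) * len A (X₁ i)) +
      (∑ᶠ i : ℤ, ((i.negOnePow : ℤˣ) : ℤ) * len A (X₃ i)) := by
  classical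
  have hn1 : ∀ i, Module.length A (X₁ i) ≠ ⊤ := fun i => Module.length_ne_top_iff.2 (h1 i)
  have hn3 : ∀ i, Module.length A (X₃ i) ≠ ⊤ := fun i => Module.length_ne_top_iff.2 (h3 i)
  -- the three rank functions
  let p : ℤ → ℤ := fun i => len A (LinearMap.range (f i))
  let q : ℤ → ℤ := fun i => len A (LinearMap.range (g i))
  let c : ℤ → ℤ := fun i => len A (LinearMap.range (δ i (i + 1) rfl))
  have hp : ∀ i, Module.length A (LinearMap.range (f i)) ≠ ⊤ := fun i =>
    ne_top_of_le_ne_top (hn1 i) (length_range_le (f i))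
  have hq : ∀ i, Module.length A (LinearMap.range (g i)) ≠ ⊤ := fun i =>
    ne_top_of_le_ne_top (hn3 i) (length_range_le' (g i))
  have hc : ∀ i j (h : i + 1 = j), Module.length A (LinearMap.range (δ i j h)) ≠ ⊤ := fun i j h =>
    ne_top_of_le_ne_top (hn3 i) (length_range_le (δ i j h))
  have hc' : ∀ i j (h : i + 1 = j), len A (LinearMap.range (δ i j h)) = c i := by
    intro i j h
    subst h
    rfl
  have L1 : ∀ i, len A (X₁ i) = c (i - 1) + p i := by
    intro i
    have h := length_of_exact (δ (i - 1) i (by ring)) (f i) (e1 (i - 1) i (by ring))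
    have := toNat_add_of_eq h (hc _ _ _) (hp i)
    rw [← hc' (i - 1) i (by ring)]
    exact this
  have L2 : ∀ i, len A (X₂ i) = p i + q i := by
    intro i
    exact toNat_add_of_eq (length_of_exact (f i) (g i) (e2 i)) (hp i) (hq i)
  have L3 : ∀ i, len A (X₃ i) = q i + c i := by
    intro i
    exact toNat_add_of_eq (length_of_exact (g i) (δ i (i + 1) rfl) (e3 i (i + 1) rfl)) (hq i) (hc _ _ _)
  -- vanishing outside the range
  have z1 : ∀ i, i < a ∨ b < i → len A (X₁ i) = 0 := fun i hi => by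
    have := hb1 i hi
    exact len_of_subsingleton _
  have z3 : ∀ i, i < a ∨ b < i → len A (X₃ i) = 0 := fun i hi => by
    have := hb3 i hi
    exact len_of_subsingleton _
  have zc : ∀ i, i < a ∨ b < i → c i = 0 := fun i hi => by
    have h0 := z3 i hi
    rw [L3] at h0
    have hq0 : 0 ≤ q i := len_nonneg (A := A) (LinearMap.range (g i))
    have hc0 : 0 ≤ c i := len_nonneg (A := A) (LinearMap.range (δ i (i + 1) rfl))
    omega
  -- finite supports
  let t : ℤ → ℤ := fun i => ((i.negOnePow : ℤˣ) : ℤ) * c i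
  have fin_of : ∀ (F : ℤ → ℤ) (lo hi : ℤ), (∀ i, i < lo ∨ hi < i → F i = 0) →
      (Function.support F).Finite := by
    intro F lo hi hF
    refine (Set.finite_Icc lo hi).subset ?_
    intro i hi'
    rw [Function.mem_support] at hi'
    by_contra hcon
    rw [Set.mem_Icc, not_and_or, not_le, not_le] at hcon
    exact hi' (hF i hcon)
  have ft : (Function.support t).Finite := fin_of t a b (fun i hi => by
    change _ * c i = 0
    rw [zc i hi, mul_zero])
  have ft' : (Function.support fun i => t (i - 1)).Finite := fin_of _ (a + 1) (b + 1) (fun i hi => by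
    change _ * c (i - 1) = 0
    rw [zc (i - 1) (by omega), mul_zero])
  have f1 : (Function.support fun i : ℤ => ((i.negOnePow : ℤˣ) : ℤ) * len A (X₁ i)).Finite :=
    fin_of _ a b (fun i hi => by rw [z1 i hi, mul_zero])
  have f3 : (Function.support fun i : ℤ => ((i.negOnePow : ℤˣ) : ℤ) * len A (X₃ i)).Finite :=
    fin_of _ a b (fun i hi => by rw [z3 i hi, mul_zero])
  have key : ∀ i : ℤ, ((i.negOnePow : ℤˣ) : ℤ) * len A (X₂ i) =
      (((i.negOnePow : ℤˣ) : ℤ) * len A (X₁ i) + ((i.negOnePow : ℤˣ) : ℤ) * len A (X₃ i)) -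
        (t i - t (i - 1)) := by
    intro i
    rw [L1, L2, L3]
    change _ = _ - (_ * c i - _ * c (i - 1))
    have : (((i - 1).negOnePow : ℤˣ) : ℤ) = - ((i.negOnePow : ℤˣ) : ℤ) := by
      rw [Int.negOnePow_sub, Int.negOnePow_one]
      simp
    rw [this]
    ring
  have hsum : (∑ᶠ i : ℤ, (t i - t (i - 1))) = 0 := by
    rw [finsum_sub_distrib ft ft']
    have : (∑ᶠ i : ℤ, t (i - 1)) = ∑ᶠ i : ℤ, t i :=
      finsum_comp_equiv (Equiv.subRight (1 : ℤ)) (f := t)
    rw [this, sub_self]
  have fsub : (Function.support fun i : ℤ => t i - t (i - 1)).Finite :=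
    (ft.union ft').subset (Function.support_sub _ _)
  simp_rw [key]
  rw [finsum_sub_distrib (f1.union f3 |>.subset (Function.support_add _ _)) fsub,
    finsum_add_distrib f1 f3, hsum, sub_zero]

end LES

end Groth.Agent.Lib.Helper98.EulerLES
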