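/-
helper98: Serre's Koszul Euler characteristic `χ(l; M)` on the prelude mapping-cone Koszul complex.
`CM l M = tensorCx (K l) M`; `coneIso : CM (z :: l) M ≅ cone (z • 𝟙 (CM l M))`; `good` (homology f.g.,
bounded, killed by powers of the elements); `isFiniteLength_homology`; `chiC`, `chi`;
`euler_triangle`; `comp_dist`; `chi_mul_head`.
-/
import Groth.Agent.Lib.Helper98.KoszulLES
import Groth.Agent.Lib.Helper98.EulerLES
import Groth.Agent.Lib.Helper90.DimParam
import Groth.Prelude.Def_DRing2
import Mathlib.Algebra.Homology.HomotopyCategory.ShortExact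
import Mathlib.Algebra.Homology.HomotopyCategory.Triangulated

set_option autoImplicit false
universe u
open CategoryTheory CategoryTheory.Limits MonoidalCategory HomologicalComplex CochainComplex HomComplex
open Groth.Agent.Lib.Helper98.EulerLES

namespace Groth.Agent.Lib.Helper98.KoszulEuler

variable {A : Type u} [CommRing A]

attribute [local instance] HasDerivedCategory.standard

/-- The functor `P ↦ P ⊗ M` on complexes. -/
noncomputable abbrev tensF (M : ModuleCat.{u} A) : DRing.Cx A ⥤ DRing.Cx A :=
  (tensorRight M).mapHomologicalComplex (ComplexShape.up ℤ)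

/-- `K(l) ⊗ M`. -/
noncomputable abbrev CM (l : List A) (M : ModuleCat.{u} A) : DRing.Cx A :=
  DRing.tensorCx (Koszul.koszul A l) M

lemma tensF_map_smul (M : ModuleCat.{u} A) {P Q : DRing.Cx A} (z : A) (φ : P ⟶ Q) :
    (tensF M).map (z • φ) = z • (tensF M).map φ :=
  Functor.map_smul _ _ _

noncomputable def coneEqIso {P Q : DRing.Cx A} {φ ψ : P ⟶ Q} (h : φ = ψ) :
    mappingCone φ ≅ mappingCone ψ := eqToIso (by rw [h])

noncomputable def coneIso (z : A) (l : List A) (M : ModuleCat.{u} A) :
    CM (z :: l) M ≅ mappingCone (z • 𝟙 (CM l M)) :=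
  mappingCone.mapHomologicalComplexIso (z • 𝟙 (Koszul.koszul A l)) (tensorRight M) ≪≫
    coneEqIso (by rw [tensF_map_smul, CategoryTheory.Functor.map_id]; rfl)

/-! ### Pure algebra: kill lemma -/

lemma kills_of_exact {X Y Z : Type u} [AddCommGroup X] [Module A X] [AddCommGroup Y] [Module A Y]
    [AddCommGroup Z] [Module A Z] (f : X →ₗ[A] Y) (g : Y →ₗ[A] Z) (h : Function.Exact f g)
    (a b : A) (ha : ∀ x, a • f x = 0) (hb : ∀ y, b • g y = 0) (y : Y) : (a * b) • y = 0 := by
  have h1 : g (b • y) = 0 := by rw [map_smul, hb]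
  obtain ⟨x, hx⟩ := (h (b • y)).1 h1
  rw [mul_smul, ← hx, ha]

/-! ### The long exact sequence of `cone (z • 𝟙 C)` -/

section ConeLES

open Helper98.KoszulLES

variable (C : DRing.Cx A) (z : A)

lemma cone_ex3 (i j : ℤ) (hij : i + 1 = j) :
    Function.Exact (homologyMap (mappingCone.inr (z • 𝟙 C)) i).hom
      (homologyδOfTriangle (mappingCone.triangle (z • 𝟙 C)) i j hij).hom :=
  (ShortComplex.ShortExact.moduleCat_exact_iff_function_exact _).1
    (CochainComplex.homologyMap_exact₃_of_distTriang _ (cone_dist C z) i j hij)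

lemma cone_ex2_zero (i : ℤ) (x : C.homology i) :
    (homologyMap (mappingCone.inr (z • 𝟙 C)) i).hom (z • x) = 0 := by
  have hz := CochainComplex.homologyMap_comp_eq_zero_of_distTriang _ (cone_dist C z) i
  change homologyMap (z • 𝟙 C) i ≫ homologyMap (mappingCone.inr (z • 𝟙 C)) i = 0 at hz
  rw [homologyMap_smul', homologyMap_id] at hz
  have := congrArg (fun f => f.hom x) hz
  simp only [ModuleCat.hom_comp, ModuleCat.hom_smul, ModuleCat.hom_id, LinearMap.comp_apply,
    LinearMap.smul_apply, LinearMap.id_apply, ModuleCat.hom_zero, LinearMap.zero_apply] at this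
  exact this

lemma cone_ex1_zero (i j : ℤ) (hij : i + 1 = j) (x : (mappingCone (z • 𝟙 C)).homology i) :
    z • (homologyδOfTriangle (mappingCone.triangle (z • 𝟙 C)) i j hij).hom x = 0 := by
  have hz := CochainComplex.homologyδOfTriangle_homologyMap _ (cone_dist C z) i j hij
  change _ ≫ homologyMap (z • 𝟙 C) j = 0 at hz
  rw [homologyMap_smul', homologyMap_id] at hz
  have := congrArg (fun f => f.hom x) hz
  simp only [ModuleCat.hom_comp, ModuleCat.hom_smul, ModuleCat.hom_id, LinearMap.comp_apply,
    LinearMap.smul_apply, LinearMap.id_apply, ModuleCat.hom_zero, LinearMap.zero_apply] at this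
  exact this

lemma cone_kills (i j : ℤ) (hij : i + 1 = j) (a b : A) (ha : ∀ x : C.homology i, a • x = 0)
    (hb : ∀ x : C.homology j, b • x = 0) (y : (mappingCone (z • 𝟙 C)).homology i) :
    (a * b) • y = 0 :=
  kills_of_exact _ _ (cone_ex3 C z i j hij) a b (fun x => by rw [← map_smul, ha, map_zero])
    (fun y => hb _) y

lemma cone_kills_self (i : ℤ) (y : (mappingCone (z • 𝟙 C)).homology i) :
    (z * z) • y = 0 :=
  kills_of_exact _ _ (cone_ex3 C z i (i + 1) rfl) z z
    (fun x => by rw [← map_smul]; exact cone_ex2_zero C z i x)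
    (fun y => cone_ex1_zero C z i (i + 1) rfl y) y

lemma cone_isZero (i j : ℤ) (hij : i + 1 = j) (h1 : IsZero (C.homology i))
    (h2 : IsZero (C.homology j)) : IsZero ((mappingCone (z • 𝟙 C)).homology i) :=
  (CochainComplex.homologyMap_exact₃_of_distTriang _ (cone_dist C z) i j hij).isZero_of_both_zeros
    (h1.eq_of_src _ _) (h2.eq_of_tgt _ _)

lemma cone_finite [IsNoetherianRing A] (i j : ℤ) (hij : i + 1 = j) [Module.Finite A (C.homology i)]
    [Module.Finite A (C.homology j)] : Module.Finite A ((mappingCone (z • 𝟙 C)).homology i) := by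
  have h := cone_ex3 C z i j hij
  have : IsNoetherian A (C.homology i) := isNoetherian_of_isNoetherianRing_of_finite A _
  have : IsNoetherian A ((mappingCone.triangle (z • 𝟙 C)).obj₁.homology j) :=
    isNoetherian_of_isNoetherianRing_of_finite A (C.homology j)
  have : IsNoetherian A ((mappingCone (z • 𝟙 C)).homology i) :=
    isNoetherian_of_range_eq_ker _ _ (LinearMap.exact_iff.1 h).symm
  infer_instance

end ConeLES

/-! ### Base case and the induction package -/

lemma kills_of_iso {X Y : ModuleCat.{u} A} (e : X ≅ Y) (a : A) (h : ∀ y : Y, a • y = 0) (x : X) :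
    a • x = 0 := by
  have h1 : e.inv.hom (e.hom.hom x) = x := by
    have := congrArg (fun f => f.hom x) e.hom_inv_id
    exact this
  rw [← h1, ← map_smul, h, map_zero]

/-- `K([]) ⊗ M ≅ M[0]`. -/
noncomputable def CMnilIso (M : ModuleCat.{u} A) :
    CM [] M ≅ (HomologicalComplex.single (ModuleCat.{u} A) (ComplexShape.up ℤ) 0).obj M :=
  (HomologicalComplex.singleMapHomologicalComplex (tensorRight M) (ComplexShape.up ℤ) 0).app
    (ModuleCat.of A A) ≪≫
    (HomologicalComplex.single (ModuleCat.{u} A) (ComplexShape.up ℤ) 0).mapIso (λ_ M)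

/-- `H^0(K([]) ⊗ M) ≅ M`. -/
noncomputable def CMnilHomologyIso (M : ModuleCat.{u} A) : (CM [] M).homology 0 ≅ M :=
  (HomologicalComplex.homologyFunctor _ _ 0).mapIso (CMnilIso M) ≪≫
    HomologicalComplex.singleObjHomologySelfIso _ _ _

lemma CMnil_isZero (M : ModuleCat.{u} A) (i : ℤ) (hi : i ≠ 0) : IsZero ((CM [] M).homology i) :=
  IsZero.of_iso (HomologicalComplex.isZero_single_obj_homology _ _ _ _ hi)
    ((HomologicalComplex.homologyFunctor _ _ i).mapIso (CMnilIso M))

/-- The homology of `K(z :: l) ⊗ M` is that of the cone. -/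
noncomputable def coneHomologyIso (z : A) (l : List A) (M : ModuleCat.{u} A) (i : ℤ) :
    (CM (z :: l) M).homology i ≅ (mappingCone (z • 𝟙 (CM l M))).homology i :=
  (HomologicalComplex.homologyFunctor _ _ i).mapIso (coneIso z l M)

structure Good [IsNoetherianRing A] (l : List A) (M : ModuleCat.{u} A) : Prop where
  fin : ∀ i, Module.Finite A ((CM l M).homology i)
  zero : ∀ i : ℤ, (0 < i ∨ i < -(l.length : ℤ)) → IsZero ((CM l M).homology i)
  kill : ∀ s ∈ l, ∃ N : ℕ, ∀ i, ∀ x : (CM l M).homology i, s ^ N • x = 0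

theorem good [IsNoetherianRing A] (l : List A) (M : ModuleCat.{u} A) [Module.Finite A M] :
    Good l M := by
  induction l with
  | nil =>
    refine ⟨fun i => ?_, fun i hi => ?_, fun s hs => by simp at hs⟩
    · by_cases hi : i = 0
      · subst hi
        exact Module.Finite.equiv (CMnilHomologyIso M).toLinearEquiv.symm
      · have := (CMnil_isZero M i hi)
        have : Subsingleton ((CM [] M).homology i) := ModuleCat.subsingleton_of_isZero this
        infer_instance
    · exact CMnil_isZero M i (by simp at hi; omega)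
  | cons z l ih =>
    refine ⟨fun i => ?_, fun i hi => ?_, fun s hs => ?_⟩
    · have := ih.fin i
      have := ih.fin (i + 1)
      have := cone_finite (CM l M) z i (i + 1) rfl
      exact Module.Finite.equiv (coneHomologyIso z l M i).toLinearEquiv.symm
    · refine IsZero.of_iso (cone_isZero (CM l M) z i (i + 1) rfl (ih.zero i ?_) (ih.zero (i + 1) ?_))
        (coneHomologyIso z l M i)
      · simp only [List.length_cons, Nat.cast_add, Nat.cast_one] at hi
        omega
      · simp only [List.length_cons, Nat.cast_add, Nat.cast_one] at hi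
        omega
    · rcases List.mem_cons.1 hs with rfl | hs
      · refine ⟨2, fun i x => kills_of_iso (coneHomologyIso s l M i) _ (fun y => ?_) x⟩
        rw [pow_two]
        exact cone_kills_self (CM l M) s i y
      · obtain ⟨N, hN⟩ := ih.kill s hs
        refine ⟨N + N, fun i x => kills_of_iso (coneHomologyIso z l M i) _ (fun y => ?_) x⟩
        rw [pow_add]
        exact cone_kills (CM l M) z i (i + 1) rfl _ _ (hN i) (hN (i + 1)) y

/-! ### Annihilator of `M` kills, finite length -/

lemma smul_id_CM_eq_zero (l : List A) (M : ModuleCat.{u} A) (a : A) (ha : ∀ m : M, a • m = 0) :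
    a • 𝟙 (CM l M) = 0 := by
  have h0 : a • 𝟙 M = 0 := by
    ext m
    exact ha m
  ext i : 1
  change a • 𝟙 ((Koszul.koszul A l).X i ⊗ M) = 0
  rw [← MonoidalCategory.whiskerLeft_id, ← MonoidalLinear.whiskerLeft_smul, h0,
    MonoidalPreadditive.whiskerLeft_zero]

lemma kills_ann (l : List A) (M : ModuleCat.{u} A) (a : A) (ha : ∀ m : M, a • m = 0) (i : ℤ)
    (x : (CM l M).homology i) : a • x = 0 := by
  have h1 : homologyMap (a • 𝟙 (CM l M)) i = a • 𝟙 _ := by
    rw [Helper98.KoszulLES.homologyMap_smul', homologyMap_id]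
  rw [smul_id_CM_eq_zero l M a ha, homologyMap_zero] at h1
  have := congrArg (fun f => f.hom x) h1
  exact this.symm

theorem supportDim_le_of_support_subset {X Y : Type u} [AddCommGroup X] [Module A X]
    [AddCommGroup Y] [Module A Y] (h : Module.support A X ⊆ Module.support A Y) :
    Module.supportDim A X ≤ Module.supportDim A Y :=
  Order.krullDim_le_of_strictMono (Set.inclusion h) (fun _ _ hab => hab)

/-- Finite length criterion. -/
theorem isFiniteLength_of_kills [IsNoetherianRing A] (M : Type u) [AddCommGroup M] [Module A M]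
    [Module.Finite A M] (S : Set A)
    (hfl : IsFiniteLength A (M ⧸ (Ideal.span S • (⊤ : Submodule A M))))
    (H : Type u) [AddCommGroup H] [Module A H] [Module.Finite A H]
    (h1 : ∀ a : A, (∀ m : M, a • m = 0) → ∀ x : H, a • x = 0)
    (h2 : ∀ s ∈ S, ∃ N : ℕ, ∀ x : H, s ^ N • x = 0) : IsFiniteLength A H := by
  apply Groth.Agent.Lib.Helper90.DimParam.isFiniteLength_of_supportDim_le_zero
  refine le_trans (supportDim_le_of_support_subset ?_)
    (Groth.Agent.Lib.Helper90.DimParam.supportDim_le_zero_of_isFiniteLength hfl)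
  intro p hp
  rw [Module.support_quotient, Set.mem_inter_iff]
  rw [Module.mem_support_iff_of_finite] at hp
  constructor
  · rw [Module.mem_support_iff_of_finite]
    refine le_trans ?_ hp
    intro a ha
    rw [Module.mem_annihilator] at ha ⊢
    exact h1 a ha
  · rw [PrimeSpectrum.mem_zeroLocus, SetLike.coe_subset_coe, Ideal.span_le]
    intro s hs
    obtain ⟨N, hN⟩ := h2 s hs
    have : s ^ N ∈ p.asIdeal := hp (by rw [Module.mem_annihilator]; exact hN)
    exact p.isPrime.mem_of_pow_mem N this

theorem isFiniteLength_homology [IsNoetherianRing A] (l : List A) (M : Type u) [AddCommGroup M]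
    [Module A M] [Module.Finite A M]
    (hfl : IsFiniteLength A (M ⧸ (Ideal.span {a : A | a ∈ l} • (⊤ : Submodule A M)))) (i : ℤ) :
    IsFiniteLength A ((CM l (ModuleCat.of A M)).homology i) := by
  have hg := good l (ModuleCat.of A M)
  have := hg.fin i
  refine isFiniteLength_of_kills M {a : A | a ∈ l} hfl _ (fun a ha x => ?_) (fun s hs => ?_)
  · exact kills_ann l (ModuleCat.of A M) a ha i x
  · obtain ⟨N, hN⟩ := hg.kill s hs
    exact ⟨N, hN i⟩

/-! ### Euler characteristics -/

/-- Euler characteristic of the homology of a complex. -/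
noncomputable def chiC (C : DRing.Cx A) : ℤ :=
  ∑ᶠ i : ℤ, ((i.negOnePow : ℤˣ) : ℤ) * ((Module.length A (C.homology i)).toNat : ℤ)

/-- `χ(l; M)`. -/
noncomputable def chi (l : List A) (M : ModuleCat.{u} A) : ℤ := chiC (CM l M)

lemma chiC_iso {C D : DRing.Cx A} (e : C ≅ D) : chiC C = chiC D := by
  unfold chiC
  refine finsum_congr (fun i => ?_)
  have : Module.length A (C.homology i) = Module.length A (D.homology i) :=
    ((HomologicalComplex.homologyFunctor _ _ i).mapIso e).toLinearEquiv.length_eq
  rw [this]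

lemma subsingleton_of_isZero' {X : ModuleCat.{u} A} (h : IsZero X) : Subsingleton X :=
  ModuleCat.subsingleton_of_isZero h

/-- Additivity of the Euler characteristic on triangles which become distinguished in `D(A)`. -/
theorem euler_triangle (T : Pretriangulated.Triangle (DRing.Cx A))
    (hT : DerivedCategory.Q.mapTriangle.obj T ∈ distTriang _)
    (h1 : ∀ i, IsFiniteLength A (T.obj₁.homology i)) (h3 : ∀ i, IsFiniteLength A (T.obj₃.homology i))
    (a b : ℤ) (hb1 : ∀ i, i < a ∨ b < i → IsZero (T.obj₁.homology i))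
    (hb3 : ∀ i, i < a ∨ b < i → IsZero (T.obj₃.homology i)) :
    chiC T.obj₂ = chiC T.obj₁ + chiC T.obj₃ := by
  refine euler_les (A := A) (fun i => T.obj₁.homology i) (fun i => T.obj₂.homology i)
    (fun i => T.obj₃.homology i)
    (fun i => (homologyMap T.mor₁ i).hom) (fun i => (homologyMap T.mor₂ i).hom)
    (fun i j h => (homologyδOfTriangle T i j h).hom) ?_ ?_ ?_ h1 h3 a b
    (fun i hi => subsingleton_of_isZero' (hb1 i hi)) (fun i hi => subsingleton_of_isZero' (hb3 i hi))
  · intro i j h
    exact (ShortComplex.ShortExact.moduleCat_exact_iff_function_exact _).1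
      (CochainComplex.homologyMap_exact₁_of_distTriang T hT i j h)
  · intro i
    exact (ShortComplex.ShortExact.moduleCat_exact_iff_function_exact _).1
      (CochainComplex.homologyMap_exact₂_of_distTriang T hT i)
  · intro i j h
    exact (ShortComplex.ShortExact.moduleCat_exact_iff_function_exact _).1
      (CochainComplex.homologyMap_exact₃_of_distTriang T hT i j h)

/-- The triangle `cone f → cone (f ≫ g) → cone g →` is distinguished in `D(A)`. -/
lemma comp_dist {X₁ X₂ X₃ : DRing.Cx A} (f : X₁ ⟶ X₂) (g : X₂ ⟶ X₃) :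
    DerivedCategory.Q.mapTriangle.obj (CochainComplex.mappingConeCompTriangle f g) ∈ distTriang _ :=
  Pretriangulated.isomorphic_distinguished _
    (DerivedCategory.Qh.map_distinguished _
      (HomotopyCategory.mappingConeCompTriangleh_distinguished f g)) _
    ((Functor.mapTriangleIso (DerivedCategory.quotientCompQhIso _)).symm.app _ ≪≫
      (Functor.mapTriangleCompIso (HomotopyCategory.quotient _ _) DerivedCategory.Qh).app _)

lemma chi_cons (z : A) (l : List A) (M : ModuleCat.{u} A) :
    chi (z :: l) M = chiC (mappingCone (z • 𝟙 (CM l M))) :=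
  chiC_iso (coneIso z l M)

lemma isFiniteLength_cone [IsNoetherianRing A] (z : A) (l : List A) (M : Type u) [AddCommGroup M]
    [Module A M] [Module.Finite A M]
    (hfl : IsFiniteLength A (M ⧸ (Ideal.span {a : A | a ∈ z :: l} • (⊤ : Submodule A M)))) (i : ℤ) :
    IsFiniteLength A ((mappingCone (z • 𝟙 (CM l (ModuleCat.of A M)))).homology i) :=
  (coneHomologyIso z l (ModuleCat.of A M) i).toLinearEquiv.isFiniteLength
    (isFiniteLength_homology (z :: l) M hfl i)

lemma isZero_cone [IsNoetherianRing A] (z : A) (l : List A) (M : ModuleCat.{u} A)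
    [Module.Finite A M] (i : ℤ) (hi : i < -((l.length : ℤ) + 1) ∨ 0 < i) :
    IsZero ((mappingCone (z • 𝟙 (CM l M))).homology i) :=
  IsZero.of_iso ((good (z :: l) M).zero i (by
    simp only [List.length_cons, Nat.cast_add, Nat.cast_one]
    omega)) (coneHomologyIso z l M i).symm

/-- `χ(xy, l; M) = χ(x, l; M) + χ(y, l; M)`. -/
theorem chi_mul_head [IsNoetherianRing A] (x y : A) (l : List A) (M : Type u) [AddCommGroup M]
    [Module A M] [Module.Finite A M]
    (hx : IsFiniteLength A (M ⧸ (Ideal.span {a : A | a ∈ x :: l} • (⊤ : Submodule A M))))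
    (hy : IsFiniteLength A (M ⧸ (Ideal.span {a : A | a ∈ y :: l} • (⊤ : Submodule A M)))) :
    chi ((x * y) :: l) (ModuleCat.of A M) =
      chi (x :: l) (ModuleCat.of A M) + chi (y :: l) (ModuleCat.of A M) := by
  set C := CM l (ModuleCat.of A M) with hC
  have hT := comp_dist (x • 𝟙 C) (y • 𝟙 C)
  have key := euler_triangle _ hT (isFiniteLength_cone x l M hx) (isFiniteLength_cone y l M hy)
    (-((l.length : ℤ) + 1)) 0 (fun i hi => isZero_cone x l _ i hi) (fun i hi => isZero_cone y l _ i hi)
  rw [chi_cons, chi_cons, chi_cons]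
  have h2 : (x • 𝟙 C) ≫ (y • 𝟙 C) = (x * y) • 𝟙 C := by
    rw [Linear.smul_comp, Linear.comp_smul, Category.id_comp, smul_smul, mul_comm]
  rw [← chiC_iso (coneEqIso h2)]
  exact key

end Groth.Agent.Lib.Helper98.KoszulEuler
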