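import Groth.Agent.Lib.Helper92.LocCohSeq
import Groth.Agent.Lib.Helper92.LocCohGV
import Groth.Agent.Lib.Helper98.CechRestrict
import Mathlib.RingTheory.Ideal.KrullsHeightTheorem

set_option autoImplicit false
open CategoryTheory
open scoped Pointwise

namespace Groth.Agent.Lib.Helper98.LCTop

open Groth.Agent.Lib.Helper92.LC

universe u
variable {R : Type u} [CommRing R]

/-- chains of primes in `R_x`, `x` in the maximal ideal of a local ring, are shorter than in `R` -/
theorem length_lt_of_away [IsLocalRing R] (d : ℕ) (hd : ringKrullDim R = d) (x : R)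
    (hx : x ∈ IsLocalRing.maximalIdeal R) (l : LTSeries (PrimeSpectrum (Localization.Away x))) :
    l.length + 1 ≤ d := by
  have hsm : StrictMono (PrimeSpectrum.comap (algebraMap R (Localization.Away x))) := by
    intro p q hpq
    have hle : PrimeSpectrum.comap (algebraMap R (Localization.Away x)) p ≤
        PrimeSpectrum.comap (algebraMap R (Localization.Away x)) q :=
      Ideal.comap_mono hpq.le
    refine lt_of_le_of_ne hle (fun heq => ?_)
    have := (PrimeSpectrum.localization_comap_injective (Localization.Away x)
      (Submonoid.powers x)) heq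
    exact hpq.ne this
  let l' : LTSeries (PrimeSpectrum R) := l.map _ hsm
  have hlast : x ∉ (l'.last).asIdeal := by
    intro hmem
    have h1 : algebraMap R (Localization.Away x) x ∈ (l.last).asIdeal := hmem
    have h2 : IsUnit (algebraMap R (Localization.Away x) x) :=
      IsLocalization.map_units (Localization.Away x) (⟨x, Submonoid.mem_powers x⟩ : Submonoid.powers x)
    exact (l.last).isPrime.ne_top (Ideal.eq_top_of_isUnit_mem _ h1 h2)
  have hlt : l'.last < IsLocalRing.closedPoint R := by
    refine lt_of_le_of_ne (IsLocalRing.le_maximalIdeal (l'.last).isPrime.ne_top) ?_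
    intro heq
    apply hlast
    rw [heq]
    exact hx
  have h1 := Order.LTSeries.length_le_krullDim (l'.snoc (IsLocalRing.closedPoint R) hlt)
  rw [← ringKrullDim, hd] at h1
  have h2 : (l'.snoc (IsLocalRing.closedPoint R) hlt).length = l.length + 1 := by
    simp [l']
  rw [h2] at h1
  exact_mod_cast h1

variable [IsNoetherianRing R]

/-- `H^d_a(M_x) = 0` for `x` in the maximal ideal of a local ring of dimension `d`. -/
theorem subsingleton_H_away [IsLocalRing R] (d : ℕ) (hd : ringKrullDim R = d) (x : R)
    (hx : x ∈ IsLocalRing.maximalIdeal R) (a : Ideal R) (M : Type u) [AddCommGroup M]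
    [Module R M] :
    Subsingleton ((localCohomology a d).obj
      (ModuleCat.of R (LocalizedModule (Submonoid.powers x) M))) := by
  obtain ⟨φ, -⟩ := Helper98.CechRestrict.lc_restrict (R := R)
    (R' := Localization.Away x) a (LocalizedModule (Submonoid.powers x) M) d
  suffices h : Subsingleton (LocCoh.H (Ideal.map (algebraMap R (Localization.Away x)) a) d
      (LocalizedModule (Submonoid.powers x) M)) from φ.symm.injective.subsingleton
  rcases subsingleton_or_nontrivial (Localization.Away x) with hs | hn
  · have : Subsingleton (LocalizedModule (Submonoid.powers x) M) :=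
      Module.subsingleton (Localization.Away x) _
    exact subsingleton_of_subsingleton _ d (ModuleCat.of (Localization.Away x)
      (LocalizedModule (Submonoid.powers x) M))
  · obtain ⟨P⟩ := (inferInstance : Nonempty (PrimeSpectrum (Localization.Away x)))
    have h0 := length_lt_of_away d hd x hx (RelSeries.singleton _ P)
    obtain ⟨d', rfl⟩ : ∃ d', d = d' + 1 := ⟨d - 1, by
      rw [RelSeries.singleton_length] at h0
      omega⟩
    have hdim : ringKrullDim (Localization.Away x) ≤ (d' : WithBot ℕ∞) := by
      rw [ringKrullDim, Order.krullDim]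
      refine iSup_le (fun l => ?_)
      have := length_lt_of_away (d' + 1) hd x hx l
      have h' : l.length ≤ d' := by omega
      exact_mod_cast h'
    exact cdLE_of_ringKrullDim_le _ d' hdim _ (d' + 1) (Nat.lt_succ_self d')

/-- `H^d_{a+Rx}(M) → H^d_a(M)` is surjective (`d = dim R`, `x ∈ 𝔪`). -/
theorem top_surj [IsLocalRing R] (d : ℕ) (hd : ringKrullDim R = d) (x : R)
    (hx : x ∈ IsLocalRing.maximalIdeal R) (a : Ideal R) (M : ModuleCat.{u} R) :
    Function.Surjective (cmp (le_sup_span a x) d M) := by
  intro y
  obtain ⟨hex, -⟩ := les_sup_span a x d M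
  have := subsingleton_H_away d hd x hx a M
  exact (hex y).1 (Subsingleton.elim _ _)

theorem nontrivial_sup_list [IsLocalRing R] (d : ℕ) (hd : ringKrullDim R = d)
    (M : ModuleCat.{u} R) : ∀ (xs : List R) (a : Ideal R),
    (∀ x ∈ xs, x ∈ IsLocalRing.maximalIdeal R) →
    Nontrivial ((localCohomology a d).obj M) →
    Nontrivial ((localCohomology (a ⊔ Ideal.span {y | y ∈ xs}) d).obj M) := by
  intro xs
  induction xs with
  | nil =>
    intro a _ hne
    have : a ⊔ Ideal.span {y | y ∈ ([] : List R)} = a := by simp
    rw [this]
    exact hne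
  | cons x xs ih =>
    intro a hxs hne
    have h1 : Nontrivial ((localCohomology (a ⊔ Ideal.span {x}) d).obj M) :=
      (top_surj d hd x (hxs x (List.mem_cons_self)) a M).nontrivial
    have h2 := ih (a ⊔ Ideal.span {x}) (fun y hy => hxs y (List.mem_cons_of_mem _ hy)) h1
    have : a ⊔ Ideal.span {y | y ∈ x :: xs} = a ⊔ Ideal.span {x} ⊔ Ideal.span {y | y ∈ xs} := by
      have hset : {y | y ∈ x :: xs} = {x} ∪ {y | y ∈ xs} := by
        ext y; simp
      rw [hset, Ideal.span_union, sup_assoc]
    rw [this]
    exact h2

/-- nonvanishing of top local cohomology passes to larger (proper) ideals -/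
theorem nontrivial_of_le [IsLocalRing R] (d : ℕ) (hd : ringKrullDim R = d)
    (M : ModuleCat.{u} R) (a b : Ideal R) (hab : a ≤ b) (hb : b ≤ IsLocalRing.maximalIdeal R)
    (hne : Nontrivial ((localCohomology a d).obj M)) :
    Nontrivial ((localCohomology b d).obj M) := by
  obtain ⟨xs, hxs⟩ := Helper98.CechRestrict.exists_list_span b
  have h := nontrivial_sup_list d hd M xs a
    (fun x hx => hb (by rw [← hxs]; exact Ideal.subset_span hx)) hne
  rw [hxs, sup_eq_right.2 hab] at h
  exact h

end Groth.Agent.Lib.Helper98.LCTop
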