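import Mathlib.Algebra.Homology.ShortComplex.Ab
import Mathlib.Algebra.Homology.ShortComplex.HomologicalComplex
import Mathlib.Algebra.DirectSum.Basic

/-!
# helper98: homology classes for short complexes of abelian groups; homology commutes with direct sums

* `cls S : ker S.g →+ S.homology`, `cls_surjective`, `cls_eq_zero_iff`, `homologyMap_cls`
* `sc_directSum_homology`, `hc_directSum_homology`: if `φ n : K n ⟶ L` exhibit `L` degreewise as the
  direct sum of the `K n`, then `⨁ n, H(K n) → H(L)` is bijective.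
-/

set_option autoImplicit false

namespace Groth.Agent.Lib.Helper98.AbCls

open CategoryTheory

universe u

section SC

/-- the class of a cycle in homology -/
noncomputable def cls (S : ShortComplex Ab.{u}) : AddMonoidHom.ker S.g.hom →+ S.homology :=
  (S.abLeftHomologyData.homologyIso.inv.hom).comp S.abLeftHomologyData.π.hom

lemma cls_surjective (S : ShortComplex Ab.{u}) : Function.Surjective (cls S) := by
  intro z
  obtain ⟨x, hx⟩ := QuotientAddGroup.mk'_surjective (AddMonoidHom.range S.abToCycles)
    (S.abLeftHomologyData.homologyIso.hom.hom z)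
  refine ⟨x, ?_⟩
  change S.abLeftHomologyData.homologyIso.inv.hom (QuotientAddGroup.mk' _ x) = z
  rw [hx]
  exact Iso.hom_inv_id_apply _ _

lemma cls_eq_zero_iff (S : ShortComplex Ab.{u}) (z : AddMonoidHom.ker S.g.hom) :
    cls S z = 0 ↔ ∃ y : S.X₁, S.f.hom y = z.1 := by
  have h : S.abLeftHomologyData.π.hom z = 0 ↔ ∃ y : S.X₁, S.f.hom y = z.1 := by
    refine Iff.trans (b := z ∈ AddMonoidHom.range S.abToCycles) ?_ ?_
    · exact QuotientAddGroup.eq_zero_iff z
    · rw [AddMonoidHom.mem_range]
      constructor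
      · rintro ⟨y, hy⟩
        exact ⟨y, by rw [← hy]; rfl⟩
      · rintro ⟨y, hy⟩
        exact ⟨y, Subtype.ext hy⟩
  have key : ∀ w : S.abLeftHomologyData.H, S.abLeftHomologyData.homologyIso.inv.hom w = 0 ↔ w = 0 := by
    intro w
    constructor
    · intro h0
      have := congrArg S.abLeftHomologyData.homologyIso.hom.hom h0
      rw [map_zero] at this
      rw [← this]
      exact (Iso.inv_hom_id_apply _ _).symm
    · intro h0
      rw [h0, map_zero]
  rw [← h]
  exact key _

lemma homologyMap_cls {S₁ S₂ : ShortComplex Ab.{u}} (φ : S₁ ⟶ S₂)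
    (z : AddMonoidHom.ker S₁.g.hom) (hz : S₂.g.hom (φ.τ₂.hom z.1) = 0) :
    (ShortComplex.homologyMap φ).hom (cls S₁ z) = cls S₂ ⟨φ.τ₂.hom z.1, hz⟩ := by
  let γ : ShortComplex.LeftHomologyMapData φ S₁.abLeftHomologyData S₂.abLeftHomologyData := default
  have e : ShortComplex.homologyMap φ =
      S₁.abLeftHomologyData.homologyIso.hom ≫ γ.φH ≫ S₂.abLeftHomologyData.homologyIso.inv :=
    γ.homologyMap_eq
  have hπ : γ.φH.hom (S₁.abLeftHomologyData.π.hom z) =
      S₂.abLeftHomologyData.π.hom (γ.φK.hom z) := by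
    have h := congrArg (fun m => m.hom z) γ.commπ
    simpa only [AddCommGrpCat.hom_comp, AddMonoidHom.comp_apply] using h
  have hi : S₂.abLeftHomologyData.i.hom (γ.φK.hom z) = φ.τ₂.hom (S₁.abLeftHomologyData.i.hom z) := by
    have h := congrArg (fun m => m.hom z) γ.commi
    simpa only [AddCommGrpCat.hom_comp, AddMonoidHom.comp_apply] using h
  have hK : γ.φK.hom z = (⟨φ.τ₂.hom z.1, hz⟩ : AddMonoidHom.ker S₂.g.hom) := by
    apply Subtype.ext
    exact hi
  rw [e]
  change S₂.abLeftHomologyData.homologyIso.inv.hom (γ.φH.hom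
    (S₁.abLeftHomologyData.homologyIso.hom.hom
      (S₁.abLeftHomologyData.homologyIso.inv.hom (S₁.abLeftHomologyData.π.hom z)))) =
    S₂.abLeftHomologyData.homologyIso.inv.hom (S₂.abLeftHomologyData.π.hom _)
  rw [Iso.inv_hom_id_apply, hπ, hK]

end SC

section DS

open DirectSum

variable {J : Type*} [DecidableEq J]

lemma sum_of_apply {β : J → Type*} [∀ n, AddCommGroup (β n)] (s : Finset J) (a : ∀ n, β n) (n : J) :
    (∑ m ∈ s, DirectSum.of β m (a m)) n = if n ∈ s then a n else 0 := by
  classical
  rw [DirectSum.sum_apply]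
  split_ifs with hn
  · rw [Finset.sum_eq_single n]
    · exact DirectSum.of_eq_same n (a n)
    · intro m _ hm
      exact DirectSum.of_eq_of_ne m n (a m) (Ne.symm hm)
    · intro h
      exact absurd hn h
  · apply Finset.sum_eq_zero
    intro m hm
    apply DirectSum.of_eq_of_ne
    rintro rfl
    exact hn hm

theorem sc_directSum_homology (S : J → ShortComplex Ab.{u}) (T : ShortComplex Ab.{u})
    (φ : ∀ n, S n ⟶ T)
    (h₁ : Function.Surjective (DirectSum.toAddMonoid (fun n => (φ n).τ₁.hom)))
    (h₂ : Function.Bijective (DirectSum.toAddMonoid (fun n => (φ n).τ₂.hom)))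
    (h₃ : Function.Injective (DirectSum.toAddMonoid (fun n => (φ n).τ₃.hom))) :
    Function.Bijective (DirectSum.toAddMonoid (fun n => (ShortComplex.homologyMap (φ n)).hom)) := by
  classical
  have A : ∀ x : ⨁ n, (S n).X₂, DirectSum.toAddMonoid (fun n => (φ n).τ₃.hom)
      (DirectSum.map (fun n => (S n).g.hom) x) =
        T.g.hom (DirectSum.toAddMonoid (fun n => (φ n).τ₂.hom) x) := by
    intro x
    have : (DirectSum.toAddMonoid (fun n => (φ n).τ₃.hom)).comp
        (DirectSum.map (fun n => (S n).g.hom)) =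
        T.g.hom.comp (DirectSum.toAddMonoid (fun n => (φ n).τ₂.hom)) := by
      apply DirectSum.addHom_ext
      intro n a
      simp only [AddMonoidHom.comp_apply, DirectSum.map_of, DirectSum.toAddMonoid_of]
      have h := congrArg (fun m => m.hom a) (φ n).comm₂₃
      simpa only [AddCommGrpCat.hom_comp, AddMonoidHom.comp_apply] using h.symm
    exact DFunLike.congr_fun this x
  have B : ∀ x : ⨁ n, (S n).X₁, DirectSum.toAddMonoid (fun n => (φ n).τ₂.hom)
      (DirectSum.map (fun n => (S n).f.hom) x) =
        T.f.hom (DirectSum.toAddMonoid (fun n => (φ n).τ₁.hom) x) := by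
    intro x
    have : (DirectSum.toAddMonoid (fun n => (φ n).τ₂.hom)).comp
        (DirectSum.map (fun n => (S n).f.hom)) =
        T.f.hom.comp (DirectSum.toAddMonoid (fun n => (φ n).τ₁.hom)) := by
      apply DirectSum.addHom_ext
      intro n a
      simp only [AddMonoidHom.comp_apply, DirectSum.map_of, DirectSum.toAddMonoid_of]
      have h := congrArg (fun m => m.hom a) (φ n).comm₁₂
      simpa only [AddCommGrpCat.hom_comp, AddMonoidHom.comp_apply] using h.symm
    exact DFunLike.congr_fun this x
  have hcyc : ∀ n (z : AddMonoidHom.ker (S n).g.hom), T.g.hom ((φ n).τ₂.hom z.1) = 0 := by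
    intro n z
    have h := congrArg (fun m => m.hom z.1) (φ n).comm₂₃
    simp only [AddCommGrpCat.hom_comp, AddMonoidHom.comp_apply] at h
    rw [h]
    have := z.2
    rw [AddMonoidHom.mem_ker] at this
    rw [this, map_zero]
  -- the image of a finite sum of classes
  have hsum : ∀ (s : Finset J) (c : ∀ n, AddMonoidHom.ker (S n).g.hom),
      DirectSum.toAddMonoid (fun n => (ShortComplex.homologyMap (φ n)).hom)
        (∑ n ∈ s, DirectSum.of (fun n => ((S n).homology : Type u)) n (cls (S n) (c n))) =
      cls T (∑ n ∈ s, (⟨(φ n).τ₂.hom (c n).1, hcyc n (c n)⟩ : AddMonoidHom.ker T.g.hom)) := by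
    intro s c
    rw [map_sum, map_sum]
    apply Finset.sum_congr rfl
    intro n _
    rw [DirectSum.toAddMonoid_of]
    exact homologyMap_cls (φ n) (c n) (hcyc n (c n))
  have hcoe : ∀ (s : Finset J) (c : ∀ n, AddMonoidHom.ker (S n).g.hom),
      ((∑ n ∈ s, (⟨(φ n).τ₂.hom (c n).1, hcyc n (c n)⟩ : AddMonoidHom.ker T.g.hom) :
        AddMonoidHom.ker T.g.hom) : T.X₂) =
      DirectSum.toAddMonoid (fun n => (φ n).τ₂.hom)
        (∑ n ∈ s, DirectSum.of (fun n => ((S n).X₂ : Type u)) n (c n).1) := by
    intro s c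
    rw [AddSubgroup.val_finsetSum, map_sum]
    apply Finset.sum_congr rfl
    intro n _
    rw [DirectSum.toAddMonoid_of]
  constructor
  · rw [injective_iff_map_eq_zero]
    intro y hy
    have hex : ∀ n, ∃ c : AddMonoidHom.ker (S n).g.hom, cls (S n) c = y n :=
      fun n => cls_surjective _ _
    choose c hc using hex
    have hy' : y = ∑ n ∈ y.support, DirectSum.of (fun n => ((S n).homology : Type u)) n
        (cls (S n) (c n)) := by
      conv_lhs => rw [← DirectSum.sum_support_of y]
      apply Finset.sum_congr rfl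
      intro n _
      rw [hc]
    rw [hy', hsum, cls_eq_zero_iff] at hy
    obtain ⟨t, ht⟩ := hy
    obtain ⟨w, rfl⟩ := h₁ t
    rw [hcoe, ← B] at ht
    have hx := h₂.1 ht
    ext n
    rw [DirectSum.zero_apply]
    by_cases hn : n ∈ y.support
    · have h1 := congrArg (fun x => x n) hx
      simp only [DirectSum.map_apply] at h1
      rw [sum_of_apply, if_pos hn] at h1
      rw [← hc, cls_eq_zero_iff]
      exact ⟨w n, h1⟩
    · exact DFinsupp.notMem_support_iff.1 hn
  · intro w
    obtain ⟨z, rfl⟩ := cls_surjective T w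
    obtain ⟨x, hx⟩ := h₂.2 z.1
    have hx0 : DirectSum.map (fun n => (S n).g.hom) x = 0 := by
      apply h₃
      rw [A, hx, map_zero]
      have := z.2
      rwa [AddMonoidHom.mem_ker] at this
    have hcx : ∀ n, (S n).g.hom (x n) = 0 := by
      intro n
      have := congrArg (fun x => x n) hx0
      simpa only [DirectSum.map_apply, DirectSum.zero_apply] using this
    let c : ∀ n, AddMonoidHom.ker (S n).g.hom := fun n => ⟨x n, hcx n⟩
    refine ⟨∑ n ∈ x.support, DirectSum.of (fun n => ((S n).homology : Type u)) n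
      (cls (S n) (c n)), ?_⟩
    rw [hsum]
    congr 1
    apply Subtype.ext
    rw [hcoe, ← hx]
    congr 1
    exact DirectSum.sum_support_of x

end DS

section HC

variable {J : Type*} [DecidableEq J] {ι : Type*} {c : ComplexShape ι}

theorem hc_directSum_homology (K : J → HomologicalComplex Ab.{u} c) (L : HomologicalComplex Ab.{u} c)
    (φ : ∀ n, K n ⟶ L) (j : ι)
    (h : ∀ i, Function.Bijective (DirectSum.toAddMonoid (fun n => ((φ n).f i).hom))) :
    Function.Bijective (DirectSum.toAddMonoid
      (fun n => (HomologicalComplex.homologyMap (φ n) j).hom)) :=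
  sc_directSum_homology (fun n => (K n).sc j) (L.sc j)
    (fun n => (HomologicalComplex.shortComplexFunctor _ c j).map (φ n)) (h _).2 (h _) (h _).1

end HC

end Groth.Agent.Lib.Helper98.AbCls
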