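import Groth.Agent.S2442
import Groth.Agent.S2439
import Groth.Agent.Lib.Helper98.CechBC
import Groth.Agent.Lib.Helper98.KoszulCechLim

/-!
# helper98: Koszul colimits vs cohomology of the punctured spectrum, over the ring `A` itself

For `X = Spec A`, `F = M~`, `U = LocCoh.puncturedOpen A (span fs)`:
* `kerEquiv`  : `ker (F(⊤) → F(U)) ≃+ koszulHLim fs M 0`
* `cokerEquiv`: `F(U) ⧸ range ≃+ koszulHLim fs M 1`
* `HUEquiv`   : for `q ≥ 1`, `CohTop.HU (Coh.toAb F) q U ≃+ koszulHLim fs M (q+1)`.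
Ring transport of S2442/S2439 along `A ≅ Γ(Spec A, ⊤)`:
* `locCompat_restrictScalars`, `cechIso`, `koszulHLim_congr`, `koszulHLim_restrictScalars`.
-/

set_option autoImplicit false
universe u
open CategoryTheory CategoryTheory.Limits HomologicalComplex CochainComplex

namespace Groth.Agent.Lib.Helper98.AffineKoszul

open Helper98.CechBC Helper98.CechFun

attribute [local instance] HasDerivedCategory.standard

section Transport

variable {A R' : Type u} [CommRing A] [CommRing R']

/-- functoriality of the extended Čech complex under isomorphisms of modules -/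
theorem cechIso {M N : ModuleCat.{u} A} (e : M ≅ N) (fs : List A) :
    Nonempty (DerCA.extCech M fs ≅ DerCA.extCech N fs) := by
  induction fs with
  | nil => exact ⟨(HomologicalComplex.single (ModuleCat.{u} A) (ComplexShape.up ℤ) 0).mapIso e⟩
  | cons f fs ih =>
    obtain ⟨i⟩ := ih
    exact ⟨coconeIso _ _ i ((DerCA.locCx (Submonoid.powers f)).mapIso i)
      (locCxUnit_naturality _ i.hom)⟩

theorem koszulHLim_congr {M N : ModuleCat.{u} A} (e : M ≅ N) (fs : List A) (p : ℕ) :
    Nonempty (CohIII.koszulHLim fs M p ≃+ CohIII.koszulHLim fs N p) := by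
  obtain ⟨e1⟩ := Groth.Agent.Lib.Helper98.KoszulCechLim.koszulHLim_equiv fs M p
  obtain ⟨e2⟩ := Groth.Agent.Lib.Helper98.KoszulCechLim.koszulHLim_equiv fs N p
  obtain ⟨i⟩ := cechIso e fs
  exact ⟨e1.toAddEquiv.trans ((((homologyFunctor _ _ (p : ℤ)).mapIso i).toLinearEquiv.toAddEquiv).trans
    e2.symm.toAddEquiv)⟩

variable (φ : A →+* R')

lemma locCompat_restrictScalars (a : A) :
    LocCompat (ModuleCat.restrictScalars φ) (φ a) a := by
  intro X
  have h0 : IsLocalizedModule (Submonoid.powers (φ a))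
      (LocalizedModule.mkLinearMap (Submonoid.powers (φ a)) X) := inferInstance
  refine ⟨?_, ?_, ?_⟩
  · rintro ⟨s, n, rfl⟩
    rw [Module.End.isUnit_iff]
    have h1 := (Module.End.isUnit_iff _).1
      (h0.map_units ⟨(φ a) ^ n, n, rfl⟩)
    refine ⟨fun y₁ y₂ h => h1.1 ?_, fun y => ?_⟩
    · change (φ a) ^ n • y₁ = (φ a) ^ n • y₂
      have h' : φ (a ^ n) • y₁ = φ (a ^ n) • y₂ := h
      rwa [map_pow] at h'
    · obtain ⟨z, hz⟩ := h1.2 y
      refine ⟨z, ?_⟩
      change φ (a ^ n) • z = y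
      rw [map_pow]
      exact hz
  · intro y
    obtain ⟨⟨x, ⟨s, n, rfl⟩⟩, hx⟩ := h0.surj y
    refine ⟨⟨x, ⟨a ^ n, n, rfl⟩⟩, ?_⟩
    change (φ (a ^ n)) • y = _
    rw [map_pow]
    exact hx
  · intro x₁ x₂ h
    obtain ⟨⟨c, n, rfl⟩, hc⟩ := h0.exists_of_eq (x₁ := x₁) (x₂ := x₂) h
    refine ⟨⟨a ^ n, n, rfl⟩, ?_⟩
    change (φ (a ^ n)) • x₁ = (φ (a ^ n)) • x₂
    rw [map_pow]
    exact hc

theorem extCechH_restrictScalars (fs : List A) (M' : ModuleCat.{u} R') (q : ℤ) :
    Nonempty ((DerCA.extCech ((ModuleCat.restrictScalars φ).obj M') fs).homology q ≃+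
      (DerCA.extCech M' (fs.map φ)).homology q) := by
  let l : List (R' × A) := fs.map (fun a => (φ a, a))
  have hl : ∀ p ∈ l, LocCompat (ModuleCat.restrictScalars φ) p.1 p.2 := by
    intro p hp
    obtain ⟨a, _, rfl⟩ := List.mem_map.1 hp
    exact locCompat_restrictScalars φ a
  have h1 : l.map Prod.snd = fs := by
    simp [l, List.map_map, Function.comp_def]
  have h2 : l.map Prod.fst = fs.map φ := by
    simp [l, List.map_map, Function.comp_def]
  obtain ⟨i⟩ := cechH_functor (ModuleCat.restrictScalars φ) l hl M' q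
  rw [h1, h2] at i
  exact ⟨i.toLinearEquiv.toAddEquiv.trans (AddEquiv.refl _)⟩

theorem koszulHLim_restrictScalars (fs : List A) (M' : ModuleCat.{u} R') (p : ℕ) :
    Nonempty (CohIII.koszulHLim fs ((ModuleCat.restrictScalars φ).obj M') p ≃+
      CohIII.koszulHLim (fs.map φ) M' p) := by
  obtain ⟨e1⟩ := Groth.Agent.Lib.Helper98.KoszulCechLim.koszulHLim_equiv fs
    ((ModuleCat.restrictScalars φ).obj M') p
  obtain ⟨e2⟩ := Groth.Agent.Lib.Helper98.KoszulCechLim.koszulHLim_equiv (fs.map φ) M' p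
  obtain ⟨e3⟩ := extCechH_restrictScalars φ fs M' (p : ℤ)
  exact ⟨e1.toAddEquiv.trans (e3.trans e2.symm.toAddEquiv)⟩

end Transport

section Affine

open AlgebraicGeometry Opposite TopologicalSpace

variable (A : Type u) [CommRing A] (fs : List A) (M : ModuleCat.{u} A)

/-- the list transported to global functions on `Spec A` -/
noncomputable def gfs : List Γ(Spec (CommRingCat.of A), ⊤) :=
  fs.map (Scheme.ΓSpecIso (CommRingCat.of A)).inv.hom

lemma iSup_basicOpen_gfs :
    (⨆ i : Fin (gfs A fs).length, (Spec (CommRingCat.of A)).basicOpen ((gfs A fs).get i)) =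
      LocCoh.puncturedOpen A (Ideal.span {a | a ∈ fs}) := by
  ext x
  simp only [SetLike.mem_coe, Opens.mem_iSup]
  constructor
  · rintro ⟨i, hi⟩
    have hm : (gfs A fs).get i ∈ gfs A fs := List.get_mem _ _
    obtain ⟨a, ha, hax⟩ := List.mem_map.1 hm
    rw [← hax] at hi
    have hi' : x ∈ (Spec (CommRingCat.of A)).basicOpen
        ((Scheme.ΓSpecIso (CommRingCat.of A)).inv a) := hi
    rw [basicOpen_eq_of_affine] at hi'
    intro hx
    have hx' : (show PrimeSpectrum A from x) ∈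
        PrimeSpectrum.zeroLocus (R := A) (Ideal.span {a | a ∈ fs} : Set A) := hx
    rw [PrimeSpectrum.mem_zeroLocus] at hx'
    exact hi' (hx' (Ideal.subset_span ha))
  · intro hx
    have hx' : ¬ ((show PrimeSpectrum A from x) ∈
        PrimeSpectrum.zeroLocus (R := A) (Ideal.span {a | a ∈ fs} : Set A)) := hx
    rw [PrimeSpectrum.mem_zeroLocus, SetLike.coe_subset_coe, Ideal.span_le] at hx'
    obtain ⟨a, ha, hax⟩ := Set.not_subset.1 hx'
    have hm : (Scheme.ΓSpecIso (CommRingCat.of A)).inv.hom a ∈ gfs A fs :=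
      List.mem_map.2 ⟨a, ha, rfl⟩
    obtain ⟨i, hi⟩ := List.mem_iff_get.1 hm
    refine ⟨i, ?_⟩
    rw [hi]
    have : x ∈ (Spec (CommRingCat.of A)).basicOpen
        ((Scheme.ΓSpecIso (CommRingCat.of A)).inv a) := by
      rw [basicOpen_eq_of_affine]
      exact hax
    exact this

/-- global sections of `M~` as a `Γ(Spec A, ⊤)`-module, restricted to `A` -/
noncomputable def X1 : ModuleCat.{u} A :=
  (ModuleCat.restrictScalars (Scheme.ΓSpecIso (CommRingCat.of A)).inv.hom).obj
    (ModuleCat.of Γ(Spec (CommRingCat.of A), ⊤)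
      ((AlgebraicGeometry.tilde (R := CommRingCat.of A) M).val.obj (op ⊤)))

/-- global sections of `M~` as an `A`-module (Mathlib's structure) -/
noncomputable def X2 : ModuleCat.{u} A :=
  (modulesSpecToSheaf.obj (AlgebraicGeometry.tilde (R := CommRingCat.of A) M)).presheaf.obj (op ⊤)

noncomputable def linEq : X1 A M ≃ₗ[A] X2 A M :=
  { __ := AddEquiv.refl _
    map_smul' := fun r x => by
      have h := Scheme.Modules.smul_Spec_def (R := CommRingCat.of A)
        (M := AlgebraicGeometry.tilde (R := CommRingCat.of A) M) (U := ⊤) r x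
      have h2 : (Spec (CommRingCat.of A)).presheaf.map
          (⊤ : (Spec (CommRingCat.of A)).Opens).leTop.op = 𝟙 _ := by
        rw [← (Spec (CommRingCat.of A)).presheaf.map_id]
        rfl
      rw [h2] at h
      exact h.symm }

/-- global sections of `M~` as a `Γ(Spec A, ⊤)`-module, restricted to `A`, is `M` -/
noncomputable def restrictScalarsΓIso : X1 A M ≅ M :=
  (linEq A M).toModuleIso ≪≫ (tilde.isoTop (R := CommRingCat.of A) M).symm

/-- Koszul colimit over `A` vs over `Γ(Spec A, ⊤)` -/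
theorem koszulHLim_gfs (p : ℕ) :
    Nonempty (CohIII.koszulHLim (gfs A fs) (ModuleCat.of Γ(Spec (CommRingCat.of A), ⊤)
      ((AlgebraicGeometry.tilde (R := CommRingCat.of A) M).val.obj (op ⊤))) p ≃+
      CohIII.koszulHLim fs M p) := by
  obtain ⟨e1⟩ := koszulHLim_restrictScalars (Scheme.ΓSpecIso (CommRingCat.of A)).inv.hom fs
    (ModuleCat.of Γ(Spec (CommRingCat.of A), ⊤)
      ((AlgebraicGeometry.tilde (R := CommRingCat.of A) M).val.obj (op ⊤))) p
  obtain ⟨e2⟩ := koszulHLim_congr (restrictScalarsΓIso A M) fs p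
  exact ⟨e1.symm.trans e2⟩

instance : Coh.IsQCoh (AlgebraicGeometry.tilde (R := CommRingCat.of A) M) :=
  (inferInstance : (AlgebraicGeometry.tilde (R := CommRingCat.of A) M).IsQuasicoherent)

theorem kerEquiv :
    Nonempty (((Coh.toAb (AlgebraicGeometry.tilde (R := CommRingCat.of A) M)).obj.map
      (homOfLE (le_top : LocCoh.puncturedOpen A (Ideal.span {a | a ∈ fs}) ≤ ⊤)).op).hom.ker ≃+
        CohIII.koszulHLim fs M 0) := by
  obtain ⟨e⟩ := (Groth.Agent.S2442.result (Spec (CommRingCat.of A)) (gfs A fs)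
    (AlgebraicGeometry.tilde (R := CommRingCat.of A) M)).1
  obtain ⟨e'⟩ := koszulHLim_gfs A fs M 0
  have key : ∀ (U U' : (Spec (CommRingCat.of A)).Opens) (h : U = U'),
      Nonempty (((Coh.toAb (AlgebraicGeometry.tilde (R := CommRingCat.of A) M)).obj.map
        (homOfLE (le_top : U ≤ ⊤)).op).hom.ker ≃+ CohIII.koszulHLim fs M 0) →
      Nonempty (((Coh.toAb (AlgebraicGeometry.tilde (R := CommRingCat.of A) M)).obj.map
        (homOfLE (le_top : U' ≤ ⊤)).op).hom.ker ≃+ CohIII.koszulHLim fs M 0) := by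
    intro U U' h
    subst h
    exact id
  exact key _ _ (iSup_basicOpen_gfs A fs) ⟨e.trans e'⟩

theorem cokerEquiv :
    Nonempty (↑((Coh.toAb (AlgebraicGeometry.tilde (R := CommRingCat.of A) M)).obj.obj
        (op (LocCoh.puncturedOpen A (Ideal.span {a | a ∈ fs})))) ⧸
      ((Coh.toAb (AlgebraicGeometry.tilde (R := CommRingCat.of A) M)).obj.map
      (homOfLE (le_top : LocCoh.puncturedOpen A (Ideal.span {a | a ∈ fs}) ≤ ⊤)).op).hom.range ≃+
        CohIII.koszulHLim fs M 1) := by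
  obtain ⟨e⟩ := (Groth.Agent.S2442.result (Spec (CommRingCat.of A)) (gfs A fs)
    (AlgebraicGeometry.tilde (R := CommRingCat.of A) M)).2
  obtain ⟨e'⟩ := koszulHLim_gfs A fs M 1
  have key : ∀ (U U' : (Spec (CommRingCat.of A)).Opens) (h : U = U'),
      Nonempty (↑((Coh.toAb (AlgebraicGeometry.tilde (R := CommRingCat.of A) M)).obj.obj (op U)) ⧸
        ((Coh.toAb (AlgebraicGeometry.tilde (R := CommRingCat.of A) M)).obj.map
        (homOfLE (le_top : U ≤ ⊤)).op).hom.range ≃+ CohIII.koszulHLim fs M 1) →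
      Nonempty (↑((Coh.toAb (AlgebraicGeometry.tilde (R := CommRingCat.of A) M)).obj.obj (op U')) ⧸
        ((Coh.toAb (AlgebraicGeometry.tilde (R := CommRingCat.of A) M)).obj.map
        (homOfLE (le_top : U' ≤ ⊤)).op).hom.range ≃+ CohIII.koszulHLim fs M 1) := by
    intro U U' h
    subst h
    exact id
  exact key _ _ (iSup_basicOpen_gfs A fs) ⟨e.trans e'⟩

theorem HHonEquiv (q : ℕ) (hq : 1 ≤ q) :
    Nonempty (Coh.HHon (Spec (CommRingCat.of A)) (AlgebraicGeometry.tilde (R := CommRingCat.of A) M)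
      (LocCoh.puncturedOpen A (Ideal.span {a | a ∈ fs})) q ≃+ CohIII.koszulHLim fs M (q + 1)) := by
  obtain ⟨e⟩ := Groth.Agent.S2439.result (Spec (CommRingCat.of A)) (gfs A fs)
    (fun i => (isAffineOpen_top (Spec (CommRingCat.of A))).basicOpen _)
    (AlgebraicGeometry.tilde (R := CommRingCat.of A) M) q hq
  obtain ⟨e'⟩ := koszulHLim_gfs A fs M (q + 1)
  have key : ∀ (U U' : (Spec (CommRingCat.of A)).Opens) (h : U = U'),
      Nonempty (Coh.HHon (Spec (CommRingCat.of A))
        (AlgebraicGeometry.tilde (R := CommRingCat.of A) M) U q ≃+ CohIII.koszulHLim fs M (q + 1)) →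
      Nonempty (Coh.HHon (Spec (CommRingCat.of A))
        (AlgebraicGeometry.tilde (R := CommRingCat.of A) M) U' q ≃+
          CohIII.koszulHLim fs M (q + 1)) := by
    intro U U' h
    subst h
    exact id
  exact key _ _ (iSup_basicOpen_gfs A fs) ⟨e.trans e'⟩

theorem HUEquiv (q : ℕ) (hq : 1 ≤ q) :
    Nonempty (CohTop.HU (Coh.toAb (AlgebraicGeometry.tilde (R := CommRingCat.of A) M)) q
      (LocCoh.puncturedOpen A (Ideal.span {a | a ∈ fs})) ≃+ CohIII.koszulHLim fs M (q + 1)) := by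
  obtain ⟨e⟩ := HHonEquiv A fs M q hq
  obtain ⟨e1⟩ := Groth.Agent.Lib.Helper53.nonempty_HU_equiv_H_restr
    (X := (Spec (CommRingCat.of A)).toTopCat)
    (LocCoh.puncturedOpen A (Ideal.span {a | a ∈ fs}))
    (Coh.toAb (AlgebraicGeometry.tilde (R := CommRingCat.of A) M)) q
  exact ⟨e1.trans e⟩

end Affine

end Groth.Agent.Lib.Helper98.AffineKoszul
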