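import Groth.Prelude.Def_ArtFun2

set_option autoImplicit false
universe u v
open CategoryTheory
open ArtFun ArtFun.Art

namespace Groth.Agent.Lib.Helper98.ArtFunLib

variable {Λ k : Type u} [CommRing Λ] [Field k] [Algebra Λ k]

section Lift

variable {B A A' A'' C : Art Λ k} {p' : B ⟶ A'} {p'' : B ⟶ A''} {f' : A' ⟶ A} {f'' : A'' ⟶ A}

theorem fibreProd_lift (h : IsFibreProd p' p'' f' f'') (g' : C ⟶ A') (g'' : C ⟶ A'')
    (hg : g' ≫ f' = g'' ≫ f'') : ∃ σ : C ⟶ B, σ ≫ p' = g' ∧ σ ≫ p'' = g'' := by
  have hgr : ∀ r : C, f' (g' r) = f'' (g'' r) := fun r =>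
    congrArg (fun t : C ⟶ A => t r) hg
  choose g hg' hg'' using fun r => h.surj (g' r) (g'' r) (hgr r)
  have key : ∀ (b : B) (r : C), p' b = g' r → p'' b = g'' r → g r = b := by
    intro b r h1 h2
    exact (h.inj _ _ (h1.trans (hg' r).symm) (h2.trans (hg'' r).symm)).symm
  let ψ : C →ₐ[Λ] B :=
    { toFun := g
      map_one' := by
        apply key
        · exact (map_one p'.toAlgHom).trans (map_one g'.toAlgHom).symm
        · exact (map_one p''.toAlgHom).trans (map_one g''.toAlgHom).symm
      map_mul' := by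
        intro r s
        apply key
        · refine (map_mul p'.toAlgHom _ _).trans ?_
          rw [hg' r, hg' s]; exact (map_mul g'.toAlgHom _ _).symm
        · refine (map_mul p''.toAlgHom _ _).trans ?_
          rw [hg'' r, hg'' s]; exact (map_mul g''.toAlgHom _ _).symm
      map_zero' := by
        apply key
        · exact (map_zero p'.toAlgHom).trans (map_zero g'.toAlgHom).symm
        · exact (map_zero p''.toAlgHom).trans (map_zero g''.toAlgHom).symm
      map_add' := by
        intro r s
        apply key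
        · refine (map_add p'.toAlgHom _ _).trans ?_
          rw [hg' r, hg' s]; exact (map_add g'.toAlgHom _ _).symm
        · refine (map_add p''.toAlgHom _ _).trans ?_
          rw [hg'' r, hg'' s]; exact (map_add g''.toAlgHom _ _).symm
      commutes' := by
        intro c
        apply key
        · exact (p'.toAlgHom.commutes c).trans (g'.toAlgHom.commutes c).symm
        · exact (p''.toAlgHom.commutes c).trans (g''.toAlgHom.commutes c).symm }
  have hψ : B.res.comp ψ = C.res := by
    apply AlgHom.ext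
    intro r
    change B.res (g r) = C.res r
    rw [← Art.res_app p' (g r), hg' r, Art.res_app]
  refine ⟨⟨ψ, hψ⟩, ?_, ?_⟩
  · apply Art.hom_ext
    apply AlgHom.ext
    intro r
    exact hg' r
  · apply Art.hom_ext
    apply AlgHom.ext
    intro r
    exact hg'' r

theorem fibreProd_hom_ext (h : IsFibreProd p' p'' f' f'') (σ τ : C ⟶ B)
    (h1 : σ ≫ p' = τ ≫ p') (h2 : σ ≫ p'' = τ ≫ p'') : σ = τ := by
  apply Art.hom_ext
  apply AlgHom.ext
  intro r
  exact h.inj _ _ (congrArg (fun t : C ⟶ A' => t r) h1) (congrArg (fun t : C ⟶ A'' => t r) h2)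

end Lift

section Cmp

variable {F : Art Λ k ⥤ Type v} {B A A' A'' : Art Λ k} {p' : B ⟶ A'} {p'' : B ⟶ A''}
  {f' : A' ⟶ A} {f'' : A'' ⟶ A}

theorem cmp_inj (h : IsFibreProd p' p'' f' f'') (hb : Function.Injective (cmp F h))
    (a b : F.obj B) (h1 : F.map p' a = F.map p' b) (h2 : F.map p'' a = F.map p'' b) : a = b :=
  hb (FibProd.ext h1 h2)

theorem cmp_surj (h : IsFibreProd p' p'' f' f'') (hb : Function.Surjective (cmp F h))
    (a' : F.obj A') (a'' : F.obj A'') (e : F.map f' a' = F.map f'' a'') :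
    ∃ a : F.obj B, F.map p' a = a' ∧ F.map p'' a = a'' := by
  obtain ⟨a, ha⟩ := hb ⟨(a', a''), e⟩
  exact ⟨a, congrArg (fun t => t.1.1) ha, congrArg (fun t => t.1.2) ha⟩

theorem map_comp_apply {A B C : Art Λ k} (f : A ⟶ B) (g : B ⟶ C) (x : F.obj A) :
    F.map g (F.map f x) = F.map (f ≫ g) x := by
  rw [F.map_comp]; rfl

theorem map_id_apply {A : Art Λ k} (x : F.obj A) : F.map (𝟙 A) x = x := by
  rw [F.map_id]; rfl

end Cmp

end Groth.Agent.Lib.Helper98.ArtFunLib
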