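import Groth.Agent.Lib.Helper94.ArtFun2
import Groth.Agent.Lib.Helper98.ArtFun

/-!
# The tangent-space torsor trick for functors of Artin rings with (RS) (helper98)

For a small extension `μ : A' → A` the object `P = A' ×_A A'` is also `A' ×_k k[ε]`
(helper94's `smallExt_exists_dual`).  For functors with (RS) this gives the pseudo-torsor structure
of the fibres of `F(A') → F(A)` under `t_F`; we only record the two consequences used for
smoothness statements:

* `exists_adjust`: if `f : F ⟶ G` is surjective on tangent spaces, any `x' ∈ F(A')` can be moved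
  inside its fibre over `F(A)` so that `f x'` becomes a prescribed `y'` in the fibre of `f x'`.
* `eq_of_tangent_injective`: if `q : G ⟶ F` is injective on tangent spaces, two elements of
  `G(A')` with the same image in `G(A)` and in `F(A')` are equal.
-/

set_option autoImplicit false
universe u v
open CategoryTheory
open ArtFun ArtFun.Art

namespace Groth.Agent.Lib.Helper98.ArtTorsor

open Groth.Agent.Lib.Helper94 Groth.Agent.Lib.Helper98.ArtFunLib

variable {Λ k : Type u} [CommRing Λ] [Field k] [Algebra Λ k]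

/-- condition (RS): the comparison map is bijective for every fibre square with `A'' → A`
surjective. -/
def RS (F : Art Λ k ⥤ Type v) : Prop :=
  ∀ ⦃B A A' A'' : Art Λ k⦄ (p' : B ⟶ A') (p'' : B ⟶ A'') (f' : A' ⟶ A) (f'' : A'' ⟶ A)
    (h : IsFibreProd p' p'' f' f''), Function.Surjective f'' → Function.Bijective (cmp F h)

theorem surjective_toBase_dual : Function.Surjective (toBase (dual Λ k)) :=
  (dual Λ k).res_surjective

theorem exists_adjust {F G : Art Λ k ⥤ Type v} (hF0 : H0 F) (hF : RS F) (hG : RS G) (f : F ⟶ G)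
    (hd : Function.Surjective (TangentSpace.map f)) {A' A : Art Λ k} (μ : A' ⟶ A)
    (hμ : IsSmallExt μ) (x' : F.obj A') (y' : G.obj A')
    (h : G.map μ (f.app A' x') = G.map μ y') :
    ∃ x'' : F.obj A', F.map μ x'' = F.map μ x' ∧ f.app A' x'' = y' := by
  obtain ⟨q, hq, -⟩ := smallExt_exists_dual hμ
  have hP : IsFibreProd (fibreProdFst μ μ hμ.1) (fibreProdSnd μ μ hμ.1) μ μ :=
    isFibreProd_fibreProd μ μ hμ.1
  have hsd : Function.Surjective (toBase (dual Λ k)) := surjective_toBase_dual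
  obtain ⟨wG, hw1, hw2⟩ := cmp_surj hP (hG _ _ _ _ hP hμ.1).2 (f.app A' x') y' h
  obtain ⟨s, hs⟩ := hd (G.map q wG)
  have hs' : f.app (dual Λ k) s = G.map q wG := hs
  obtain ⟨wF, hv1, hv2⟩ := cmp_surj hq (hF _ _ _ _ hq hsd).2 x' s (hF0.2.elim _ _)
  have e : f.app _ wF = wG := by
    apply cmp_inj hq (hG _ _ _ _ hq hsd).1
    · rw [← NatTrans.naturality_apply f (fibreProdFst μ μ hμ.1) wF, hv1, hw1]
    · rw [← NatTrans.naturality_apply f q wF, hv2, hs']
  refine ⟨F.map (fibreProdSnd μ μ hμ.1) wF, ?_, ?_⟩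
  · rw [map_comp_apply, ← hP.w, ← map_comp_apply, hv1]
  · rw [NatTrans.naturality_apply f (fibreProdSnd μ μ hμ.1) wF, e, hw2]

theorem eq_of_tangent_injective {F G : Art Λ k ⥤ Type v} (hF : RS F) (hG : RS G) (q' : G ⟶ F)
    (hq' : Function.Injective (TangentSpace.map q')) {A' A : Art Λ k} (μ : A' ⟶ A)
    (hμ : IsSmallExt μ) (g₁ g₂ : G.obj A') (h1 : G.map μ g₁ = G.map μ g₂)
    (h2 : q'.app A' g₁ = q'.app A' g₂) : g₁ = g₂ := by
  obtain ⟨q, hq, -⟩ := smallExt_exists_dual hμ
  have hP : IsFibreProd (fibreProdFst μ μ hμ.1) (fibreProdSnd μ μ hμ.1) μ μ :=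
    isFibreProd_fibreProd μ μ hμ.1
  have hsd : Function.Surjective (toBase (dual Λ k)) := surjective_toBase_dual
  obtain ⟨Δ, hΔ1, hΔ2⟩ := IsFibreProd.exists_lift_hom hP (𝟙 A') (𝟙 A') rfl
  obtain ⟨w, hw1, hw2⟩ := cmp_surj hP (hG _ _ _ _ hP hμ.1).2 g₁ g₂ h1
  have hw01 : G.map (fibreProdFst μ μ hμ.1) (G.map Δ g₁) = g₁ := by
    rw [map_comp_apply, hΔ1, map_id_apply]
  have hw02 : G.map (fibreProdSnd μ μ hμ.1) (G.map Δ g₁) = g₁ := by
    rw [map_comp_apply, hΔ2, map_id_apply]
  -- `q' w = q' w₀` in `F(P)`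
  have e1 : q'.app _ w = q'.app _ (G.map Δ g₁) := by
    apply cmp_inj hP (hF _ _ _ _ hP hμ.1).1
    · rw [← NatTrans.naturality_apply q' (fibreProdFst μ μ hμ.1) w,
        ← NatTrans.naturality_apply q' (fibreProdFst μ μ hμ.1) (G.map Δ g₁), hw1, hw01]
    · rw [← NatTrans.naturality_apply q' (fibreProdSnd μ μ hμ.1) w,
        ← NatTrans.naturality_apply q' (fibreProdSnd μ μ hμ.1) (G.map Δ g₁), hw2, hw02, h2]
  have e2 : G.map q w = G.map q (G.map Δ g₁) := by
    apply hq'
    change q'.app (dual Λ k) (G.map q w) = q'.app (dual Λ k) (G.map q (G.map Δ g₁))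
    rw [NatTrans.naturality_apply q' q w, NatTrans.naturality_apply q' q (G.map Δ g₁), e1]
  have e3 : w = G.map Δ g₁ := by
    apply cmp_inj hq (hG _ _ _ _ hq hsd).1
    · rw [hw1, hw01]
    · exact e2
  rw [← hw2, e3, hw02]

end Groth.Agent.Lib.Helper98.ArtTorsor
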