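import Groth.Agent.Lib.Helper98.CechGen
import Groth.Agent.Lib.Helper98.AbCls

/-!
# helper98: comparing Mathlib's Čech complexes of presheaves on two different spaces

* `Compat U V P Q`: a family of maps `P(∏ U∘i) ⟶ Q(∏ V∘i)` compatible with the cosimplicial structure
* `Compat.map`: the induced morphism of Čech complexes; `π_map`
* `directSum_cechH`: if a family `P n` (n : J) of presheaves on `X` with compatible maps to `Q` exhibits
  each `Q(∏ V∘i)` as the direct sum of the `P n (∏ U∘i)` (finite index type), then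
  `⨁ n, Ȟ^p(U, P n) ≃+ Ȟ^p(V, Q)`.
-/

set_option autoImplicit false
universe u

open CategoryTheory CategoryTheory.Limits TopologicalSpace Opposite Simplicial

namespace Groth.Agent.Lib.Helper98.CechCompare

open Groth.Agent.Lib.Helper26.CechLES Groth.Agent.Lib.Helper98.CechGen

variable {X Y : TopCat.{u}} {ι : Type u} (U : ι → Opens X) (V : ι → Opens Y)
  (P : (Opens X)ᵒᵖ ⥤ AddCommGrpCat.{u}) (Q : (Opens Y)ᵒᵖ ⥤ AddCommGrpCat.{u})

/-- a compatible family of maps between the values on the finite intersections -/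
structure Compat where
  θ : ∀ (n : ℕ) (i : Fin (n + 1) → ι), P.obj (op (∏ᶜ (U ∘ i))) ⟶ Q.obj (op (∏ᶜ (V ∘ i)))
  comm : ∀ (n m : ℕ) (f : Fin (m + 1) → Fin (n + 1)) (i : Fin (n + 1) → ι)
    (a : (∏ᶜ (U ∘ i) : Opens X) ⟶ ∏ᶜ (U ∘ i ∘ f)) (b : (∏ᶜ (V ∘ i) : Opens Y) ⟶ ∏ᶜ (V ∘ i ∘ f)),
    P.map a.op ≫ θ n i = θ m (i ∘ f) ≫ Q.map b.op

variable {U V P Q}

set_option backward.defeqAttrib.useBackward true in
set_option backward.isDefEq.respectTransparency false in
/-- the induced morphism of cosimplicial objects -/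
noncomputable def Compat.cosimp (c : Compat U V P Q) :
    (FormalCoproduct.cosimplicialObjectFunctor (FormalCoproduct.mk _ U).cech).obj P ⟶
      (FormalCoproduct.cosimplicialObjectFunctor (FormalCoproduct.mk _ V).cech).obj Q where
  app n := Limits.Pi.map (fun i : Fin (n.len + 1) → ι => c.θ n.len i)
  naturality n m f := by
    apply Limits.Pi.hom_ext
    intro i
    dsimp [FormalCoproduct.cosimplicialObjectFunctor]
    simp only [Category.assoc, Limits.Pi.map_π, Limits.Pi.lift_π, Limits.Pi.lift_π_assoc,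
      Limits.Pi.map_π_assoc]
    exact congrArg (fun k => Pi.π (fun i => P.obj (op (∏ᶜ U ∘ i)))
      (i ∘ ⇑(SimplexCategory.Hom.toOrderHom f)) ≫ k)
      (c.comm m.len n.len (⇑(SimplexCategory.Hom.toOrderHom f)) i _ _)

/-- the induced morphism of Čech complexes -/
noncomputable def Compat.map (c : Compat U V P Q) :
    (cechComplexFunctor U).obj P ⟶ (cechComplexFunctor V).obj Q :=
  (AlgebraicTopology.alternatingCofaceMapComplex _).map c.cosimp

lemma Compat.map_f (c : Compat U V P Q) (n : ℕ) :
    c.map.f n = Limits.Pi.map (fun i : Fin (n + 1) → ι => c.θ n i) := rfl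

lemma Compat.π_map (c : Compat U V P Q) (n : ℕ) (i : Fin (n + 1) → ι)
    (s : ((cechComplexFunctor U).obj P).X n) :
    Pi.π (fun a : Fin (n + 1) → ι => Q.obj (op (∏ᶜ (V ∘ a)))) i (c.map.f n s) =
      c.θ n i (Pi.π (fun a : Fin (n + 1) → ι => P.obj (op (∏ᶜ (U ∘ a)))) i s) := by
  rw [c.map_f]
  exact pi_map_apply _ s i

section DirectSum

open DirectSum Groth.Agent.Lib.Helper98.AbCls

variable {J : Type} [DecidableEq J]

/-- finite products commute with direct sums -/
theorem pi_directSum_bijective {I : Type u} [Finite I] (A : J → I → AddCommGrpCat.{u})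
    (B : I → AddCommGrpCat.{u}) (θ : ∀ n i, A n i ⟶ B i)
    (h : ∀ i, Function.Bijective (DirectSum.toAddMonoid (fun n => (θ n i).hom))) :
    Function.Bijective (DirectSum.toAddMonoid (fun n => (Limits.Pi.map (θ n)).hom)) := by
  classical
  haveI := Fintype.ofFinite I
  have key : ∀ (i : I) (x : ⨁ n, (∏ᶜ A n : AddCommGrpCat.{u})),
      DirectSum.toAddMonoid (fun n => (θ n i).hom)
        (DirectSum.map (fun n => (Pi.π (A n) i).hom) x) =
      (Pi.π B i).hom (DirectSum.toAddMonoid (fun n => (Limits.Pi.map (θ n)).hom) x) := by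
    intro i x
    have : (DirectSum.toAddMonoid (fun n => (θ n i).hom)).comp
        (DirectSum.map (fun n => (Pi.π (A n) i).hom)) =
        (Pi.π B i).hom.comp (DirectSum.toAddMonoid (fun n => (Limits.Pi.map (θ n)).hom)) := by
      apply DirectSum.addHom_ext
      intro n a
      simp only [AddMonoidHom.comp_apply, DirectSum.map_of, DirectSum.toAddMonoid_of]
      exact (pi_map_apply (θ n) a i).symm
    exact DFunLike.congr_fun this x
  constructor
  · rw [injective_iff_map_eq_zero]
    intro x hx
    ext n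
    rw [DirectSum.zero_apply]
    apply pi_ext
    intro i
    rw [map_zero]
    have h1 := key i x
    rw [hx, map_zero] at h1
    have h2 := (h i).1 (h1.trans (map_zero _).symm)
    have h3 := congrArg (fun y => y n) h2
    simpa only [DirectSum.map_apply, DirectSum.zero_apply] using h3
  · intro b
    have hy : ∀ i, ∃ y : ⨁ n, A n i, DirectSum.toAddMonoid (fun n => (θ n i).hom) y =
        (Pi.π B i).hom b := fun i => (h i).2 _
    choose y hy using hy
    let s : Finset J := Finset.univ.biUnion (fun i => (y i).support)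
    have hx : ∀ n, ∃ x : (∏ᶜ A n : AddCommGrpCat.{u}), ∀ i, Pi.π (A n) i x = y i n :=
      fun n => pi_exists (A := A n) (fun i => y i n)
    choose x hx using hx
    refine ⟨∑ n ∈ s, DirectSum.of (fun n => ((∏ᶜ A n : AddCommGrpCat.{u}) : Type u)) n (x n), ?_⟩
    apply pi_ext
    intro i
    refine (key i _).symm.trans (Eq.trans ?_ (hy i))
    congr 1
    ext n
    rw [DirectSum.map_apply, sum_of_apply]
    split_ifs with hn
    · exact hx n i
    · rw [map_zero]
      symm
      apply DFinsupp.notMem_support_iff.1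
      intro hn'
      exact hn (Finset.mem_biUnion.2 ⟨i, Finset.mem_univ _, hn'⟩)

variable [Finite ι] (Pn : J → ((Opens X)ᵒᵖ ⥤ AddCommGrpCat.{u})) (c : ∀ n, Compat U V (Pn n) Q)

/-- **Čech cohomology of a "direct sum decomposition"** -/
theorem directSum_cechH
    (h : ∀ (k : ℕ) (i : Fin (k + 1) → ι),
      Function.Bijective (DirectSum.toAddMonoid (fun n => ((c n).θ k i).hom))) (p : ℕ) :
    Function.Bijective (DirectSum.toAddMonoid
      (fun n => (HomologicalComplex.homologyMap (c n).map p).hom) :
        (⨁ n, (CohTop.cechH (Pn n) U p : Type u)) →+ (CohTop.cechH Q V p : Type u)) := by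
  apply hc_directSum_homology (fun n => (cechComplexFunctor U).obj (Pn n))
    ((cechComplexFunctor V).obj Q) (fun n => (c n).map) p
  intro k
  exact pi_directSum_bijective (I := Fin (k + 1) → ι)
    (fun n i => (Pn n).obj (op (∏ᶜ (U ∘ i)))) (fun i => Q.obj (op (∏ᶜ (V ∘ i))))
    (fun n i => (c n).θ k i) (h k)

end DirectSum

end Groth.Agent.Lib.Helper98.CechCompare
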