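import Groth.Agent.Lib.Helper98.CechBC
import Groth.Agent.Lib.Helper98.ConeElem
import Mathlib.RingTheory.TensorProduct.IsBaseChangePi
import Mathlib.Algebra.Module.LocalizedModule.Away
import Mathlib.Algebra.Module.LocalizedModule.Exact

/-!
# helper98: algebra of the extended Čech complex along localisation maps

* `isLoc_of_comp` (a localisation of a localisation), `isLoc_locMap`, `isLoc_of_subsingleton`
* `subsingleton_X_neg`, `pi0 N fs : Č(N,fs)^0 → N` (bijective, natural), `cechMap_id/comp`
* `isLoc_cechMap` : if `ρ : N → N'` is a localisation at `f`, so is every `Č(ρ)^i`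
* low-degree differential formulas for mapping cocones (`cocone_d01_*`, `cocone_d12_*`, `cocone_cocycle_iff`)
* `kappa : Č(N,fs)_f ≅ Č(N',fs)`, `Phi : Č(N, f :: fs) ≅ cocone (Č(ρ))`, naturality.
-/

set_option autoImplicit false
universe u v
open CategoryTheory CategoryTheory.Limits HomologicalComplex CochainComplex HomComplex

namespace Groth.Agent.Lib.Helper98.CechGlueAlg

open Helper98.CechFun Helper98.CechBC Groth.Agent.Lib.Helper98.ConeElem

section IsLoc

variable {R : Type u} [CommRing R]

lemma isUnit_pow_of_mul {P : Type*} [AddCommGroup P] [Module R P] (g f : R)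
    (h : IsUnit (algebraMap R (Module.End R P) (g * f))) :
    IsUnit (algebraMap R (Module.End R P) g) ∧ IsUnit (algebraMap R (Module.End R P) f) := by
  rw [map_mul] at h
  exact (Commute.isUnit_mul_iff ((Commute.all g f).map (algebraMap R (Module.End R P)))).mp h

/-- localisation of a localisation: if `α` is a localisation at `g` and `β ∘ α` a localisation at `g * f`
then `β` is a localisation at `f`. -/
lemma isLoc_of_comp {M N P : Type*} [AddCommGroup M] [Module R M] [AddCommGroup N] [Module R N]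
    [AddCommGroup P] [Module R P] (g f : R) (α : M →ₗ[R] N) (β : N →ₗ[R] P)
    [hα : IsLocalizedModule.Away g α] (h : IsLocalizedModule.Away (g * f) (β ∘ₗ α)) :
    IsLocalizedModule.Away f β := by
  have hu := IsLocalizedModule.Away.isUnit_algebraMap (β ∘ₗ α) (g * f)
  obtain ⟨hgP, hfP⟩ := isUnit_pow_of_mul g f hu
  have hgN := IsLocalizedModule.Away.isUnit_algebraMap α g
  have injP : ∀ (k : ℕ) (p : P), g ^ k • p = 0 → p = 0 := by
    intro k p hp
    have := ((Module.End.isUnit_iff _).mp (hgP.pow k)).1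
    apply this
    rw [← map_pow, Module.algebraMap_end_apply, hp, map_zero]
  have injN : ∀ (k : ℕ) (n : N), g ^ k • n = 0 → n = 0 := by
    intro k n hn
    have := ((Module.End.isUnit_iff _).mp (hgN.pow k)).1
    apply this
    rw [← map_pow, Module.algebraMap_end_apply, hn, map_zero]
  apply IsLocalizedModule.Away.mk_of_addCommGroup hfP
  · intro p
    obtain ⟨n, m, hm⟩ := IsLocalizedModule.Away.surj (β ∘ₗ α) (g * f) p
    obtain ⟨n', hn'⟩ := ((Module.End.isUnit_iff _).mp (hgN.pow n)).2 (α m)
    refine ⟨n, n', ?_⟩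
    have h1 : g ^ n • n' = α m := by
      rw [← map_pow, Module.algebraMap_end_apply] at hn'
      exact hn'
    have h2 : g ^ n • (f ^ n • p - β n') = 0 := by
      rw [smul_sub, ← map_smul, h1, smul_smul, ← mul_pow, hm]
      simp
    exact sub_eq_zero.mp (injP n _ h2)
  · intro n hn
    obtain ⟨k, m, hm⟩ := IsLocalizedModule.Away.surj α g n
    have h1 : (β ∘ₗ α) m = 0 := by
      rw [LinearMap.comp_apply, ← hm, map_smul, hn, smul_zero]
    obtain ⟨j, hj⟩ := IsLocalizedModule.Away.exists_of_eq (f := β ∘ₗ α) (g * f)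
      (x := m) (y := 0) (by rw [h1, map_zero])
    rw [smul_zero] at hj
    refine ⟨j, ?_⟩
    apply injN (j + k)
    have : g ^ (j + k) • f ^ j • n = α ((g * f) ^ j • m) := by
      rw [map_smul, ← hm, smul_smul, smul_smul, mul_pow, pow_add]
      ring_nf
    rw [this, hj, map_zero]

lemma isLoc_of_subsingleton {A B : Type*} [AddCommGroup A] [Module R A] [AddCommGroup B]
    [Module R B] [Subsingleton A] [Subsingleton B] (f : R) (g : A →ₗ[R] B) :
    IsLocalizedModule.Away f g := by
  apply IsLocalizedModule.Away.mk_of_addCommGroup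
  · rw [Module.End.isUnit_iff]
    exact ⟨fun x y _ => Subsingleton.elim x y, fun y => ⟨0, Subsingleton.elim _ _⟩⟩
  · intro x
    exact ⟨0, 0, Subsingleton.elim _ _⟩
  · intro x _
    exact ⟨0, Subsingleton.elim _ _⟩

/-- the localisation (at `S`) of a localisation map (at `f`) is a localisation map (at `f`). -/
lemma isLoc_locMap (S : Submonoid R) (f : R) {A B : Type*} [AddCommGroup A] [Module R A]
    [AddCommGroup B] [Module R B] (g : A →ₗ[R] B) [hg : IsLocalizedModule.Away f g] :
    IsLocalizedModule.Away f (IsLocalizedModule.map S (LocalizedModule.mkLinearMap S A)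
      (LocalizedModule.mkLinearMap S B) g) := by
  have hu := IsLocalizedModule.Away.isUnit_algebraMap g f
  have hmap : ∀ (a : A) (s : S), (IsLocalizedModule.map S (LocalizedModule.mkLinearMap S A)
      (LocalizedModule.mkLinearMap S B) g) (LocalizedModule.mk a s) = LocalizedModule.mk (g a) s :=
    fun a s => IsLocalizedModule.map_LocalizedModules S g a s
  apply IsLocalizedModule.Away.mk_of_addCommGroup
  · rw [Module.End.isUnit_iff]
    obtain ⟨hi, hs⟩ := (Module.End.isUnit_iff _).mp hu
    constructor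
    · intro x y hxy
      induction x using LocalizedModule.induction_on with
      | h a s =>
        induction y using LocalizedModule.induction_on with
        | h b t =>
          simp only [Module.algebraMap_end_apply, LocalizedModule.smul'_mk] at hxy
          rw [LocalizedModule.mk_eq] at hxy ⊢
          obtain ⟨c, hc⟩ := hxy
          refine ⟨c, ?_⟩
          apply hi
          simp only [Module.algebraMap_end_apply]
          calc f • c • t • a = c • t • f • a := by
                rw [smul_comm f c, smul_comm f t]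
            _ = c • s • f • b := hc
            _ = f • c • s • b := by rw [smul_comm f c, smul_comm f s]
    · intro y
      induction y using LocalizedModule.induction_on with
      | h b t =>
        obtain ⟨b', hb'⟩ := hs b
        refine ⟨LocalizedModule.mk b' t, ?_⟩
        simp only [Module.algebraMap_end_apply] at hb' ⊢
        rw [LocalizedModule.smul'_mk, hb']
  · intro y
    induction y using LocalizedModule.induction_on with
    | h b t =>
      obtain ⟨n, a, ha⟩ := IsLocalizedModule.Away.surj g f b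
      refine ⟨n, LocalizedModule.mk a t, ?_⟩
      rw [hmap, LocalizedModule.smul'_mk, ha]
  · intro x hx
    induction x using LocalizedModule.induction_on with
    | h a s =>
      rw [hmap, ← LocalizedModule.zero_mk s, LocalizedModule.mk_eq] at hx
      obtain ⟨c, hc⟩ := hx
      rw [smul_zero, smul_zero] at hc
      have h1 : g ((c : R) • (s : R) • a) = 0 := by
        rw [map_smul, map_smul]
        exact hc
      obtain ⟨n, hn⟩ := IsLocalizedModule.Away.exists_of_eq (f := g) f
        (x := (c : R) • (s : R) • a) (y := 0) (by rw [h1, map_zero])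
      rw [smul_zero] at hn
      refine ⟨n, ?_⟩
      rw [LocalizedModule.smul'_mk, ← LocalizedModule.zero_mk s, LocalizedModule.mk_eq]
      refine ⟨c, ?_⟩
      rw [smul_zero, smul_zero]
      calc c • s • f ^ n • a = f ^ n • (c : R) • (s : R) • a := by
            rw [smul_comm (f ^ n) (c : R), smul_comm (f ^ n) (s : R)]
            rfl
        _ = 0 := hn

end IsLoc


variable {R : Type u} [CommRing R]

section Struct

/-- the terms of the extended Čech complex in negative degrees vanish -/
lemma subsingleton_X_neg (N : ModuleCat.{u} R) : ∀ (fs : List R) (i : ℤ), i < 0 →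
    Subsingleton ((DerCA.extCech N fs).X i)
  | [], i, hi => ModuleCat.subsingleton_of_isZero
      (HomologicalComplex.isZero_single_obj_X (ComplexShape.up ℤ) 0 N i (by omega))
  | f :: fs, i, hi => by
    have h1 := subsingleton_X_neg N fs i hi
    have h2 := subsingleton_X_neg N fs (i + -1) (by omega)
    have h3 : Subsingleton (((DerCA.locCx (Submonoid.powers f)).obj (DerCA.extCech N fs)).X (i + -1)) := by
      change Subsingleton (LocalizedModule (Submonoid.powers f) ((DerCA.extCech N fs).X (i + -1)))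
      infer_instance
    refine ⟨fun x y => ?_⟩
    exact cone_ext (DerCA.locCxUnit (Submonoid.powers f) (DerCA.extCech N fs)) (i + -1) i (by omega)
      (Subsingleton.elim _ _) (Subsingleton.elim _ _)

/-- the projection of the degree zero term onto the module -/
noncomputable def pi0 (N : ModuleCat.{u} R) (fs : List R) : (DerCA.extCech N fs).X 0 →ₗ[R] N :=
  (HomologicalComplex.singleObjXSelf (ComplexShape.up ℤ) 0 N).hom.hom ∘ₗ ((cechPi N fs).f 0).hom

lemma pi0_natural {N N' : ModuleCat.{u} R} (ρ : N ⟶ N') (fs : List R) (x : (DerCA.extCech N fs).X 0) :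
    pi0 N' fs (((cechMap ρ fs).f 0).hom x) = ρ.hom (pi0 N fs x) := by
  have h := congrArg (fun φ => (φ.f 0).hom x) (cechMap_cechPi ρ fs)
  simp only [HomologicalComplex.comp_f, ModuleCat.hom_comp, LinearMap.comp_apply,
    HomologicalComplex.single_map_f_self] at h
  unfold pi0
  rw [LinearMap.comp_apply, h, LinearMap.comp_apply]
  have := congrArg (fun φ => φ.hom (ρ.hom ((HomologicalComplex.singleObjXSelf (ComplexShape.up ℤ) 0 N).hom.hom
    (((cechPi N fs).f 0).hom x))))
    (HomologicalComplex.singleObjXSelf (ComplexShape.up ℤ) 0 N').inv_hom_id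
  simpa using this

lemma pi0_cons (N : ModuleCat.{u} R) (f : R) (fs : List R) (x : (DerCA.extCech N (f :: fs)).X 0) :
    pi0 N (f :: fs) x = pi0 N fs
      (cfst (DerCA.locCxUnit (Submonoid.powers f) (DerCA.extCech N fs)) (0 + -1) 0 (by omega) x) := by
  unfold pi0
  rw [LinearMap.comp_apply, LinearMap.comp_apply]
  congr 1
  change ((mappingCocone.fst (DerCA.locCxUnit (Submonoid.powers f) (DerCA.extCech N fs)) ≫
    cechPi N fs).f 0).hom x = _
  rw [HomologicalComplex.comp_f, cocone_fst_f]
  rfl

lemma pi0_bijective (N : ModuleCat.{u} R) : ∀ fs : List R, Function.Bijective (pi0 N fs)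
  | [] => by
    have : pi0 N [] = (HomologicalComplex.singleObjXSelf (ComplexShape.up ℤ) 0 N).hom.hom := by
      unfold pi0
      change _ ∘ₗ (𝟙 (((HomologicalComplex.single (ModuleCat.{u} R) (ComplexShape.up ℤ) 0).obj N).X 0) :
        _ ⟶ _).hom = _
      rw [ModuleCat.hom_id, LinearMap.comp_id]
    rw [this]
    exact ConcreteCategory.bijective_of_isIso
      (HomologicalComplex.singleObjXSelf (ComplexShape.up ℤ) 0 N).hom
  | f :: fs => by
    have ih := pi0_bijective N fs
    have hs : Subsingleton (((DerCA.locCx (Submonoid.powers f)).obj (DerCA.extCech N fs)).X (0 + -1)) := by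
      have := subsingleton_X_neg N fs (0 + -1) (by omega)
      change Subsingleton (LocalizedModule (Submonoid.powers f) ((DerCA.extCech N fs).X (0 + -1)))
      infer_instance
    constructor
    · intro x y hxy
      rw [pi0_cons, pi0_cons] at hxy
      exact cone_ext _ (0 + -1) 0 (by omega) (ih.1 hxy) (Subsingleton.elim _ _)
    · intro n
      obtain ⟨y, hy⟩ := ih.2 n
      refine ⟨cinl (DerCA.locCxUnit (Submonoid.powers f) (DerCA.extCech N fs)) (0 + -1) 0 (by omega) y, ?_⟩
      rw [pi0_cons, cfst_cinl, hy]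

end Struct

section Funct

lemma coconeMap_congr {K₁ L₁ K₂ L₂ : DRing.Cx R} (φ₁ : K₁ ⟶ L₁) (φ₂ : K₂ ⟶ L₂) {a a' : K₁ ⟶ K₂}
    {b b' : L₁ ⟶ L₂} (comm : φ₁ ≫ b = a ≫ φ₂) (ha : a = a') (hb : b = b') :
    coconeMap φ₁ φ₂ a b comm = coconeMap φ₁ φ₂ a' b' (by rw [← ha, ← hb]; exact comm) := by
  subst ha hb
  rfl

lemma cechMap_id (N : ModuleCat.{u} R) : ∀ fs : List R, cechMap (𝟙 N) fs = 𝟙 _
  | [] => CategoryTheory.Functor.map_id _ _
  | f :: fs => by
    change coconeMap _ _ (cechMap (𝟙 N) fs) ((DerCA.locCx (Submonoid.powers f)).map (cechMap (𝟙 N) fs)) _ = _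
    rw [coconeMap_congr _ _ _ (cechMap_id N fs)
      (by rw [cechMap_id N fs, CategoryTheory.Functor.map_id])]
    exact coconeMap_id _

lemma cechMap_comp {N₁ N₂ N₃ : ModuleCat.{u} R} (ρ : N₁ ⟶ N₂) (σ : N₂ ⟶ N₃) : ∀ fs : List R,
    cechMap (ρ ≫ σ) fs = cechMap ρ fs ≫ cechMap σ fs
  | [] => CategoryTheory.Functor.map_comp _ _ _
  | f :: fs => by
    change coconeMap _ _ (cechMap (ρ ≫ σ) fs)
      ((DerCA.locCx (Submonoid.powers f)).map (cechMap (ρ ≫ σ) fs)) _ =
      coconeMap _ _ (cechMap ρ fs) ((DerCA.locCx (Submonoid.powers f)).map (cechMap ρ fs)) _ ≫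
      coconeMap _ _ (cechMap σ fs) ((DerCA.locCx (Submonoid.powers f)).map (cechMap σ fs)) _
    rw [← coconeMap_comp]
    exact coconeMap_congr _ _ _ (cechMap_comp ρ σ fs)
      (by rw [cechMap_comp ρ σ fs, CategoryTheory.Functor.map_comp])

/-- the cone, elementwise, is a product -/
noncomputable def coneEquiv {F G : CochainComplex (ModuleCat.{u} R) ℤ} (φ : F ⟶ G) (p q : ℤ)
    (h : p + 1 = q) : (mappingCone φ).X p ≃ₗ[R] (F.X q × G.X p) where
  toFun x := (cfst φ p q h x, csnd φ p x)
  map_add' x y := by simp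
  map_smul' r x := by simp
  invFun y := cinl φ p q h y.1 + cinr φ p y.2
  left_inv x := decomp φ p q h x
  right_inv y := by
    ext
    · simp [cfst_cinl, cfst_cinr]
    · simp [csnd_cinl, csnd_cinr]

lemma map_f_eq' {F G F₂ G₂ : CochainComplex (ModuleCat.{u} R) ℤ} (φ : F ⟶ G) (φ₂ : F₂ ⟶ G₂)
    (a : F ⟶ F₂) (b : G ⟶ G₂) (comm : φ ≫ b = a ≫ φ₂) (p q : ℤ) (h : p + 1 = q) :
    ((mappingCone.map φ φ₂ a b comm).f p).hom =
      (coneEquiv φ₂ p q h).symm.toLinearMap ∘ₗ (LinearMap.prodMap (a.f q).hom (b.f p).hom) ∘ₗ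
        (coneEquiv φ p q h).toLinearMap := by
  ext x
  exact map_f_eq φ φ₂ a b comm p q h x

theorem isLoc_cechMap {N N' : ModuleCat.{u} R} (ρ : N ⟶ N') (f : R)
    [hρ : IsLocalizedModule.Away f ρ.hom] : ∀ (fs : List R) (i : ℤ),
    IsLocalizedModule.Away f ((cechMap ρ fs).f i).hom
  | [], i => by
    by_cases hi : i = 0
    · subst hi
      change IsLocalizedModule.Away f
        (((HomologicalComplex.single (ModuleCat.{u} R) (ComplexShape.up ℤ) 0).map ρ).f 0).hom
      rw [HomologicalComplex.single_map_f_self, ModuleCat.hom_comp, ModuleCat.hom_comp]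
      have h1 : IsLocalizedModule.Away f
          ((HomologicalComplex.singleObjXSelf (ComplexShape.up ℤ) 0 N').inv.hom ∘ₗ ρ.hom) :=
        IsLocalizedModule.of_linearEquiv (Submonoid.powers f) ρ.hom
          (HomologicalComplex.singleObjXSelf (ComplexShape.up ℤ) 0 N').symm.toLinearEquiv
      exact IsLocalizedModule.of_linearEquiv_right (Submonoid.powers f) _
        (HomologicalComplex.singleObjXSelf (ComplexShape.up ℤ) 0 N).toLinearEquiv
    · have h1 : Subsingleton ((DerCA.extCech N []).X i) := ModuleCat.subsingleton_of_isZero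
        (HomologicalComplex.isZero_single_obj_X (ComplexShape.up ℤ) 0 N i hi)
      have h2 : Subsingleton ((DerCA.extCech N' []).X i) := ModuleCat.subsingleton_of_isZero
        (HomologicalComplex.isZero_single_obj_X (ComplexShape.up ℤ) 0 N' i hi)
      exact isLoc_of_subsingleton f _
  | g :: fs, i => by
    have ih1 := isLoc_cechMap ρ f fs i
    have ih2 := isLoc_cechMap ρ f fs (i + -1)
    change IsLocalizedModule.Away f ((mappingCone.map
      (DerCA.locCxUnit (Submonoid.powers g) (DerCA.extCech N fs))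
      (DerCA.locCxUnit (Submonoid.powers g) (DerCA.extCech N' fs)) (cechMap ρ fs)
      ((DerCA.locCx (Submonoid.powers g)).map (cechMap ρ fs)) (locCxUnit_naturality _ _)).f (i + -1)).hom
    rw [map_f_eq' _ _ _ _ _ (i + -1) i (by omega)]
    have h3 : IsLocalizedModule.Away f
        (((DerCA.locCx (Submonoid.powers g)).map (cechMap ρ fs)).f (i + -1)).hom := by
      change IsLocalizedModule.Away f (IsLocalizedModule.map (Submonoid.powers g)
        (LocalizedModule.mkLinearMap (Submonoid.powers g) ((DerCA.extCech N fs).X (i + -1)))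
        (LocalizedModule.mkLinearMap (Submonoid.powers g) ((DerCA.extCech N' fs).X (i + -1)))
        ((cechMap ρ fs).f (i + -1)).hom)
      exact isLoc_locMap _ f _
    have h4 : IsLocalizedModule.Away f (LinearMap.prodMap ((cechMap ρ fs).f i).hom
        (((DerCA.locCx (Submonoid.powers g)).map (cechMap ρ fs)).f (i + -1)).hom) :=
      IsLocalizedModule.prodMap (Submonoid.powers f) _ _
    have h5 := IsLocalizedModule.of_linearEquiv_right (Submonoid.powers f)
      (LinearMap.prodMap ((cechMap ρ fs).f i).hom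
        (((DerCA.locCx (Submonoid.powers g)).map (cechMap ρ fs)).f (i + -1)).hom)
      (coneEquiv (DerCA.locCxUnit (Submonoid.powers g) (DerCA.extCech N fs)) (i + -1) i (by omega))
    exact IsLocalizedModule.of_linearEquiv (Submonoid.powers f) _
      (coneEquiv (DerCA.locCxUnit (Submonoid.powers g) (DerCA.extCech N' fs)) (i + -1) i (by omega)).symm

end Funct

section CoconeLow

variable {F G : CochainComplex (ModuleCat.{u} R) ℤ} (φ : F ⟶ G)

lemma cocone_d12_fst (x : (mappingCocone φ).X 1) :
    cfst φ (2 + -1) 2 (by omega) (((mappingCocone φ).d 1 2).hom x) =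
      (F.d 1 2).hom (cfst φ (1 + -1) 1 (by omega) x) := by
  rw [cocone_d, map_neg, cfst_d φ (1 + -1) (2 + -1) 2 (by omega) (by omega), neg_neg]
  rfl

lemma cocone_d12_snd (x : (mappingCocone φ).X 1) :
    csnd φ (2 + -1) (((mappingCocone φ).d 1 2).hom x) =
      -((φ.f 1).hom (cfst φ (1 + -1) 1 (by omega) x) + (G.d 0 1).hom (csnd φ (1 + -1) x)) := by
  rw [cocone_d, map_neg, csnd_d φ (1 + -1) (2 + -1) (by omega)]
  rfl

lemma cocone_d01_fst (x : (mappingCocone φ).X 0) :
    cfst φ (1 + -1) 1 (by omega) (((mappingCocone φ).d 0 1).hom x) =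
      (F.d 0 1).hom (cfst φ (0 + -1) 0 (by omega) x) := by
  rw [cocone_d, map_neg, cfst_d φ (0 + -1) (1 + -1) 1 (by omega) (by omega), neg_neg]
  rfl

lemma cocone_d01_snd (x : (mappingCocone φ).X 0) :
    csnd φ (1 + -1) (((mappingCocone φ).d 0 1).hom x) =
      -((φ.f 0).hom (cfst φ (0 + -1) 0 (by omega) x) + (G.d (-1) 0).hom (csnd φ (0 + -1) x)) := by
  rw [cocone_d, map_neg, csnd_d φ (0 + -1) (1 + -1) (by omega)]
  rfl

lemma cocone_cocycle_iff (x : (mappingCocone φ).X 1) :
    ((mappingCocone φ).d 1 2).hom x = 0 ↔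
      (F.d 1 2).hom (cfst φ (1 + -1) 1 (by omega) x) = 0 ∧
      (φ.f 1).hom (cfst φ (1 + -1) 1 (by omega) x) + (G.d 0 1).hom (csnd φ (1 + -1) x) = 0 := by
  constructor
  · intro h
    have h1 := cocone_d12_fst φ x
    have h2 := cocone_d12_snd φ x
    rw [h] at h1 h2
    have z1 : cfst φ (2 + -1) 2 (by omega) (0 : (mappingCone φ).X (2 + -1)) = 0 := map_zero _
    have z2 : csnd φ (2 + -1) (0 : (mappingCone φ).X (2 + -1)) = 0 := map_zero _
    exact ⟨h1.symm.trans z1, neg_eq_zero.mp (h2.symm.trans z2)⟩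
  · rintro ⟨h1, h2⟩
    have z1 : cfst φ (2 + -1) 2 (by omega) (0 : (mappingCone φ).X (2 + -1)) = 0 := map_zero _
    have z2 : csnd φ (2 + -1) (0 : (mappingCone φ).X (2 + -1)) = 0 := map_zero _
    apply cone_ext φ (2 + -1) 2 (by omega)
    · rw [cocone_d12_fst, h1]; exact z1.symm
    · rw [cocone_d12_snd, h2, neg_zero]; exact z2.symm

end CoconeLow

section Kappa

lemma locCx_hom_ext (S : Submonoid R) (K : DRing.Cx R) (i : ℤ) {Y : ModuleCat.{u} R}
    (hY : ∀ s : S, IsUnit ((algebraMap R (Module.End R Y)) s))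
    (u v : ((DerCA.locCx S).obj K).X i ⟶ Y)
    (h : (DerCA.locCxUnit S K).f i ≫ u = (DerCA.locCxUnit S K).f i ≫ v) : u = v :=
  loc_hom_ext S hY u v h

variable {N N' : ModuleCat.{u} R} (ρ : N ⟶ N') (f : R) (hρ : IsLocalizedModule.Away f ρ.hom)

/-- the comparison `(Č(N)^i)_f ≅ Č(N')^i` for a localisation `N → N'` at `f` -/
noncomputable def kappaX (fs : List R) (i : ℤ) :
    ((DerCA.locCx (Submonoid.powers f)).obj (DerCA.extCech N fs)).X i ≅ (DerCA.extCech N' fs).X i :=
  haveI := isLoc_cechMap ρ f fs i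
  (IsLocalizedModule.iso (Submonoid.powers f) ((cechMap ρ fs).f i).hom).toModuleIso

lemma unit_kappaX (fs : List R) (i : ℤ) :
    (DerCA.locCxUnit (Submonoid.powers f) (DerCA.extCech N fs)).f i ≫ (kappaX ρ f hρ fs i).hom =
      (cechMap ρ fs).f i := by
  have := isLoc_cechMap ρ f fs i
  ext x
  change (IsLocalizedModule.iso (Submonoid.powers f) ((cechMap ρ fs).f i).hom)
      (LocalizedModule.mkLinearMap (Submonoid.powers f) ((DerCA.extCech N fs).X i) x) = _
  rw [LocalizedModule.mkLinearMap_apply, ← IsLocalizedModule.iso_symm_apply (Submonoid.powers f)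
    ((cechMap ρ fs).f i).hom x, LinearEquiv.apply_symm_apply]

include hρ in
lemma units_X (fs : List R) (i : ℤ) (s : Submonoid.powers f) :
    IsUnit ((algebraMap R (Module.End R ((DerCA.extCech N' fs).X i))) s) :=
  haveI := isLoc_cechMap ρ f fs i
  IsLocalizedModule.map_units ((cechMap ρ fs).f i).hom s

/-- `κ : Č(N)_f ≅ Č(N')` as an isomorphism of complexes -/
noncomputable def kappa (fs : List R) :
    (DerCA.locCx (Submonoid.powers f)).obj (DerCA.extCech N fs) ≅ DerCA.extCech N' fs :=
  HomologicalComplex.Hom.isoOfComponents (fun i => kappaX ρ f hρ fs i) (by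
    intro i j _
    apply locCx_hom_ext (Submonoid.powers f) _ i (units_X ρ f hρ fs j)
    rw [← Category.assoc, unit_kappaX, ← Category.assoc,
      (DerCA.locCxUnit (Submonoid.powers f) (DerCA.extCech N fs)).comm i j, Category.assoc,
      unit_kappaX]
    exact (cechMap ρ fs).comm i j)

lemma kappa_hom_f (fs : List R) (i : ℤ) :
    (kappa ρ f hρ fs).hom.f i = (kappaX ρ f hρ fs i).hom := rfl

lemma unit_kappa (fs : List R) :
    DerCA.locCxUnit (Submonoid.powers f) (DerCA.extCech N fs) ≫ (kappa ρ f hρ fs).hom =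
      cechMap ρ fs := by
  ext i : 1
  exact unit_kappaX ρ f hρ fs i

/-- `Φ : Č(N, f :: fs) ≅ cocone (Č(N, fs) → Č(N', fs))` -/
noncomputable def Phi (fs : List R) :
    mappingCocone (DerCA.locCxUnit (Submonoid.powers f) (DerCA.extCech N fs)) ≅
      mappingCocone (cechMap ρ fs) :=
  coconeIso (DerCA.locCxUnit (Submonoid.powers f) (DerCA.extCech N fs)) (cechMap ρ fs)
    (Iso.refl _) (kappa ρ f hρ fs) (by rw [unit_kappa, Iso.refl_hom, Category.id_comp])

lemma Phi_hom (fs : List R) : (Phi ρ f hρ fs).hom =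
    coconeMap (DerCA.locCxUnit (Submonoid.powers f) (DerCA.extCech N fs)) (cechMap ρ fs)
      (𝟙 _) (kappa ρ f hρ fs).hom (by rw [unit_kappa, Category.id_comp]) := rfl

lemma Phi_fst (fs : List R) :
    (Phi ρ f hρ fs).hom ≫ mappingCocone.fst (cechMap ρ fs) =
      (mappingCocone.fst (DerCA.locCxUnit (Submonoid.powers f) (DerCA.extCech N fs)) :
        mappingCocone (DerCA.locCxUnit (Submonoid.powers f) (DerCA.extCech N fs)) ⟶ _) := by
  rw [Phi_hom, cocone_map_fst, Category.comp_id]

end Kappa

section KappaNat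

variable {N N' N₂ N₂' : ModuleCat.{u} R} (ρ : N ⟶ N') (ρ₂ : N₂ ⟶ N₂') (a : N ⟶ N₂) (a' : N' ⟶ N₂')
  (sq : ρ ≫ a' = a ≫ ρ₂) (f : R) (hρ : IsLocalizedModule.Away f ρ.hom)
  (hρ₂ : IsLocalizedModule.Away f ρ₂.hom)

include sq in
lemma kappa_natural (fs : List R) :
    (DerCA.locCx (Submonoid.powers f)).map (cechMap a fs) ≫ (kappa ρ₂ f hρ₂ fs).hom =
      (kappa ρ f hρ fs).hom ≫ cechMap a' fs := by
  ext i : 1
  apply locCx_hom_ext (Submonoid.powers f) _ i (units_X ρ₂ f hρ₂ fs i)
  rw [HomologicalComplex.comp_f, HomologicalComplex.comp_f, kappa_hom_f, kappa_hom_f]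
  have h1 : (DerCA.locCxUnit (Submonoid.powers f) (DerCA.extCech N fs)).f i ≫
      ((DerCA.locCx (Submonoid.powers f)).map (cechMap a fs)).f i =
      (cechMap a fs).f i ≫ (DerCA.locCxUnit (Submonoid.powers f) (DerCA.extCech N₂ fs)).f i := by
    rw [← HomologicalComplex.comp_f, ← HomologicalComplex.comp_f, locCxUnit_naturality]
  rw [← Category.assoc, h1, Category.assoc, unit_kappaX, ← Category.assoc, unit_kappaX,
    ← HomologicalComplex.comp_f, ← HomologicalComplex.comp_f, ← cechMap_comp, ← cechMap_comp, sq]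

include sq in
lemma Phi_natural (fs : List R) :
    coconeMap (DerCA.locCxUnit (Submonoid.powers f) (DerCA.extCech N fs))
      (DerCA.locCxUnit (Submonoid.powers f) (DerCA.extCech N₂ fs)) (cechMap a fs)
      ((DerCA.locCx (Submonoid.powers f)).map (cechMap a fs)) (locCxUnit_naturality _ _) ≫
      (Phi ρ₂ f hρ₂ fs).hom =
      (Phi ρ f hρ fs).hom ≫ coconeMap (cechMap ρ fs) (cechMap ρ₂ fs) (cechMap a fs) (cechMap a' fs)
        (by rw [← cechMap_comp, ← cechMap_comp, sq]) := by
  rw [Phi_hom, Phi_hom, ← coconeMap_comp, ← coconeMap_comp]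
  exact coconeMap_congr _ _ _ ((Category.comp_id _).trans (Category.id_comp _).symm)
    (kappa_natural ρ ρ₂ a a' sq f hρ hρ₂ fs)

end KappaNat

end Groth.Agent.Lib.Helper98.CechGlueAlg
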