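import Groth.Agent.Lib.Helper98.DimShift

/-!
# helper98: scalar-equivariant version of `DimShift`

An `ETheory fs` is a `DimShift.Theory` together with an action `sm k N r : H k N →+ H k N` of the scalars
such that the isomorphisms of the theory (`shift`, `quot`, `zero`) commute with the actions.
`compareE` : two such theories agree in all degrees through isomorphisms commuting with the scalar actions.
-/

set_option autoImplicit false
universe u
open CategoryTheory

namespace Groth.Agent.Lib.Helper98.DimShiftEq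

open Groth.Agent.Lib.Helper98.DimShift Groth.Agent.Lib.Helper47.ExtCech Groth.Agent.S17776

variable {R : Type u} [CommRing R]

/-- an additive isomorphism commuting with given families of endomorphisms -/
def EIso {α β : Type u} [AddCommGroup α] [AddCommGroup β] (sα : R → α →+ α) (sβ : R → β →+ β) : Prop :=
  ∃ e : α ≃+ β, ∀ r x, e (sα r x) = sβ r (e x)

theorem EIso.trans {α β γ : Type u} [AddCommGroup α] [AddCommGroup β] [AddCommGroup γ]
    {sα : R → α →+ α} {sβ : R → β →+ β} {sγ : R → γ →+ γ} (h1 : EIso sα sβ) (h2 : EIso sβ sγ) :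
    EIso sα sγ := by
  obtain ⟨e1, h1⟩ := h1
  obtain ⟨e2, h2⟩ := h2
  refine ⟨e1.trans e2, fun r x => ?_⟩
  rw [AddEquiv.trans_apply, h1, h2]
  rfl

theorem EIso.symm {α β : Type u} [AddCommGroup α] [AddCommGroup β]
    {sα : R → α →+ α} {sβ : R → β →+ β} (h : EIso sα sβ) : EIso sβ sα := by
  obtain ⟨e, h⟩ := h
  refine ⟨e.symm, fun r y => ?_⟩
  apply e.injective
  rw [h, AddEquiv.apply_symm_apply, AddEquiv.apply_symm_apply]

/-- the scalar action on a module, as additive endomorphisms -/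
noncomputable def smulHom (N : Type u) [AddCommGroup N] [Module R N] : R → N →+ N :=
  fun r => DistribSMul.toAddMonoidHom N r

@[simp] lemma smulHom_apply (N : Type u) [AddCommGroup N] [Module R N] (r : R) (x : N) :
    smulHom N r x = r • x := rfl

structure ETheory (fs : List R) where
  H : ℕ → ModuleCat.{u} R → Type u
  grp : ∀ k N, AddCommGroup (H k N)
  sm : ∀ k N, R → H k N →+ H k N
  mid : ∀ {N₁ N₂ N₃ : ModuleCat.{u} R} (a : N₁ ⟶ N₂) (b : N₂ ⟶ N₃), SES a b → ∀ k,
    Subsingleton (H k N₁) → Subsingleton (H k N₃) → Subsingleton (H k N₂)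
  shift : ∀ {N₁ N₂ N₃ : ModuleCat.{u} R} (a : N₁ ⟶ N₂) (b : N₂ ⟶ N₃), SES a b →
    (∀ k, Subsingleton (H k N₂)) → ∀ k, EIso (sm (k + 1) N₁) (sm k N₃)
  quot : ∀ {N₁ N₂ N₃ : ModuleCat.{u} R} (a : N₁ ⟶ N₂) (b : N₂ ⟶ N₃), SES a b →
    (∀ k, 1 ≤ k → Subsingleton (H k N₁)) → ∀ k, 1 ≤ k → EIso (sm k N₂) (sm k N₃)
  vanish_bij : ∀ (N : ModuleCat.{u} R) (f : R), f ∈ fs → ActsBij f N → ∀ k, Subsingleton (H k N)
  vanish_tors : ∀ (N : ModuleCat.{u} R), (∀ n : N, n ∈ T fs N) → ∀ k, 1 ≤ k → Subsingleton (H k N)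
  zero : ∀ (N : ModuleCat.{u} R), EIso (sm 0 N) (smulHom (R := R) (T fs N))

attribute [instance] ETheory.grp

variable {fs : List R}

/-- forget the scalar actions -/
def ETheory.toTheory (Th : ETheory fs) : Theory fs where
  H := Th.H
  grp := Th.grp
  mid := Th.mid
  shift a b h h2 k := by
    obtain ⟨e, _⟩ := Th.shift a b h h2 k
    exact ⟨e⟩
  quot a b h h1 k hk := by
    obtain ⟨e, _⟩ := Th.quot a b h h1 k hk
    exact ⟨e⟩
  vanish_bij := Th.vanish_bij
  vanish_tors := Th.vanish_tors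
  zero N := by
    obtain ⟨e, _⟩ := Th.zero N
    exact ⟨e⟩

theorem stepE (Th : ETheory fs) (N : ModuleCat.{u} R) (k : ℕ) :
    EIso (Th.sm (k + 1) N) (Th.sm k (Qm fs N)) := by
  have e1 := Th.quot (tIncl fs N) (tQuot fs N) (ses_tors fs N)
    (fun j hj => Th.vanish_tors _ (all_tors fs N) j hj) (k + 1) (by omega)
  have e2 := Th.shift (jE fs (Nq fs N)) (qE fs N) (ses_E fs N)
    (fun j => vanish_E Th.toTheory (Nq fs N) fs (fun _ h => h) j) k
  exact e1.trans e2

theorem compareE (A B : ETheory fs) : ∀ (k : ℕ) (N : ModuleCat.{u} R),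
    EIso (A.sm k N) (B.sm k N)
  | 0, N => (A.zero N).trans (B.zero N).symm
  | k + 1, N => ((stepE A N k).trans (compareE A B k (Qm fs N))).trans (stepE B N k).symm

end Groth.Agent.Lib.Helper98.DimShiftEq
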