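import Groth.Agent.Lib.Helper98.ExtCechTheory
import Groth.Agent.Lib.Helper98.DimShiftEq

/-!
# helper98: the cohomology of the extended alternating Čech complex as a `DimShiftEq.ETheory`
(the scalar action is the module structure of the homology)
-/

set_option autoImplicit false
universe u
open CategoryTheory CategoryTheory.Limits

namespace Groth.Agent.Lib.Helper98.ExtCechTheoryEq

open Groth.Agent.Lib.Helper98.DimShift Groth.Agent.Lib.Helper98.DimShiftEq
open Groth.Agent.Lib.Helper98.AugAb Groth.Agent.Lib.Helper98.ExtCechTheory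
open Groth.Agent.Lib.Helper47.ExtCech Helper98.CechFun Helper98.KoszulFun Groth.Agent.S17776

variable {R : Type u} [CommRing R]

lemma eIso_of_linearEquiv {α β : Type u} [AddCommGroup α] [AddCommGroup β] [Module R α] [Module R β]
    (e : α ≃ₗ[R] β) : EIso (smulHom (R := R) α) (smulHom (R := R) β) :=
  ⟨e.toAddEquiv, fun r x => e.map_smul r x⟩

variable (fs : List R)

/-- the cohomology of the extended Čech complex as an equivariant theory -/
noncomputable def theoryBE : ETheory fs where
  H k N := ((DerCA.extCech N fs).homology (k : ℤ) : ModuleCat.{u} R)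
  grp k N := inferInstance
  sm k N := smulHom (R := R) ((DerCA.extCech N fs).homology (k : ℤ) : ModuleCat.{u} R)
  mid := (theoryB fs).mid
  shift a b h h2 k := by
    have hS := shortExact_cech fs a b h
    have e := hS.δIso (k : ℤ) ((k + 1 : ℕ) : ℤ) (by simp)
      (ModuleCat.isZero_iff_subsingleton.mpr (h2 k))
      (ModuleCat.isZero_iff_subsingleton.mpr (h2 (k + 1)))
    exact eIso_of_linearEquiv e.symm.toLinearEquiv
  quot a b h h1 k hk := by
    have hS := shortExact_cech fs a b h
    have := isIso_homologyMap_g hS (k : ℤ) ((k + 1 : ℕ) : ℤ) (by simp)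
      (ModuleCat.isZero_iff_subsingleton.mpr (h1 k hk))
      (ModuleCat.isZero_iff_subsingleton.mpr (h1 (k + 1) (by omega)))
    exact eIso_of_linearEquiv
      (asIso (HomologicalComplex.homologyMap (cechMap b fs) (k : ℤ))).toLinearEquiv
  vanish_bij := (theoryB fs).vanish_bij
  vanish_tors := (theoryB fs).vanish_tors
  zero N := by
    obtain ⟨hi, hr⟩ := iotaHom_spec N fs
    exact eIso_of_linearEquiv ((LinearEquiv.ofInjective (iotaHom N fs).hom hi).trans
      (LinearEquiv.ofEq _ _ hr))

end Groth.Agent.Lib.Helper98.ExtCechTheoryEq
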