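import Groth.Agent.Lib.Helper98.CechTheoryEq
import Groth.Agent.Lib.Helper98.ExtCechTheoryEq
import Groth.Agent.Lib.Helper98.LerayNatSch
import Groth.Agent.S2439

/-!
# helper98: `H^{q+1}(X, F)` vs the extended Čech complex of `Γ(X, F)`, compatibly with global functions

For `X` quasi-compact separated, `fs` global functions with `X_{f_i}` affine covering `X`, `F` quasi-coherent:
an additive isomorphism `H^{q+1}(X, F) ≃+ H^{q+2}(extCech Γ(X,F) fs)` commuting with the action of `Γ(X, O_X)`.
-/

set_option autoImplicit false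
universe u
open AlgebraicGeometry CategoryTheory CategoryTheory.Limits Opposite TopologicalSpace

namespace Groth.Agent.Lib.Helper98.CechHHLin

open Groth.Agent.Lib.Helper98.DimShift Groth.Agent.Lib.Helper98.DimShiftEq
open Groth.Agent.Lib.Helper98.AugAb
open Groth.Agent.Lib.Helper98.CechGen Groth.Agent.Lib.Helper98.LocPresheaf
open Groth.Agent.Lib.Helper98.CechGlueGeo Groth.Agent.Lib.Helper26.CechLES
open Groth.Agent.Lib.Helper98.LocLE Groth.Agent.Lib.Helper98.LocToF
open Groth.Agent.Lib.Helper98.CechTheory Groth.Agent.Lib.Helper98.CechTheoryEq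
open Groth.Agent.Lib.Helper98.ExtCechTheoryEq Groth.Agent.Lib.Helper98.LerayNatSch
open Groth.Agent.Lib.Helper98.LerayNat

variable {X : Scheme.{u}} (fs : List Γ(X, ⊤)) (F : X.Modules)

lemma lmap_sc (V : X.Opens) (r : Γ(X, ⊤)) (N : ModuleCat.{u} Γ(X, ⊤))
    (x : LocalizedModule (SV V) N) : lmap (SV V) (sc r N).hom x = r • x := by
  induction x using LocalizedModule.induction_on with
  | h n s =>
    rw [lmap_mk]
    exact (LocalizedModule.smul'_mk r n s).symm

/-- a global function, as an element of `Coh.Γtop X` -/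
def gt (r : Γ(X, ⊤)) : Coh.Γtop X := r

/-- the comparison `S_V⁻¹ Γ(X, F) → Γ(V, F)` intertwines the scalar actions -/
lemma toF_smul (r : Γ(X, ⊤)) :
    PNmap (sc r (PW F ⊤)) ≫ toF F = toF F ≫ (Coh.smulAb F (gt r)).hom := by
  ext V x
  change toFLin F V.unop (lmap (SV V.unop) (sc r (PW F ⊤)).hom x) =
    (Coh.smulAb F (gt r)).hom.app V (toFLin F V.unop x)
  rw [lmap_sc, map_smul]
  rfl

/-- `toF` with codomain the presheaf underlying `Coh.toAb F` -/
noncomputable def toF' : PN (PW F ⊤) ⟶ (Coh.toAb F).obj := toF F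

lemma toF'_smul (r : Γ(X, ⊤)) :
    PNmap (sc r (PW F ⊤)) ≫ toF' F = toF' F ≫ (Coh.smulAb F (gt r)).hom := toF_smul F r

/-- the action of a global function on `H^n(X, F)` -/
noncomputable def sHH (n : ℕ) (r : Γ(X, ⊤)) : Coh.HH X F n →+ Coh.HH X F n :=
  DistribSMul.toAddMonoidHom (Coh.HH X F n) (gt r)

lemma sHH_apply (n : ℕ) (r : Γ(X, ⊤)) (x : Coh.HH X F n) :
    sHH F n r x = gt r • x := rfl

section Main

variable [CompactSpace X] [X.IsSeparated] [hF : F.IsQuasicoherent]

include hF in
theorem main (haff : ∀ i : Fin fs.length, IsAffineOpen (X.basicOpen (fs.get i)))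
    (hsup : iSup (UU fs) = ⊤) (q : ℕ) :
    EIso (sHH F (q + 1))
      (smulHom (R := Γ(X, ⊤))
        ((DerCA.extCech (PW F ⊤) fs).homology ((q + 2 : ℕ) : ℤ) : ModuleCat.{u} Γ(X, ⊤))) := by
  have hU : ∀ (n : ℕ) (a : Fin (n + 1) → ULift.{u} (Fin fs.length)),
      IsAffineOpen (iInf fun k => UU fs (a k)) :=
    fun n a => Groth.Agent.S2439.isAffineOpen_iInf fs haff n a
  -- (a) comparison of theories
  have hA := compareE (theoryAE fs) (theoryBE fs) (q + 2) (PW F ⊤)
  -- (b) augmented vs non augmented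
  have hB : EIso (smA fs (q + 2) (PW F ⊤))
      (fun r => (HomologicalComplex.homologyMap (CNmap fs (sc r (PW F ⊤))) (q + 1)).hom) := by
    refine ⟨(homologyIso (CN fs (PW F ⊤)) (εN fs (PW F ⊤))
      (εN_d fs (PW F ⊤)) q).addCommGroupIsoToAddEquiv, fun r x => ?_⟩
    have h := homologyIso_naturality (w := εN_d fs (PW F ⊤)) (w' := εN_d fs (PW F ⊤))
      (CNmap fs (sc r (PW F ⊤))) (gAb (sc r (PW F ⊤))) (εN_comm fs (sc r (PW F ⊤))) q
    have h' := ConcreteCategory.congr_hom h x
    rw [ConcreteCategory.comp_apply, ConcreteCategory.comp_apply] at h'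
    exact h'
  -- (c) the localisation presheaf vs `F`
  have hiso : IsIso ((cechComplexFunctor (UU fs)).map (toF' F)) := by
    apply isIso_cechMap
    intro n x
    exact isIso_toF_app F (hx fs x) _ (piObj_eq fs x)
  have hC : EIso (fun r => (HomologicalComplex.homologyMap (CNmap fs (sc r (PW F ⊤))) (q + 1)).hom)
      (fun r => cmap (X := X.toTopCat) (UU fs) (Coh.smulAb F (gt r)) (q + 1)) := by
    refine ⟨((HomologicalComplex.homologyFunctor _ _ (q + 1)).mapIso
      (asIso ((cechComplexFunctor (UU fs)).map (toF' F)))).addCommGroupIsoToAddEquiv, fun r x => ?_⟩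
    change HomologicalComplex.homologyMap ((cechComplexFunctor (UU fs)).map (toF' F)) (q + 1)
      (HomologicalComplex.homologyMap (CNmap fs (sc r (PW F ⊤))) (q + 1) x) =
      HomologicalComplex.homologyMap ((cechComplexFunctor (UU fs)).map (Coh.smulAb F (gt r)).hom) (q + 1)
        (HomologicalComplex.homologyMap ((cechComplexFunctor (UU fs)).map (toF' F)) (q + 1) x)
    rw [← ConcreteCategory.comp_apply, ← ConcreteCategory.comp_apply,
      ← HomologicalComplex.homologyMap_comp, ← HomologicalComplex.homologyMap_comp]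
    congr 3
    change (cechComplexFunctor (UU fs)).map (PNmap (sc r (PW F ⊤))) ≫ _ = _
    rw [← Functor.map_comp, ← Functor.map_comp, toF'_smul]
  -- (d) Čech vs derived functor cohomology
  have hD : EIso (fun r => cmap (X := X.toTopCat) (UU fs) (Coh.smulAb F (gt r)) (q + 1))
      (sHH F (q + 1)) :=
    ⟨cechHH (UU fs) hU hsup F (q + 1), fun r x => cechHH_smul (UU fs) hU hsup F (q + 1) (gt r) x⟩
  exact ((hD.symm.trans hC.symm).trans hB.symm).trans hA

end Main

end Groth.Agent.Lib.Helper98.CechHHLin
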