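import Groth.Agent.Lib.Helper98.CechTheory
import Groth.Agent.Lib.Helper98.DimShiftEq
import Mathlib.Algebra.Homology.HomologySequenceLemmas

/-!
# helper98: the augmented Čech theory `theoryA` with its scalar action (functoriality in `N`)
-/

set_option autoImplicit false
universe u
open AlgebraicGeometry CategoryTheory CategoryTheory.Limits Opposite TopologicalSpace

namespace Groth.Agent.Lib.Helper98.CechTheoryEq

open Groth.Agent.Lib.Helper98.DimShift Groth.Agent.Lib.Helper98.DimShiftEq
open Groth.Agent.Lib.Helper98.AugAb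
open Groth.Agent.Lib.Helper98.CechGen Groth.Agent.Lib.Helper98.LocPresheaf
open Groth.Agent.Lib.Helper98.CechGlueGeo Groth.Agent.Lib.Helper26.CechLES
open Groth.Agent.Lib.Helper98.LocLE
open Groth.Agent.Lib.Helper47.ExtCech Groth.Agent.S17776 Groth.Agent.Lib.Helper98.CechTheory

section AugNat

open CochainComplex

variable {K K' : CochainComplex AddCommGrpCat.{u} ℕ} {A A' : AddCommGrpCat.{u}}
  {ε : A ⟶ K.X 0} {w : ε ≫ K.d 0 1 = 0} {ε' : A' ⟶ K'.X 0} {w' : ε' ≫ K'.d 0 1 = 0}

/-- naturality of `homologyZeroEquiv` -/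
lemma homologyZeroEquiv_naturality (φ : K ⟶ K') (g : A ⟶ A') (comm : ε ≫ φ.f 0 = g ≫ ε')
    (y : AddMonoidHom.ker ε.hom) (hy : g y.1 ∈ AddMonoidHom.ker ε'.hom) :
    HomologicalComplex.homologyMap (augMap (w := w) (w' := w') φ g comm) 0
      (homologyZeroEquiv K ε w y) = homologyZeroEquiv K' ε' w' ⟨g y.1, hy⟩ := by
  change HomologicalComplex.homologyMap (augMap (w := w) (w' := w') φ g comm) 0
    ((augment K ε w).homologyπ 0
      ((augment K ε w).liftCycles (kerι K ε w) 1 (by simp) (kerι_d K ε w) y)) =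
    (augment K' ε' w').homologyπ 0
      ((augment K' ε' w').liftCycles (kerι K' ε' w') 1 (by simp) (kerι_d K' ε' w') ⟨g y.1, hy⟩)
  rw [← ConcreteCategory.comp_apply, HomologicalComplex.homologyπ_naturality,
    ConcreteCategory.comp_apply]
  congr 1
  have hi : Function.Injective ((augment K' ε' w').iCycles 0) :=
    (AddCommGrpCat.mono_iff_injective _).1 inferInstance
  apply hi
  refine Eq.trans ?_ (AugAb.iCycles_lift_apply K' ε' w' ⟨g y.1, hy⟩).symm
  rw [← ConcreteCategory.comp_apply, HomologicalComplex.cyclesMap_i,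
    ConcreteCategory.comp_apply, AugAb.iCycles_lift_apply]
  rfl

lemma homologyIsoSc'_hom_naturality {C : Type*} [Category C] [Abelian C] {ι : Type*}
    {c : ComplexShape ι} {K L : HomologicalComplex C c} (φ : K ⟶ L) (i j k : ι)
    (hi : c.prev j = i) (hk : c.next j = k) :
    HomologicalComplex.homologyMap φ j ≫ (L.homologyIsoSc' i j k hi hk).hom =
      (K.homologyIsoSc' i j k hi hk).hom ≫
        ShortComplex.homologyMap ((HomologicalComplex.shortComplexFunctor' C c i j k).map φ) := by
  change ShortComplex.homologyMap ((HomologicalComplex.shortComplexFunctor C c j).map φ) ≫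
    ShortComplex.homologyMap (L.isoSc' i j k hi hk).hom =
    ShortComplex.homologyMap (K.isoSc' i j k hi hk).hom ≫ _
  rw [← ShortComplex.homologyMap_comp, ← ShortComplex.homologyMap_comp]
  congr 1
  exact (HomologicalComplex.natIsoSc' C c i j k hi hk).hom.naturality φ

/-- naturality of `homologyIso` -/
lemma homologyIso_naturality (φ : K ⟶ K') (g : A ⟶ A') (comm : ε ≫ φ.f 0 = g ≫ ε') (n : ℕ) :
    HomologicalComplex.homologyMap (augMap (w := w) (w' := w') φ g comm) (n + 2) ≫
      (homologyIso K' ε' w' n).hom =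
    (homologyIso K ε w n).hom ≫ HomologicalComplex.homologyMap φ (n + 1) := by
  have h1 := homologyIsoSc'_hom_naturality (augMap (w := w) (w' := w') φ g comm)
    (n + 1) (n + 2) (n + 3) (by simp) (by simp)
  have h2 := homologyIsoSc'_hom_naturality φ n (n + 1) (n + 2) (by simp) (by simp)
  have h3 : ShortComplex.homologyMap ((HomologicalComplex.shortComplexFunctor' AddCommGrpCat.{u}
      (ComplexShape.up ℕ) (n + 1) (n + 2) (n + 3)).map (augMap (w := w) (w' := w') φ g comm)) =
    (show ((augment K ε w).sc' (n + 1) (n + 2) (n + 3)).homology ⟶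
      ((augment K' ε' w').sc' (n + 1) (n + 2) (n + 3)).homology from
      ShortComplex.homologyMap ((HomologicalComplex.shortComplexFunctor' AddCommGrpCat.{u}
        (ComplexShape.up ℕ) n (n + 1) (n + 2)).map φ)) := rfl
  have h2' : (K.homologyIsoSc' n (n + 1) (n + 2) (by simp) (by simp)).inv ≫
      HomologicalComplex.homologyMap φ (n + 1) =
      ShortComplex.homologyMap ((HomologicalComplex.shortComplexFunctor' AddCommGrpCat.{u}
        (ComplexShape.up ℕ) n (n + 1) (n + 2)).map φ) ≫
        (K'.homologyIsoSc' n (n + 1) (n + 2) (by simp) (by simp)).inv := by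
    rw [Iso.inv_comp_eq, ← Category.assoc, Iso.eq_comp_inv]
    exact h2
  have hmid : ShortComplex.homologyMap ((HomologicalComplex.shortComplexFunctor' AddCommGrpCat.{u}
      (ComplexShape.up ℕ) (n + 1) (n + 2) (n + 3)).map (augMap (w := w) (w' := w') φ g comm)) ≫
      (show ((augment K' ε' w').sc' (n + 1) (n + 2) (n + 3)).homology ≅
        (K'.sc' n (n + 1) (n + 2)).homology from Iso.refl _).hom =
      (show ((augment K ε w).sc' (n + 1) (n + 2) (n + 3)).homology ≅
        (K.sc' n (n + 1) (n + 2)).homology from Iso.refl _).hom ≫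
      ShortComplex.homologyMap ((HomologicalComplex.shortComplexFunctor' AddCommGrpCat.{u}
        (ComplexShape.up ℕ) n (n + 1) (n + 2)).map φ) :=
    (Category.comp_id _).trans ((Category.id_comp _).symm.trans (by rw [h3]; rfl))
  unfold homologyIso
  simp only [Iso.trans_hom, Iso.symm_hom, Category.assoc]
  rw [h2', ← Category.assoc, h1, Category.assoc]
  congr 1

end AugNat

variable {X : Scheme.{u}} (fs : List Γ(X, ⊤))

section Scalars

variable {N N' N'' : ModuleCat.{u} Γ(X, ⊤)}

/-- scalar endomorphism of a module -/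
noncomputable def sc (r : Γ(X, ⊤)) (N : ModuleCat.{u} Γ(X, ⊤)) : N ⟶ N :=
  ModuleCat.ofHom (r • LinearMap.id)

lemma sc_hom_apply (r : Γ(X, ⊤)) (N : ModuleCat.{u} Γ(X, ⊤)) (x : N) : (sc r N).hom x = r • x := rfl

lemma sc_comm (r : Γ(X, ⊤)) (a : N ⟶ N') : sc r N ≫ a = a ≫ sc r N' := by
  ext x
  change a.hom (r • x) = r • a.hom x
  exact map_smul _ _ _

lemma PNmap_comp (φ : N ⟶ N') (ψ : N' ⟶ N'') : PNmap (φ ≫ ψ) = PNmap φ ≫ PNmap ψ := by
  ext V x
  change (PNmap (φ ≫ ψ)).app V x = (PNmap ψ).app V ((PNmap φ).app V x)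
  rw [PNmap_app_apply, PNmap_app_apply, PNmap_app_apply]
  induction x using LocalizedModule.induction_on with
  | h n s =>
    rw [lmap_mk, lmap_mk, lmap_mk]
    rfl

lemma CNmap_comp (φ : N ⟶ N') (ψ : N' ⟶ N'') : CNmap fs (φ ≫ ψ) = CNmap fs φ ≫ CNmap fs ψ := by
  change (cechComplexFunctor (UU fs)).map (PNmap (φ ≫ ψ)) = _
  rw [PNmap_comp, Functor.map_comp]

lemma ANmap_comp (φ : N ⟶ N') (ψ : N' ⟶ N'') : ANmap fs (φ ≫ ψ) = ANmap fs φ ≫ ANmap fs ψ := by
  apply HomologicalComplex.hom_ext
  intro i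
  cases i with
  | zero => rfl
  | succ n => exact congrArg (fun k => k.f n) (CNmap_comp fs φ ψ)

/-- the action of scalars on the augmented Čech cohomology, by functoriality -/
noncomputable def smA (k : ℕ) (N : ModuleCat.{u} Γ(X, ⊤)) (r : Γ(X, ⊤)) :
    ((AN fs N).homology k : AddCommGrpCat.{u}) →+ ((AN fs N).homology k : AddCommGrpCat.{u}) :=
  (HomologicalComplex.homologyMap (ANmap fs (sc r N)) k).hom

lemma smA_apply (k : ℕ) (N : ModuleCat.{u} Γ(X, ⊤)) (r : Γ(X, ⊤))
    (x : ((AN fs N).homology k : AddCommGrpCat.{u})) :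
    smA fs k N r x = HomologicalComplex.homologyMap (ANmap fs (sc r N)) k x := rfl

lemma smA_comm (a : N ⟶ N') (k : ℕ) (r : Γ(X, ⊤)) (x : ((AN fs N).homology k : AddCommGrpCat.{u})) :
    HomologicalComplex.homologyMap (ANmap fs a) k (smA fs k N r x) =
      smA fs k N' r (HomologicalComplex.homologyMap (ANmap fs a) k x) := by
  rw [smA_apply, smA_apply, ← ConcreteCategory.comp_apply, ← ConcreteCategory.comp_apply,
    ← HomologicalComplex.homologyMap_comp, ← HomologicalComplex.homologyMap_comp,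
    ← ANmap_comp, ← ANmap_comp, sc_comm]

end Scalars

section Theory

variable [CompactSpace X] [QuasiSeparatedSpace X]

/-- the augmented Čech cohomology as an equivariant theory -/
noncomputable def theoryAE : ETheory fs where
  H k N := ((AN fs N).homology k : AddCommGrpCat.{u})
  grp k N := inferInstance
  sm k N := smA fs k N
  mid := (theoryA fs).mid
  shift {N₁ N₂ N₃} a b h h2 k := by
    obtain ⟨hz, hS⟩ := AN_shortExact fs a b h
    let e := hS.δIso k (k + 1) rfl
      (AddCommGrpCat.isZero_iff_subsingleton.mpr (h2 k))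
      (AddCommGrpCat.isZero_iff_subsingleton.mpr (h2 (k + 1)))
    refine EIso.symm ⟨e.addCommGroupIsoToAddEquiv, fun r x => ?_⟩
    -- naturality of the connecting homomorphism
    let Φ : ShortComplex.mk (ANmap fs a) (ANmap fs b) hz ⟶ ShortComplex.mk (ANmap fs a) (ANmap fs b) hz :=
      { τ₁ := ANmap fs (sc r N₁)
        τ₂ := ANmap fs (sc r N₂)
        τ₃ := ANmap fs (sc r N₃)
        comm₁₂ := by
          change ANmap fs (sc r N₁) ≫ ANmap fs a = ANmap fs a ≫ ANmap fs (sc r N₂)
          rw [← ANmap_comp, ← ANmap_comp, sc_comm]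
        comm₂₃ := by
          change ANmap fs (sc r N₂) ≫ ANmap fs b = ANmap fs b ≫ ANmap fs (sc r N₃)
          rw [← ANmap_comp, ← ANmap_comp, sc_comm] }
    have hnat := HomologicalComplex.HomologySequence.δ_naturality Φ hS hS k (k + 1) rfl
    have h3 := (ConcreteCategory.congr_hom hnat x).symm
    rw [ConcreteCategory.comp_apply, ConcreteCategory.comp_apply] at h3
    exact h3
  quot {N₁ N₂ N₃} a b h h1 k hk := by
    obtain ⟨hz, hS⟩ := AN_shortExact fs a b h
    have := isIso_homologyMap_g hS k (k + 1) rfl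
      (AddCommGrpCat.isZero_iff_subsingleton.mpr (h1 k hk))
      (AddCommGrpCat.isZero_iff_subsingleton.mpr (h1 (k + 1) (by omega)))
    exact ⟨(asIso (HomologicalComplex.homologyMap (ANmap fs b) k)).addCommGroupIsoToAddEquiv,
      fun r x => smA_comm fs b k r x⟩
  vanish_bij := (theoryA fs).vanish_bij
  vanish_tors := (theoryA fs).vanish_tors
  zero N := by
    let e0 := homologyZeroEquiv (CN fs N) (εN fs N) (εN_d fs N)
    let e1 : AddMonoidHom.ker (εN fs N).hom ≃+ T fs N :=
      { toFun := fun x => ⟨x.1, (εN_eq_zero_iff fs N x.1).mp x.2⟩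
        invFun := fun x => ⟨x.1, (εN_eq_zero_iff fs N x.1).mpr x.2⟩
        left_inv := fun _ => rfl
        right_inv := fun _ => rfl
        map_add' := fun _ _ => rfl }
    refine ⟨e0.symm.trans e1, fun r x => ?_⟩
    obtain ⟨y, rfl⟩ := e0.surjective x
    have hy : (gAb (sc r N)) y.1 ∈ AddMonoidHom.ker (εN fs N).hom := by
      change (εN fs N) (r • (y.1 : N)) = 0
      exact (εN_eq_zero_iff fs N _).mpr ((T fs N).smul_mem r ((εN_eq_zero_iff fs N y.1).mp y.2))
    have hnat := homologyZeroEquiv_naturality (w := εN_d fs N) (w' := εN_d fs N)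
      (CNmap fs (sc r N)) (gAb (sc r N)) (εN_comm fs (sc r N)) y hy
    have h1 : smA fs 0 N r (e0 y) = e0 ⟨(gAb (sc r N)) y.1, hy⟩ := hnat
    rw [h1]
    simp only [AddEquiv.trans_apply, AddEquiv.symm_apply_apply]
    rfl

end Theory

end Groth.Agent.Lib.Helper98.CechTheoryEq
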