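import Groth.Agent.Lib.Helper98.CechHHLin
import Groth.Agent.Lib.Helper98.CechCompare

/-!
# helper98: Čech acyclicity for the cover by `X_{f_i}` when the `f_i` generate the unit ideal

* `T_eq_zero`, `Theory.subsingleton_of_unit`: for a list generating the unit ideal every abstract
  "torsion cohomology theory" vanishes identically
* `isZero_cechH_of_unit`: `X` quasi-compact quasi-separated, `fs` generating the unit ideal of `Γ(X, ⊤)`,
  `F` quasi-coherent: `Ȟ^{q+1}((X_f)_{f ∈ fs}, F) = 0`
* `restrictCompat`: comparison of the Čech complex of `G` on `X` (for opens inside `U`) with the one of `G|_U`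
-/

set_option autoImplicit false
universe u
open AlgebraicGeometry CategoryTheory CategoryTheory.Limits Opposite TopologicalSpace

namespace Groth.Agent.Lib.Helper98.CechUnit

open Groth.Agent.Lib.Helper98.DimShift Groth.Agent.Lib.Helper98.AugAb
open Groth.Agent.Lib.Helper98.CechGen Groth.Agent.Lib.Helper98.LocPresheaf
open Groth.Agent.Lib.Helper98.CechGlueGeo Groth.Agent.Lib.Helper26.CechLES
open Groth.Agent.Lib.Helper98.CechTheory Groth.Agent.Lib.Helper98.LocToF
open Groth.Agent.Lib.Helper98.CechCompare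
open Groth.Agent.S17776

section Algebra

variable {R : Type u} [CommRing R]

lemma T_eq_zero (fs : List R) (h : Ideal.span {x | x ∈ fs} = ⊤) (N : ModuleCat.{u} R) (n : N)
    (hn : n ∈ T fs N) : n = 0 := by
  let J : Ideal R := LinearMap.ker (LinearMap.toSpanSingleton R N n)
  have hJ : Ideal.span {x | x ∈ fs} ≤ J.radical := by
    rw [Ideal.span_le]
    intro f hf
    obtain ⟨k, hk⟩ := hn f hf
    exact ⟨k, (LinearMap.mem_ker).mpr ((LinearMap.toSpanSingleton_apply R N n (f ^ k)).trans hk)⟩
  rw [h, top_le_iff, Ideal.radical_eq_top] at hJ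
  have h1 : (1 : R) ∈ J := by rw [hJ]; trivial
  have h2 := (LinearMap.toSpanSingleton_apply R N n 1).symm.trans ((LinearMap.mem_ker).mp h1)
  rwa [one_smul] at h2

theorem subsingleton_of_unit (fs : List R) (h : Ideal.span {x | x ∈ fs} = ⊤) (Th : Theory fs) :
    ∀ (k : ℕ) (N : ModuleCat.{u} R), Subsingleton (Th.H k N)
  | 0, N => by
    obtain ⟨e⟩ := Th.zero N
    have : Subsingleton (T fs N) := ⟨fun a b => Subtype.ext
      ((T_eq_zero fs h N a.1 a.2).trans (T_eq_zero fs h N b.1 b.2).symm)⟩
    exact e.toEquiv.subsingleton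
  | k + 1, N => by
    obtain ⟨e⟩ := step Th N k
    have := subsingleton_of_unit fs h Th k (Qm fs N)
    exact e.toEquiv.subsingleton

end Algebra

section Scheme

variable {X : Scheme.{u}} [CompactSpace X] [QuasiSeparatedSpace X] (fs : List Γ(X, ⊤))
  (F : X.Modules) [hF : F.IsQuasicoherent]

include hF in
theorem isZero_cechH_of_unit (h : Ideal.span {x | x ∈ fs} = ⊤) (q : ℕ) :
    IsZero (CohB1.cechH (UU fs) F (q + 1)) := by
  have h0 : Subsingleton ((theoryA fs).H (q + 2) (PW F ⊤)) :=
    subsingleton_of_unit fs h (theoryA fs) (q + 2) (PW F ⊤)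
  have h1 : IsZero ((AN fs (PW F ⊤)).homology (q + 2)) :=
    AddCommGrpCat.isZero_iff_subsingleton.mpr h0
  have h2 : IsZero ((CN fs (PW F ⊤)).homology (q + 1)) :=
    h1.of_iso (homologyIso (CN fs (PW F ⊤)) (εN fs (PW F ⊤)) (εN_d fs (PW F ⊤)) q).symm
  have hiso : IsIso ((cechComplexFunctor (UU fs)).map (toF F)) := by
    apply isIso_cechMap
    intro n x
    exact isIso_toF_app F (hx fs x) _ (piObj_eq fs x)
  exact h2.of_iso ((HomologicalComplex.homologyFunctor _ _ (q + 1)).mapIso
    (asIso ((cechComplexFunctor (UU fs)).map (toF F)))).symm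

end Scheme

section Restrict

variable {X : Scheme.{u}} (U : X.Opens) (G : X.Modules) {ι : Type u} (W : ι → X.Opens)
  (V : ι → U.toScheme.Opens) (hWV : ∀ i, U.ι ''ᵁ (V i) = W i)

include hWV in
lemma image_pi (n : ℕ) (i : Fin (n + 1) → ι) :
    U.ι ''ᵁ (∏ᶜ (V ∘ i) : U.toScheme.Opens) = (∏ᶜ (W ∘ i) : X.Opens) := by
  rw [piObj_eq_iInf, piObj_eq_iInf]
  apply le_antisymm
  · refine le_iInf fun k => ?_
    rw [← hWV (i k)]
    exact Scheme.Hom.image_mono _ (iInf_le (fun k => V (i k)) k)
  · intro x hx
    have hx' : ∀ k, x ∈ W (i k) := fun k => (iInf_le (fun k => W (i k)) k) hx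
    have h0 := hx' 0
    rw [← hWV (i 0)] at h0
    obtain ⟨y, hy, rfl⟩ := h0
    refine ⟨y, ?_, rfl⟩
    rw [SetLike.mem_coe, ← SetLike.mem_coe, Opens.coe_iInf, Set.mem_iInter]
    intro k
    have hk := hx' k
    rw [← hWV (i k)] at hk
    obtain ⟨y', hy', hyy⟩ := hk
    have : y' = y := U.ι.isOpenEmbedding.injective hyy
    rw [← this]
    exact hy'

/-- the comparison of the Čech complexes of `G` and `G|_U` -/
noncomputable def restrictCompat :
    Compat (X := X.toTopCat) (Y := U.toScheme.toTopCat) W V G.presheaf (G.restrict U.ι).presheaf where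
  θ n i := G.presheaf.map (eqToHom (image_pi U W V hWV n i)).op
  comm n m f i a b := by
    change G.presheaf.map a.op ≫ G.presheaf.map _ =
      G.presheaf.map _ ≫ G.presheaf.map (U.ι.opensFunctor.map b).op
    rw [← Functor.map_comp, ← Functor.map_comp]
    exact congrArg G.presheaf.map (Subsingleton.elim _ _)

lemma isIso_restrictCompat_map : IsIso (restrictCompat U G W V hWV).map := by
  have : ∀ n, IsIso ((restrictCompat U G W V hWV).map.f n) := by
    intro n
    rw [Compat.map_f]
    have : ∀ i : Fin (n + 1) → ι, IsIso ((restrictCompat U G W V hWV).θ n i) := by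
      intro i
      change IsIso (G.presheaf.map (eqToHom (image_pi U W V hWV n i)).op)
      infer_instance
    exact @Limits.Pi.map_isIso _ _ _ _ _ _
      (fun i : Fin (n + 1) → ι => (restrictCompat U G W V hWV).θ n i) this
  exact HomologicalComplex.Hom.isIso_of_components _

include hWV in
theorem isZero_cechH_of_restrict (p : ℕ) (h : IsZero (CohB1.cechH V (G.restrict U.ι) p)) :
    IsZero (CohB1.cechH W G p) := by
  have := isIso_restrictCompat_map U G W V hWV
  exact h.of_iso ((HomologicalComplex.homologyFunctor _ _ p).mapIso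
    (asIso (restrictCompat U G W V hWV).map))

end Restrict

section Key

variable {X : Scheme.{u}} [X.IsSeparated] (U : X.Opens) (hUc : IsCompact (U : Set X))
  (fs' : List Γ(U.toScheme, ⊤)) (W : ULift.{u} (Fin fs'.length) → X.Opens)
  (hW : ∀ i, U.ι ''ᵁ (U.toScheme.basicOpen (fs'.get i.down)) = W i)
  (hspan : Ideal.span {x | x ∈ fs'} = ⊤) (G : X.Modules) [hG : G.IsQuasicoherent]

include hUc hW hspan hG in
/-- **Čech acyclicity from a partition of unity on the union** -/
theorem key (q : ℕ) : IsZero (CohB1.cechH W G (q + 1)) := by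
  have : CompactSpace U.toScheme := isCompact_iff_compactSpace.mp hUc
  have : U.toScheme.IsSeparated := ⟨by rw [← terminal.comp_from U.ι]; infer_instance⟩
  exact isZero_cechH_of_restrict U G W (UU fs') hW (q + 1)
    (isZero_cechH_of_unit fs' (G.restrict U.ι) hspan q)

omit [X.IsSeparated] hG in
/-- reindexing along an equality of lengths -/
lemma isZero_cechH_cast {m n : ℕ} (h : m = n) (W : ULift.{u} (Fin n) → X.Opens) (p : ℕ)
    (hz : IsZero (CohB1.cechH (fun j : ULift.{u} (Fin m) => W ⟨Fin.cast h j.down⟩) G p)) :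
    IsZero (CohB1.cechH W G p) := by
  subst h
  exact hz

end Key

end Groth.Agent.Lib.Helper98.CechUnit
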