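import Mathlib.RingTheory.Etale.Kaehler
import Mathlib.RingTheory.Unramified.Basic

/-!
# helper98: extension of derivations along formally étale algebras

For a formally étale `A`-algebra `B` and a `ℤ`-derivation `θ` of `A`:
* `extDer θ : Derivation ℤ B B` with `extDer θ (algebraMap A B a) = algebraMap A B (θ a)`;
* `eq_zero_of_vanish`: a `ℤ`-derivation of `B` into a `B`-module vanishing on `A` is zero
  (formally unramified suffices);
* `twisted_eq_zero`: the same for an additive map `δ : B → B'` into a ring `B'` with
  `δ (x * y) = φ x * δ y + φ y * δ x` for a ring map `φ : B → B'`.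
-/

set_option autoImplicit false
universe u

open TensorProduct KaehlerDifferential

namespace Groth.Agent.Lib.Helper98.DerivEtale

section Ext

variable {A B : Type u} [CommRing A] [CommRing B] [Algebra A B] [Algebra.FormallyEtale A B]
  (θ : Derivation ℤ A A)

/-- the `B`-linear form on `Ω[B/ℤ]` attached to `θ` -/
noncomputable def extForm : Ω[B⁄ℤ] →ₗ[B] B :=
  (LinearMap.liftBaseChange B ((Algebra.linearMap A B) ∘ₗ θ.liftKaehlerDifferential)) ∘ₗ
    (tensorKaehlerEquivOfFormallyEtale ℤ A B).symm.toLinearMap

/-- the extension of `θ` to `B` -/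
noncomputable def extDer : Derivation ℤ B B := (extForm (B := B) θ).compDer (D ℤ B)

lemma extDer_algebraMap (a : A) : extDer (B := B) θ (algebraMap A B a) = algebraMap A B (θ a) := by
  change extForm (B := B) θ (D ℤ B (algebraMap A B a)) = _
  unfold extForm
  rw [LinearMap.comp_apply]
  change LinearMap.liftBaseChange B _
    ((tensorKaehlerEquivOfFormallyEtale ℤ A B).symm (D ℤ B (algebraMap A B a))) = _
  rw [tensorKaehlerEquivOfFormallyEtale_symm_D_algebraMap, LinearMap.liftBaseChange_tmul, one_smul,
    LinearMap.comp_apply, Derivation.liftKaehlerDifferential_comp_D]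
  rfl

end Ext

section Uniq

variable {A B : Type u} [CommRing A] [CommRing B] [Algebra A B] [Algebra.FormallyUnramified A B]

theorem eq_zero_of_vanish {N : Type u} [AddCommGroup N] [Module B N] (δ : Derivation ℤ B N)
    (h : ∀ a, δ (algebraMap A B a) = 0) (b : B) : δ b = 0 := by
  let _ : Module A N := Module.compHom N (algebraMap A B)
  have : IsScalarTower A B N := IsScalarTower.of_algebraMap_smul fun _ _ => rfl
  let δ' : Derivation A B N :=
    { toFun := δ
      map_add' := map_add δ
      map_smul' := by
        intro a x
        change δ (a • x) = algebraMap A B a • δ x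
        rw [Algebra.smul_def, Derivation.leibniz, h, smul_zero, add_zero]
      map_one_eq_zero' := δ.map_one_eq_zero
      leibniz' := δ.leibniz }
  have h1 : δ'.liftKaehlerDifferential (D A B b) = δ' b := Derivation.liftKaehlerDifferential_comp_D δ' b
  have h2 : D A B b = 0 := Subsingleton.elim _ _
  rw [h2, map_zero] at h1
  exact h1.symm

theorem twisted_eq_zero {B' : Type u} [CommRing B'] (φ : B →+* B') (δ : B →+ B')
    (hl : ∀ x y, δ (x * y) = φ x * δ y + φ y * δ x)
    (h : ∀ a, δ (algebraMap A B a) = 0) (b : B) : δ b = 0 := by
  let _ : Module B B' := Module.compHom B' φ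
  have hone : δ 1 = 0 := by
    have h1 := hl 1 1
    rw [mul_one, φ.map_one, one_mul] at h1
    have h2 : δ 1 + δ 1 = δ 1 + 0 := by rw [add_zero]; exact h1.symm
    exact add_left_cancel h2
  let δ' : Derivation ℤ B B' :=
    { toFun := δ
      map_add' := map_add δ
      map_smul' := by
        intro n x
        exact map_zsmul δ n x
      map_one_eq_zero' := hone
      leibniz' := by
        intro x y
        change δ (x * y) = φ x * δ y + φ y * δ x
        exact hl x y }
  exact eq_zero_of_vanish (A := A) δ' h b

end Uniq

end Groth.Agent.Lib.Helper98.DerivEtale
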