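import Groth.Agent.S17776

/-!
# helper98: abstract dimension shifting for "local cohomology like" theories

A `Theory fs` is a family of groups `H k N` (`k : ℕ`, `N` an `R`-module) with the consequences of a long
exact sequence (`mid`, `shift`, `quot`), vanishing on modules on which some `f ∈ fs` acts bijectively,
vanishing in positive degrees on `fs`-power torsion modules and `H 0 N ≃ Γ_fs N`.
`compare` : two theories agree in all degrees (non canonically).
-/

set_option autoImplicit false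
universe u
open CategoryTheory

namespace Groth.Agent.Lib.Helper98.DimShift

open Groth.Agent.Lib.Helper47.ExtCech Groth.Agent.S17776

variable {R : Type u} [CommRing R]

/-- a short exact sequence of modules, elementwise -/
def SES {N₁ N₂ N₃ : ModuleCat.{u} R} (a : N₁ ⟶ N₂) (b : N₂ ⟶ N₃) : Prop :=
  Function.Injective a.hom ∧ Function.Surjective b.hom ∧ ∀ x, b.hom x = 0 ↔ ∃ y, a.hom y = x

structure Theory (fs : List R) where
  H : ℕ → ModuleCat.{u} R → Type u
  grp : ∀ k N, AddCommGroup (H k N)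
  mid : ∀ {N₁ N₂ N₃ : ModuleCat.{u} R} (a : N₁ ⟶ N₂) (b : N₂ ⟶ N₃), SES a b → ∀ k,
    Subsingleton (H k N₁) → Subsingleton (H k N₃) → Subsingleton (H k N₂)
  shift : ∀ {N₁ N₂ N₃ : ModuleCat.{u} R} (a : N₁ ⟶ N₂) (b : N₂ ⟶ N₃), SES a b →
    (∀ k, Subsingleton (H k N₂)) → ∀ k, Nonempty (H (k + 1) N₁ ≃+ H k N₃)
  quot : ∀ {N₁ N₂ N₃ : ModuleCat.{u} R} (a : N₁ ⟶ N₂) (b : N₂ ⟶ N₃), SES a b →
    (∀ k, 1 ≤ k → Subsingleton (H k N₁)) → ∀ k, 1 ≤ k → Nonempty (H k N₂ ≃+ H k N₃)
  vanish_bij : ∀ (N : ModuleCat.{u} R) (f : R), f ∈ fs → ActsBij f N → ∀ k, Subsingleton (H k N)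
  vanish_tors : ∀ (N : ModuleCat.{u} R), (∀ n : N, n ∈ T fs N) → ∀ k, 1 ≤ k → Subsingleton (H k N)
  zero : ∀ (N : ModuleCat.{u} R), Nonempty (H 0 N ≃+ T fs N)

attribute [instance] Theory.grp

section Constr

variable (fs : List R) (N : ModuleCat.{u} R)

/-- the torsion part -/
noncomputable abbrev Tm : ModuleCat.{u} R := ModuleCat.of R (T fs N)

/-- the torsion free quotient -/
noncomputable abbrev Nq : ModuleCat.{u} R := ModuleCat.of R (N ⧸ T fs N)

noncomputable abbrev tIncl : Tm fs N ⟶ N := ModuleCat.ofHom (T fs N).subtype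

noncomputable abbrev tQuot : N ⟶ Nq fs N := ModuleCat.ofHom (T fs N).mkQ

lemma ses_tors : SES (tIncl fs N) (tQuot fs N) := by
  refine ⟨Subtype.val_injective, Submodule.mkQ_surjective _, ?_⟩
  intro x
  constructor
  · intro hx
    have : x ∈ T fs N := (Submodule.Quotient.mk_eq_zero _).mp hx
    exact ⟨⟨x, this⟩, rfl⟩
  · rintro ⟨y, rfl⟩
    exact (Submodule.Quotient.mk_eq_zero _).mpr y.2

lemma all_tors (n : Tm fs N) : n ∈ T fs (Tm fs N) := by
  intro f hf
  obtain ⟨k, hk⟩ := n.2 f hf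
  refine ⟨k, ?_⟩
  apply Subtype.ext
  exact hk

lemma nq_torsionFree (x : Nq fs N) (hx : x ∈ T fs (Nq fs N)) : x = 0 := by
  obtain ⟨n, rfl⟩ := Submodule.mkQ_surjective _ x
  apply (Submodule.Quotient.mk_eq_zero _).mpr
  intro f hf
  obtain ⟨k, hk⟩ := hx f hf
  have h1 : f ^ k • n ∈ T fs N := by
    apply (Submodule.Quotient.mk_eq_zero _).mp
    exact hk
  obtain ⟨l, hl⟩ := h1 f hf
  exact ⟨l + k, by rw [pow_add, mul_smul]; exact hl⟩

end Constr

/-- the product of the localisations -/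
noncomputable def E : List R → ModuleCat.{u} R → ModuleCat.{u} R
  | [], _ => ModuleCat.of R PUnit
  | f :: fs, N => ModuleCat.of R (LocalizedModule (Submonoid.powers f) N × E fs N)

noncomputable def jE : ∀ (fs : List R) (N : ModuleCat.{u} R), N ⟶ E fs N
  | [], _ => ModuleCat.ofHom 0
  | f :: fs, N => ModuleCat.ofHom
      (LinearMap.prod (LocalizedModule.mkLinearMap (Submonoid.powers f) N) (jE fs N).hom)

lemma jE_eq_zero_iff : ∀ (fs : List R) (N : ModuleCat.{u} R) (n : N),
    (jE fs N).hom n = 0 ↔ n ∈ T fs N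
  | [], N, n => by
    constructor
    · intro _ f hf
      exact absurd hf List.not_mem_nil
    · intro _
      rfl
  | f :: fs, N, n => by
    have ih := jE_eq_zero_iff fs N n
    change ((LocalizedModule.mkLinearMap (Submonoid.powers f) N n, (jE fs N).hom n) :
      LocalizedModule (Submonoid.powers f) N × E fs N) = 0 ↔ _
    rw [Prod.mk_eq_zero, ih, IsLocalizedModule.eq_zero_iff (Submonoid.powers f)]
    constructor
    · rintro ⟨⟨⟨_, k, rfl⟩, hk⟩, h2⟩ g hg
      rcases List.mem_cons.mp hg with rfl | hg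
      · exact ⟨k, hk⟩
      · exact h2 g hg
    · intro h
      refine ⟨?_, fun g hg => h g (List.mem_cons_of_mem _ hg)⟩
      obtain ⟨k, hk⟩ := h f List.mem_cons_self
      exact ⟨⟨_, k, rfl⟩, hk⟩

section Constr2

variable (fs : List R) (N : ModuleCat.{u} R)

noncomputable abbrev Qm : ModuleCat.{u} R :=
  ModuleCat.of R (E fs (Nq fs N) ⧸ LinearMap.range (jE fs (Nq fs N)).hom)

noncomputable abbrev qE : E fs (Nq fs N) ⟶ Qm fs N :=
  ModuleCat.ofHom (LinearMap.range (jE fs (Nq fs N)).hom).mkQ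

lemma ses_E : SES (jE fs (Nq fs N)) (qE fs N) := by
  refine ⟨?_, Submodule.mkQ_surjective _, ?_⟩
  · rw [injective_iff_map_eq_zero]
    intro x hx
    exact nq_torsionFree fs N x ((jE_eq_zero_iff fs _ x).mp hx)
  · intro x
    constructor
    · intro hx
      exact (Submodule.Quotient.mk_eq_zero _).mp hx
    · rintro ⟨y, rfl⟩
      exact (Submodule.Quotient.mk_eq_zero _).mpr ⟨y, rfl⟩

end Constr2

variable {fs : List R}

lemma vanish_E (Th : Theory fs) (N : ModuleCat.{u} R) :
    ∀ (fs' : List R), (∀ f ∈ fs', f ∈ fs) → ∀ k, Subsingleton (Th.H k (E fs' N))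
  | [], _, k => by
    have hall : ∀ n : (ModuleCat.of R PUnit : ModuleCat.{u} R), n ∈ T fs (ModuleCat.of R PUnit) := by
      intro n f _
      exact ⟨0, Subsingleton.elim _ _⟩
    rcases Nat.eq_zero_or_pos k with rfl | hk
    · obtain ⟨e⟩ := Th.zero (ModuleCat.of R PUnit)
      have : Subsingleton (T fs (ModuleCat.of R PUnit : ModuleCat.{u} R)) :=
        ⟨fun a b => Subtype.ext (Subsingleton.elim (α := PUnit) _ _)⟩
      exact e.toEquiv.subsingleton
    · exact Th.vanish_tors _ hall k hk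
  | f :: fs', hsub, k => by
    have ih := vanish_E Th N fs' (fun g hg => hsub g (List.mem_cons_of_mem _ hg)) k
    let A : ModuleCat.{u} R := ModuleCat.of R (LocalizedModule (Submonoid.powers f) N)
    let a : A ⟶ E (f :: fs') N := ModuleCat.ofHom (LinearMap.inl R _ _)
    let b : E (f :: fs') N ⟶ E fs' N := ModuleCat.ofHom (LinearMap.snd R _ _)
    have hses : SES a b := by
      refine ⟨LinearMap.inl_injective, LinearMap.snd_surjective, ?_⟩
      rintro ⟨x1, x2⟩
      constructor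
      · intro hx
        have hx2 : x2 = 0 := hx
        exact ⟨x1, by rw [hx2]; rfl⟩
      · rintro ⟨y, hy⟩
        have := congrArg Prod.snd hy
        exact this.symm
    have hA : Subsingleton (Th.H k A) :=
      Th.vanish_bij A f (hsub f List.mem_cons_self)
        (smul_bijective_localizedModule (Submonoid.powers f) N f ⟨1, pow_one f⟩) k
    exact Th.mid a b hses k hA ih

theorem step (Th : Theory fs) (N : ModuleCat.{u} R) (k : ℕ) :
    Nonempty (Th.H (k + 1) N ≃+ Th.H k (Qm fs N)) := by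
  obtain ⟨e1⟩ := Th.quot (tIncl fs N) (tQuot fs N) (ses_tors fs N)
    (fun j hj => Th.vanish_tors _ (all_tors fs N) j hj) (k + 1) (by omega)
  obtain ⟨e2⟩ := Th.shift (jE fs (Nq fs N)) (qE fs N) (ses_E fs N)
    (fun j => vanish_E Th (Nq fs N) fs (fun _ h => h) j) k
  exact ⟨e1.trans e2⟩

theorem compare (A B : Theory fs) : ∀ (k : ℕ) (N : ModuleCat.{u} R), Nonempty (A.H k N ≃+ B.H k N)
  | 0, N => by
    obtain ⟨a⟩ := A.zero N
    obtain ⟨b⟩ := B.zero N
    exact ⟨a.trans b.symm⟩
  | k + 1, N => by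
    obtain ⟨a⟩ := step A N k
    obtain ⟨b⟩ := step B N k
    obtain ⟨c⟩ := compare A B k (Qm fs N)
    exact ⟨a.trans (c.trans b.symm)⟩

end Groth.Agent.Lib.Helper98.DimShift
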