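import Groth.Agent.Lib.Helper98.CechBC
import Groth.Agent.Lib.Helper98.ExtCechTheory

/-!
# helper98: bounded acyclic complexes of flat modules stay acyclic after tensoring; application to the
extended Čech complex

* `flat_prod`, `flat_of_exact` (kernel of a surjection of flat modules is flat)
* `lTensor_exact_of_flat` / `rTensor_exact_of_flat`: a bounded above exact sequence `(X i, d i)` (`i : ℤ`) of flat
  modules stays exact after `N ⊗ −` / `− ⊗ N`
* `tens N : ModuleCat R ⥤ ModuleCat R` (`− ⊗ N`), additive, `locCompat_tens`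
* `flat_extCech_X`, `isZero_extCech_X_of_gt`, `isZero_extCech_X_of_neg`
* `acyc_tens`: `extCech M fs` acyclic, `M` flat ⟹ `extCech (M ⊗ N) fs` acyclic
* `subsingleton_tensor_quotient`: then `M ⊗ R/(fs) = 0`
* `span_eq_top_of_acyclic`: `extCech M fs` acyclic with `M ≃ R` ⟹ `(fs) = R`
  (i.e. `H^i_I(R) = 0` for all `i` forces `I = R`, no Noetherian hypothesis).
-/

set_option autoImplicit false
universe u
open CategoryTheory CategoryTheory.Limits TensorProduct

namespace Groth.Agent.Lib.Helper98.FlatAcyc

variable {R : Type u} [CommRing R]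

theorem flat_prod (M N : Type u) [AddCommGroup M] [AddCommGroup N] [Module R M] [Module R N]
    [Module.Flat R M] [Module.Flat R N] : Module.Flat R (M × N) := by
  rw [Module.Flat.iff_rTensor_preserves_injective_linearMap]
  intro A B _ _ _ _ h hh
  have h1 := Module.Flat.rTensor_preserves_injective_linearMap (M := M) h hh
  have h2 := Module.Flat.rTensor_preserves_injective_linearMap (M := N) h hh
  have h3 : ((TensorProduct.prodRight R R B M N).toLinearMap).comp (h.rTensor (M × N)) =
      ((h.rTensor M).prodMap (h.rTensor N)).comp (TensorProduct.prodRight R R A M N).toLinearMap := by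
    ext a m <;> simp
  have h4 : Function.Injective (((TensorProduct.prodRight R R B M N).toLinearMap).comp
      (h.rTensor (M × N))) := by
    rw [h3]
    exact (Function.Injective.prodMap h1 h2).comp (TensorProduct.prodRight R R A M N).injective
  exact Function.Injective.of_comp h4


/-- the kernel of a surjection between flat modules is flat -/
theorem flat_of_exact {M N P : Type u} [AddCommGroup M] [AddCommGroup N] [AddCommGroup P]
    [Module R M] [Module R N] [Module R P] [Module.Flat R N] [Module.Flat R P]
    (g : M →ₗ[R] N) (f : N →ₗ[R] P) (hg : Function.Injective g) (hf : Function.Surjective f)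
    (H : Function.Exact g f) : Module.Flat R M := by
  rw [Module.Flat.iff_rTensor_preserves_injective_linearMap]
  intro A B _ _ _ _ h hh
  have h1 : Function.Injective (g.lTensor A) :=
    LinearMap.lTensor_injective_of_exact_of_flat f hf g hg H A
  have h2 : Function.Injective (h.rTensor N) :=
    Module.Flat.rTensor_preserves_injective_linearMap h hh
  have h3 : (h.rTensor N).comp (g.lTensor A) = (g.lTensor B).comp (h.rTensor M) := by
    ext a m
    simp
  have h4 : Function.Injective ((g.lTensor B).comp (h.rTensor M)) := by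
    rw [← h3]
    exact h2.comp h1
  exact Function.Injective.of_comp h4

section Seq

variable (X : ℤ → Type u) [∀ i, AddCommGroup (X i)] [∀ i, Module R (X i)]
  (d : ∀ i, X i →ₗ[R] X (i + 1))

/-- cycles -/
abbrev Z (i : ℤ) : Submodule R (X i) := LinearMap.ker (d i)

variable {X d}

/-- `X i → Z (i+1)` -/
def π (hd : ∀ i, Function.Exact (d i) (d (i + 1))) (i : ℤ) : X i →ₗ[R] Z X d (i + 1) :=
  (d i).codRestrict (Z X d (i + 1)) (fun x => (hd i).apply_apply_eq_zero x)

lemma π_surj (hd : ∀ i, Function.Exact (d i) (d (i + 1))) (i : ℤ) :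
    Function.Surjective (π hd i) := by
  rintro ⟨z, hz⟩
  obtain ⟨x, hx⟩ := (hd i z).mp hz
  exact ⟨x, Subtype.ext hx⟩

lemma exact_subtype_π (hd : ∀ i, Function.Exact (d i) (d (i + 1))) (i : ℤ) :
    Function.Exact (Z X d i).subtype (π hd i) := by
  intro x
  constructor
  · intro hx
    have : d i x = 0 := congrArg Subtype.val hx
    exact ⟨⟨x, this⟩, rfl⟩
  · rintro ⟨y, rfl⟩
    exact Subtype.ext y.2

lemma exact_d_π (hd : ∀ i, Function.Exact (d i) (d (i + 1))) (i : ℤ) :
    Function.Exact (d i) (π hd (i + 1)) := by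
  intro x
  constructor
  · intro hx
    have : d (i + 1) x = 0 := congrArg Subtype.val hx
    exact (hd i x).mp this
  · rintro ⟨y, rfl⟩
    exact Subtype.ext ((hd i).apply_apply_eq_zero y)

lemma subtype_comp_π (hd : ∀ i, Function.Exact (d i) (d (i + 1))) (i : ℤ) :
    (Z X d (i + 1)).subtype.comp (π hd i) = d i := by
  ext x
  rfl

theorem flat_Z (hd : ∀ i, Function.Exact (d i) (d (i + 1))) [∀ i, Module.Flat R (X i)]
    (n : ℤ) (hn : ∀ i, n < i → Subsingleton (X i)) : ∀ i, Module.Flat R (Z X d i) := by
  have key : ∀ (k : ℕ) (i : ℤ), n + 1 - k ≤ i → Module.Flat R (Z X d i) := by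
    intro k
    induction k with
    | zero =>
      intro i hi
      have := hn i (by push_cast at hi; omega)
      infer_instance
    | succ k ih =>
      intro i hi
      have := ih (i + 1) (by push_cast at hi ⊢; omega)
      exact flat_of_exact (Z X d i).subtype (π hd i) Subtype.val_injective (π_surj hd i)
        (exact_subtype_π hd i)
  intro i
  exact key (n + 1 - i).toNat i (by omega)

/-- a bounded above exact sequence of flat modules stays exact after tensoring with any module -/
theorem lTensor_exact_of_flat (hd : ∀ i, Function.Exact (d i) (d (i + 1)))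
    [∀ i, Module.Flat R (X i)] (n : ℤ) (hn : ∀ i, n < i → Subsingleton (X i))
    (N : Type u) [AddCommGroup N] [Module R N] (i : ℤ) :
    Function.Exact ((d i).lTensor N) ((d (i + 1)).lTensor N) := by
  have hfl := flat_Z hd n hn
  have h1 : Function.Exact ((d i).lTensor N) ((π hd (i + 1)).lTensor N) :=
    lTensor_exact N (exact_d_π hd i) (π_surj hd (i + 1))
  have h2 : Function.Injective ((Z X d (i + 1 + 1)).subtype.lTensor N) :=
    LinearMap.lTensor_injective_of_exact_of_flat (π hd (i + 1 + 1)) (π_surj hd _)
      (Z X d (i + 1 + 1)).subtype Subtype.val_injective (exact_subtype_π hd _) N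
  have h3 : (d (i + 1)).lTensor N =
      ((Z X d (i + 1 + 1)).subtype.lTensor N).comp ((π hd (i + 1)).lTensor N) := by
    rw [← LinearMap.lTensor_comp, subtype_comp_π]
  intro y
  rw [h3, LinearMap.comp_apply, ← h1 y]
  constructor
  · intro h
    exact h2 (by rw [h, map_zero])
  · intro h
    rw [h, map_zero]

theorem rTensor_exact_of_flat (hd : ∀ i, Function.Exact (d i) (d (i + 1)))
    [∀ i, Module.Flat R (X i)] (n : ℤ) (hn : ∀ i, n < i → Subsingleton (X i))
    (N : Type u) [AddCommGroup N] [Module R N] (i : ℤ) :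
    Function.Exact ((d i).rTensor N) ((d (i + 1)).rTensor N) := by
  rw [LinearMap.rTensor_exact_iff_lTensor_exact]
  exact lTensor_exact_of_flat hd n hn N i

end Seq


section Tens

variable (N : Type u) [AddCommGroup N] [Module R N]

/-- `− ⊗ N` on `ModuleCat R` -/
noncomputable def tens : ModuleCat.{u} R ⥤ ModuleCat.{u} R where
  obj M := ModuleCat.of R (M ⊗[R] N)
  map g := ModuleCat.ofHom (g.hom.rTensor N)
  map_id M := by
    ext : 1
    exact LinearMap.rTensor_id N M
  map_comp g h := by
    ext : 1
    exact LinearMap.rTensor_comp N h.hom g.hom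

instance : (tens (R := R) N).Additive where
  map_add {M M' g h} := by
    ext : 1
    exact LinearMap.rTensor_add N g.hom h.hom

lemma locCompat_tens (f : R) : Helper98.CechBC.LocCompat (tens (R := R) N) f f := by
  intro X
  change IsLocalizedModule (Submonoid.powers f)
    ((LocalizedModule.mkLinearMap (Submonoid.powers f) X).rTensor N)
  exact IsLocalizedModule.rTensor (R := R) (A := R) (Submonoid.powers f) (N := N)
    (LocalizedModule.mkLinearMap (Submonoid.powers f) X)

end Tens


theorem flat_of_iso {X Y : ModuleCat.{u} R} (e : X ≅ Y) (h : Module.Flat R Y) : Module.Flat R X :=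
  Module.Flat.of_linearEquiv e.toLinearEquiv

theorem flat_of_subsingleton (M : Type u) [AddCommGroup M] [Module R M] (h : Subsingleton M) :
    Module.Flat R M := by
  have : Module.Free R M := Module.Free.of_subsingleton R M
  exact Module.Flat.of_free

theorem flat_extCech_X (M : ModuleCat.{u} R) [Module.Flat R M] (fs : List R) :
    ∀ n : ℤ, Module.Flat R ((DerCA.extCech M fs).X n) := by
  induction fs with
  | nil =>
    intro n
    by_cases hn : n = 0
    · subst hn
      exact flat_of_iso (HomologicalComplex.singleObjXSelf (ComplexShape.up ℤ) 0 M) inferInstance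
    · exact flat_of_subsingleton _ (ModuleCat.isZero_iff_subsingleton.mp
        (HomologicalComplex.isZero_single_obj_X (ComplexShape.up ℤ) 0 M n hn))
  | cons g gs ih =>
    intro n
    have h1 := ih n
    have h2 : Module.Flat R (LocalizedModule (Submonoid.powers g) ((DerCA.extCech M gs).X (n - 1))) := by
      have := ih (n - 1)
      exact Module.Flat.trans R (Localization (Submonoid.powers g)) _
    have h3 : Module.Flat R ((DerCA.extCech M gs).X n ×
        LocalizedModule (Submonoid.powers g) ((DerCA.extCech M gs).X (n - 1))) := flat_prod _ _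
    exact flat_of_iso ((DerCA.mappingCoconeXIso
      (DerCA.locCxUnit (Submonoid.powers g) (DerCA.extCech M gs)) n) ≪≫
        ModuleCat.biprodIsoProd _ _) h3

theorem isZero_extCech_X_of_gt (M : ModuleCat.{u} R) (fs : List R) :
    ∀ n : ℤ, (fs.length : ℤ) < n → IsZero ((DerCA.extCech M fs).X n) := by
  induction fs with
  | nil =>
    intro n hn
    exact HomologicalComplex.isZero_single_obj_X _ _ _ _ (by simp at hn; omega)
  | cons g gs ih =>
    intro n hn
    simp only [List.length_cons, Nat.cast_add, Nat.cast_one] at hn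
    refine IsZero.of_iso ?_ (DerCA.mappingCoconeXIso
      (DerCA.locCxUnit (Submonoid.powers g) (DerCA.extCech M gs)) n)
    have h1 : IsZero ((DerCA.extCech M gs).X n) := ih n (by omega)
    have h2 : IsZero (((DerCA.locCx (Submonoid.powers g)).obj (DerCA.extCech M gs)).X (n - 1)) :=
      (DerCA.locFunctor (Submonoid.powers g)).map_isZero (ih (n - 1) (by omega))
    rw [IsZero.iff_id_eq_zero]
    apply biprod.hom_ext
    · exact h1.eq_of_tgt _ _
    · exact h2.eq_of_tgt _ _

theorem isZero_extCech_X_of_neg (M : ModuleCat.{u} R) (fs : List R) :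
    ∀ n : ℤ, n < 0 → IsZero ((DerCA.extCech M fs).X n) := by
  induction fs with
  | nil =>
    intro n hn
    exact HomologicalComplex.isZero_single_obj_X _ _ _ _ (by omega)
  | cons g gs ih =>
    intro n hn
    refine IsZero.of_iso ?_ (DerCA.mappingCoconeXIso
      (DerCA.locCxUnit (Submonoid.powers g) (DerCA.extCech M gs)) n)
    have h1 : IsZero ((DerCA.extCech M gs).X n) := ih n (by omega)
    have h2 : IsZero (((DerCA.locCx (Submonoid.powers g)).obj (DerCA.extCech M gs)).X (n - 1)) :=
      (DerCA.locFunctor (Submonoid.powers g)).map_isZero (ih (n - 1) (by omega))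
    rw [IsZero.iff_id_eq_zero]
    apply biprod.hom_ext
    · exact h1.eq_of_tgt _ _
    · exact h2.eq_of_tgt _ _


open Groth.Agent.Lib.Helper47.ExtCech in
/-- if the extended Čech complex of a flat module `M` is acyclic, so is that of `M ⊗ N` for all `N` -/
theorem acyc_tens (M : ModuleCat.{u} R) [Module.Flat R M] (fs : List R)
    (h : ∀ n : ℤ, (DerCA.extCech M fs).ExactAt n) (N : Type u) [AddCommGroup N] [Module R N] :
    ∀ n : ℤ, (DerCA.extCech ((tens N).obj M) fs).ExactAt n := by
  obtain ⟨e⟩ := Helper98.CechBC.cechFunctorIso (tens (R := R) N) (fs.map fun f => (f, f))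
    (fun p hp => by
      obtain ⟨f, -, rfl⟩ := List.mem_map.1 hp
      exact locCompat_tens N f) M
  have hl1 : (fs.map fun f => (f, f)).map Prod.fst = fs := by
    rw [List.map_map]; exact List.map_id _
  have hl2 : (fs.map fun f => (f, f)).map Prod.snd = fs := by
    rw [List.map_map]; exact List.map_id _
  rw [hl1, hl2] at e
  rw [← acyc_iff]
  refine Acyc.of_iso e ?_
  rw [acyc_iff]
  set C := DerCA.extCech M fs with hC
  have hd : ∀ i : ℤ, Function.Exact (C.d i (i + 1)).hom (C.d (i + 1) (i + 1 + 1)).hom := by
    intro i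
    have h1 := h (i + 1)
    rw [HomologicalComplex.exactAt_iff' C i (i + 1) (i + 1 + 1) (by simp) (by simp),
      ShortComplex.ShortExact.moduleCat_exact_iff_function_exact] at h1
    exact h1
  have hfl : ∀ i, Module.Flat R (C.X i) := flat_extCech_X M fs
  have hb : ∀ i : ℤ, (fs.length : ℤ) < i → Subsingleton (C.X i) := fun i hi =>
    ModuleCat.isZero_iff_subsingleton.mp (isZero_extCech_X_of_gt M fs i hi)
  have key := rTensor_exact_of_flat (X := fun i => C.X i) (d := fun i => (C.d i (i + 1)).hom)
    hd (fs.length : ℤ) hb N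
  have h2 : ∀ i : ℤ, (((tens (R := R) N).mapHomologicalComplex (ComplexShape.up ℤ)).obj C).ExactAt
      (i + 1) := by
    intro i
    rw [HomologicalComplex.exactAt_iff' _ i (i + 1) (i + 1 + 1) (by simp) (by simp),
      ShortComplex.ShortExact.moduleCat_exact_iff_function_exact]
    exact key i
  intro n
  have := h2 (n - 1)
  rwa [sub_add_cancel] at this

/-- if the extended Čech complex of a flat module `M` is acyclic then `M ⊗ R/(fs) = 0` -/
theorem subsingleton_tensor_quotient (M : ModuleCat.{u} R) [Module.Flat R M] (fs : List R)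
    (h : ∀ n : ℤ, (DerCA.extCech M fs).ExactAt n) :
    Subsingleton (M ⊗[R] (R ⧸ Ideal.span {a | a ∈ fs})) := by
  have h0 := acyc_tens M fs h (R ⧸ Ideal.span {a | a ∈ fs}) 0
  obtain ⟨ι, hι, hr⟩ := Groth.Agent.S17776.main ((tens (R ⧸ Ideal.span {a | a ∈ fs})).obj M) fs
  have hz : Subsingleton ((DerCA.extCech ((tens (R ⧸ Ideal.span {a | a ∈ fs})).obj M) fs).homology 0) :=
    ModuleCat.isZero_iff_subsingleton.mp h0.isZero_homology
  have hT : Groth.Agent.S17776.T fs ((tens (R ⧸ Ideal.span {a | a ∈ fs})).obj M) = ⊤ := by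
    rw [eq_top_iff]
    intro x _ f hf
    refine ⟨1, ?_⟩
    rw [pow_one]
    change f • (show M ⊗[R] (R ⧸ Ideal.span {a | a ∈ fs}) from x) = 0
    induction (show M ⊗[R] (R ⧸ Ideal.span {a | a ∈ fs}) from x) using TensorProduct.induction_on with
    | zero => exact smul_zero _
    | tmul m r =>
      obtain ⟨r, rfl⟩ := Ideal.Quotient.mk_surjective r
      rw [← TensorProduct.tmul_smul]
      have : f • (Ideal.Quotient.mk (Ideal.span {a | a ∈ fs}) r) = 0 := by
        rw [Algebra.smul_def]
        change Ideal.Quotient.mk _ f * _ = 0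
        rw [Ideal.Quotient.eq_zero_iff_mem.mpr (Ideal.subset_span (show f ∈ {a | a ∈ fs} from hf)), zero_mul]
      rw [this, TensorProduct.tmul_zero]
    | add a b ha hb => rw [smul_add, ha, hb, add_zero]
  have hbot : LinearMap.range ι = ⊥ := by
    rw [LinearMap.range_eq_bot]
    ext x
    rw [Subsingleton.elim x 0, map_zero]
    rfl
  rw [hbot] at hr
  have : (⊥ : Submodule R ((tens (R ⧸ Ideal.span {a | a ∈ fs})).obj M)) = ⊤ := hr.trans hT
  constructor
  intro a b
  have ha : (show ((tens (R ⧸ Ideal.span {a | a ∈ fs})).obj M) from a) ∈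
      (⊥ : Submodule R ((tens (R ⧸ Ideal.span {a | a ∈ fs})).obj M)) := by rw [this]; trivial
  have hb : (show ((tens (R ⧸ Ideal.span {a | a ∈ fs})).obj M) from b) ∈
      (⊥ : Submodule R ((tens (R ⧸ Ideal.span {a | a ∈ fs})).obj M)) := by rw [this]; trivial
  rw [Submodule.mem_bot] at ha hb
  exact ha.trans hb.symm

/-- `extCech M fs` acyclic with `M ≃ R` implies `(fs) = R` -/
theorem span_eq_top_of_acyclic (M : ModuleCat.{u} R) (e : M ≃ₗ[R] R) (fs : List R)
    (h : ∀ n : ℤ, (DerCA.extCech M fs).ExactAt n) : Ideal.span {a | a ∈ fs} = ⊤ := by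
  have : Module.Flat R M := Module.Flat.of_linearEquiv e
  have h1 := subsingleton_tensor_quotient M fs h
  have e2 : M ⊗[R] (R ⧸ Ideal.span {a | a ∈ fs}) ≃ₗ[R] (R ⧸ Ideal.span {a | a ∈ fs}) :=
    (TensorProduct.congr e (LinearEquiv.refl R _)).trans (TensorProduct.lid R _)
  have h2 : Subsingleton (R ⧸ Ideal.span {a | a ∈ fs}) := e2.symm.injective.subsingleton
  exact Ideal.Quotient.subsingleton_iff.mp h2


end Groth.Agent.Lib.Helper98.FlatAcyc
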