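import Groth.Prelude.Def_Formal2
import Groth.Agent.Lib.Helper26.CechLES
import Groth.Agent.Lib.Helper21.QCohSections
import Groth.Agent.S9498

/-!
# helper98: `Formal2.FormalCohColimBijective` in degree 0 at the level of sections

* `Sec`, `sm`, `sr`, `cl` : sections of `M~` over an open of `Spec A`, functoriality, restriction and the
  identification with `Formal2.HV A M 0 V` (helper26 `clsEquiv`); `HVmap_cl`, `HVres_cl`
* `sm_comp`, `sm_zero`, `sm_id`, `sm_sr`, `sr_sr`, `sm_injective`, `sm_exact` (tilde is exact, sections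
  are left exact), `sm_eq_zero_of_ker_le`
* `qmap`, `tr` and their relations with `quotPowπ`, `quotPowTrans`; `artin_rees`
* `FCB`, `fcb_of`, `of_fcb`: the section-level reformulation
* `chase`: for `0 → M' → M → M'' → 0`, `FCB M` and `FCB M''` imply `FCB M'`
-/

set_option autoImplicit false
universe u
open AlgebraicGeometry CategoryTheory CategoryTheory.Limits Opposite TopologicalSpace

namespace Groth.Agent.Lib.Helper98.FormalSec

open Formal2 Groth.Agent.Lib.Helper26 Groth.Agent.Lib.Helper26.CechLES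

variable (A : Type u) [CommRing A]
variable {M N P : Type u} [AddCommGroup M] [Module A M] [AddCommGroup N] [Module A N]
  [AddCommGroup P] [Module A P]

/-- the morphism of abelian sheaves attached to a linear map -/
noncomputable abbrev abMap (φ : M →ₗ[A] N) : Coh.toAb (tmod A M) ⟶ Coh.toAb (tmod A N) :=
  (SheafOfModules.toSheaf _).map (tmodMap A φ)

/-- sections of `M~` over `V` -/
abbrev Sec (M : Type u) [AddCommGroup M] [Module A M] (V : (Spec (CommRingCat.of A)).Opens) : Type u :=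
  ((Coh.toAb (tmod A M)).obj.obj (op V) : AddCommGrpCat.{u})

/-- the induced map on sections -/
noncomputable def sm (φ : M →ₗ[A] N) (V : (Spec (CommRingCat.of A)).Opens) : Sec A M V →+ Sec A N V :=
  ((abMap A φ).hom.app (op V)).hom

/-- restriction of sections -/
noncomputable def sr (M : Type u) [AddCommGroup M] [Module A M] {V V' : (Spec (CommRingCat.of A)).Opens}
    (h : V' ≤ V) : Sec A M V →+ Sec A M V' :=
  ((Coh.toAb (tmod A M)).obj.map (homOfLE h).op).hom

/-- the class of a section -/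
noncomputable def cl (M : Type u) [AddCommGroup M] [Module A M] (V : (Spec (CommRingCat.of A)).Opens) :
    Sec A M V ≃+ HV A M 0 V :=
  clsEquiv (X := (Spec (CommRingCat.of A)).toTopCat) (Coh.toAb (tmod A M)) V

lemma HVmap_cl (φ : M →ₗ[A] N) (V : (Spec (CommRingCat.of A)).Opens) (s : Sec A M V) :
    HVmap A φ 0 V (cl A M V s) = cl A N V (sm A φ V s) :=
  (cls_naturality (X := (Spec (CommRingCat.of A)).toTopCat) (abMap A φ) V s).symm

lemma HVres_cl (M : Type u) [AddCommGroup M] [Module A M] {V V' : (Spec (CommRingCat.of A)).Opens}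
    (h : V' ≤ V) (s : Sec A M V) :
    HVres A M 0 h (cl A M V s) = cl A M V' (sr A M h s) :=
  MVTop.res_cls (X := (Spec (CommRingCat.of A)).toTopCat) (Coh.toAb (tmod A M)) h s

lemma tmodMap_comp (φ : N →ₗ[A] P) (ψ : M →ₗ[A] N) :
    tmodMap A (φ ∘ₗ ψ) = tmodMap A ψ ≫ tmodMap A φ := by
  change (tilde.functor (CommRingCat.of A)).map (ModuleCat.ofHom (φ ∘ₗ ψ)) =
    (tilde.functor (CommRingCat.of A)).map (ModuleCat.ofHom ψ) ≫
      (tilde.functor (CommRingCat.of A)).map (ModuleCat.ofHom φ)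
  rw [← Functor.map_comp]
  rfl

lemma tilde_map_zero (R : CommRingCat.{u}) (M N : ModuleCat.{u} R) :
    (tilde.functor R).map (0 : M ⟶ N) = 0 :=
  (tilde.functor R).map_zero _ _

lemma tmodMap_zero : tmodMap A (0 : M →ₗ[A] N) = 0 := by
  change (tilde.functor (CommRingCat.of A)).map (ModuleCat.ofHom (0 : M →ₗ[A] N)) = 0
  exact tilde_map_zero (CommRingCat.of A) _ _

lemma sm_eq (φ : M →ₗ[A] N) (V : (Spec (CommRingCat.of A)).Opens) (s : Sec A M V) :
    sm A φ V s = (tmodMap A φ).app V s := rfl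

lemma sm_comp (φ : N →ₗ[A] P) (ψ : M →ₗ[A] N) (V : (Spec (CommRingCat.of A)).Opens)
    (s : Sec A M V) : sm A (φ ∘ₗ ψ) V s = sm A φ V (sm A ψ V s) := by
  rw [sm_eq, sm_eq, sm_eq, tmodMap_comp]
  rfl

lemma sm_zero (V : (Spec (CommRingCat.of A)).Opens) (s : Sec A M V) :
    sm A (0 : M →ₗ[A] N) V s = 0 := by
  rw [sm_eq, tmodMap_zero]
  rfl

lemma sm_sr (φ : M →ₗ[A] N) {V V' : (Spec (CommRingCat.of A)).Opens} (h : V' ≤ V) (s : Sec A M V) :
    sr A N h (sm A φ V s) = sm A φ V' (sr A M h s) := by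
  have := ConcreteCategory.congr_hom ((abMap A φ).hom.naturality (homOfLE h).op) s
  exact this.symm

lemma sr_sr (M : Type u) [AddCommGroup M] [Module A M] {V V' V'' : (Spec (CommRingCat.of A)).Opens}
    (h : V' ≤ V) (h' : V'' ≤ V') (s : Sec A M V) :
    sr A M h' (sr A M h s) = sr A M (h'.trans h) s := by
  have := ConcreteCategory.congr_hom
    ((Coh.toAb (tmod A M)).obj.map_comp (homOfLE h).op (homOfLE h').op) s
  exact this.symm

lemma sm_injective (φ : M →ₗ[A] N) (hφ : Function.Injective φ)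
    (V : (Spec (CommRingCat.of A)).Opens) : Function.Injective (sm A φ V) := by
  have : Mono (tmodMap A φ) :=
    Groth.Agent.S9498.mono_tilde_map (R := CommRingCat.of A) (ModuleCat.ofHom φ) hφ
  exact Groth.Agent.Lib.Helper21.QCohSections.app_injective_of_mono (tmodMap A φ) V

lemma tilde_exact (R : CommRingCat.{u}) {M' M M'' : ModuleCat.{u} R} (f : M' ⟶ M) (g : M ⟶ M'')
    (hf : Function.Injective f.hom) (hg : Function.Surjective g.hom)
    (hfg : LinearMap.range f.hom = LinearMap.ker g.hom) (V : (Spec R).Opens)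
    (s : Γ(tilde M, V)) (hs : (tilde.map g).app V s = 0) :
    ∃ s' : Γ(tilde M', V), (tilde.map f).app V s' = s := by
  have hz : f ≫ g = 0 := by
    ext x
    have : f.hom x ∈ LinearMap.ker g.hom := hfg ▸ LinearMap.mem_range_self f.hom x
    exact this
  let S : ShortComplex (ModuleCat.{u} R) := ShortComplex.mk f g hz
  have hS : S.ShortExact := by
    have hex : S.Exact := by
      rw [ShortComplex.moduleCat_exact_iff_range_eq_ker]
      exact hfg
    have : Mono S.f := (ModuleCat.mono_iff_injective _).mpr hf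
    have : Epi S.g := (ModuleCat.epi_iff_surjective _).mpr hg
    exact ShortComplex.ShortExact.mk hex
  obtain ⟨h1, h2⟩ := Groth.Agent.S9498.key R
  have hE : (S.map (tilde.functor R)).ShortExact := hS.map_of_exact (tilde.functor R)
  have := Groth.Agent.Lib.Helper21.QCohSections.sections_exact _ hE V
  exact (this s).mp hs

lemma sm_exact {M' M M'' : Type u} [AddCommGroup M'] [Module A M'] [AddCommGroup M] [Module A M]
    [AddCommGroup M''] [Module A M''] (f : M' →ₗ[A] M) (g : M →ₗ[A] M'')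
    (hf : Function.Injective f) (hg : Function.Surjective g)
    (hfg : LinearMap.range f = LinearMap.ker g) (V : (Spec (CommRingCat.of A)).Opens)
    (s : Sec A M V) (hs : sm A g V s = 0) : ∃ s' : Sec A M' V, sm A f V s' = s :=
  tilde_exact (CommRingCat.of A) (ModuleCat.ofHom f) (ModuleCat.ofHom g) hf hg hfg V s hs

lemma tilde_map_id (R : CommRingCat.{u}) (M : ModuleCat.{u} R) :
    (tilde.functor R).map (𝟙 M) = 𝟙 _ :=
  (tilde.functor R).map_id _

lemma sm_id (V : (Spec (CommRingCat.of A)).Opens) (s : Sec A M V) :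
    sm A (LinearMap.id : M →ₗ[A] M) V s = s := by
  rw [sm_eq]
  have : tmodMap A (LinearMap.id : M →ₗ[A] M) = 𝟙 _ := tilde_map_id (CommRingCat.of A) _
  rw [this]
  rfl

lemma sm_eq_zero_of_ker_le {Q : Type u} [AddCommGroup Q] [Module A Q] (φ : N →ₗ[A] Q) (ψ : N →ₗ[A] P)
    (h : LinearMap.ker φ ≤ LinearMap.ker ψ) (V : (Spec (CommRingCat.of A)).Opens) (s : Sec A N V)
    (hs : sm A φ V s = 0) : sm A ψ V s = 0 := by
  have h1 : φ = (LinearMap.ker φ).liftQ φ le_rfl ∘ₗ (LinearMap.ker φ).mkQ :=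
    (Submodule.liftQ_mkQ _ _ _).symm
  have h2 : ψ = (LinearMap.ker φ).liftQ ψ h ∘ₗ (LinearMap.ker φ).mkQ :=
    (Submodule.liftQ_mkQ _ _ _).symm
  have hinj : Function.Injective ((LinearMap.ker φ).liftQ φ le_rfl) := by
    rw [← LinearMap.ker_eq_bot]
    exact Submodule.ker_liftQ_eq_bot _ _ _ le_rfl
  rw [h1, sm_comp] at hs
  have h0 : sm A (LinearMap.ker φ).mkQ V s = 0 :=
    sm_injective A _ hinj V (hs.trans (map_zero _).symm)
  rw [h2, sm_comp, h0, map_zero]

section Quot

variable (I : Ideal A)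

lemma map_le (φ : M →ₗ[A] N) (k : ℕ) :
    I ^ k • (⊤ : Submodule A M) ≤ (I ^ k • (⊤ : Submodule A N)).comap φ := by
  rw [← Submodule.map_le_iff_le_comap, Submodule.map_smul'']
  exact Submodule.smul_mono le_rfl le_top

/-- the induced map on the quotients by powers of `I` -/
noncomputable def qmap (φ : M →ₗ[A] N) (n : ℕ) : quotPow A I M n →ₗ[A] quotPow A I N n :=
  Submodule.mapQ _ _ φ (map_le A I φ (n + 1))

lemma qmap_comp_π (φ : M →ₗ[A] N) (n : ℕ) :
    qmap A I φ n ∘ₗ quotPowπ A I M n = quotPowπ A I N n ∘ₗ φ := by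
  ext m
  rfl

lemma qmap_comp_trans (φ : M →ₗ[A] N) (n : ℕ) :
    qmap A I φ n ∘ₗ quotPowTrans A I M n = quotPowTrans A I N n ∘ₗ qmap A I φ (n + 1) := by
  apply Submodule.linearMap_qext
  ext m
  rfl

lemma qmap_comp_qmap_zero (f : M →ₗ[A] N) (g : N →ₗ[A] P) (h : g ∘ₗ f = 0) (n : ℕ) :
    qmap A I g n ∘ₗ qmap A I f n = 0 := by
  apply Submodule.linearMap_qext
  ext m
  change Submodule.Quotient.mk (g (f m)) = 0
  have : g (f m) = 0 := LinearMap.congr_fun h m
  rw [this]
  rfl

/-- the iterated transition map -/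
noncomputable def tr (M : Type u) [AddCommGroup M] [Module A M] {a b : ℕ} (h : b ≤ a) :
    quotPow A I M a →ₗ[A] quotPow A I M b :=
  Submodule.mapQ _ _ LinearMap.id (by
    rw [Submodule.comap_id]
    exact Submodule.smul_mono_left (Ideal.pow_le_pow_right (by omega)))

lemma tr_refl (n : ℕ) : tr A I M (le_refl n) = LinearMap.id := by
  apply Submodule.linearMap_qext
  ext m
  rfl

lemma tr_succ {a b : ℕ} (h : b ≤ a) :
    tr A I M (Nat.le_succ_of_le h) = tr A I M h ∘ₗ quotPowTrans A I M a := by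
  apply Submodule.linearMap_qext
  ext m
  simp only [LinearMap.comp_apply, tr, quotPowTrans, Submodule.mkQ_apply, Submodule.mapQ_apply,
    LinearMap.id_apply]

lemma tr_comp_π {a b : ℕ} (h : b ≤ a) : tr A I M h ∘ₗ quotPowπ A I M a = quotPowπ A I M b := by
  ext m
  rfl

lemma artin_rees [IsNoetherianRing A] [Module.Finite A N] (f : M →ₗ[A] N)
    (hf : Function.Injective f) :
    ∃ c : ℕ, ∀ (n : ℕ) (m : M), f m ∈ I ^ (n + c + 1) • (⊤ : Submodule A N) →
      m ∈ I ^ (n + 1) • (⊤ : Submodule A M) := by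
  obtain ⟨k, hk⟩ := Ideal.exists_pow_inf_eq_pow_smul I (LinearMap.range f)
  refine ⟨k, fun n m hm => ?_⟩
  have h1 : f m ∈ I ^ (n + k + 1) • (⊤ : Submodule A N) ⊓ LinearMap.range f :=
    ⟨hm, LinearMap.mem_range_self f m⟩
  rw [hk (n + k + 1) (by omega)] at h1
  have h2 : n + k + 1 - k = n + 1 := by omega
  rw [h2] at h1
  have h3 : I ^ (n + 1) • (I ^ k • (⊤ : Submodule A N) ⊓ LinearMap.range f) ≤
      Submodule.map f (I ^ (n + 1) • (⊤ : Submodule A M)) := by
    rw [Submodule.map_smul'', Submodule.map_top]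
    exact Submodule.smul_mono le_rfl inf_le_right
  obtain ⟨m₀, hm₀, hfm⟩ := h3 h1
  rwa [← hf hfm]

lemma ker_qmap_le_ker_tr (f : M →ₗ[A] N) (c : ℕ)
    (hc : ∀ (n : ℕ) (m : M), f m ∈ I ^ (n + c + 1) • (⊤ : Submodule A N) →
      m ∈ I ^ (n + 1) • (⊤ : Submodule A M)) (n : ℕ) :
    LinearMap.ker (qmap A I f (n + c)) ≤ LinearMap.ker (tr A I M (Nat.le_add_right n c)) := by
  intro w hw
  obtain ⟨m, rfl⟩ := Submodule.Quotient.mk_surjective _ w
  rw [LinearMap.mem_ker] at hw ⊢
  have h1 : f m ∈ I ^ (n + c + 1) • (⊤ : Submodule A N) :=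
    (Submodule.Quotient.mk_eq_zero _).mp hw
  exact (Submodule.Quotient.mk_eq_zero _).mpr (hc n m h1)

end Quot

section FCB

variable (I : Ideal A)

/-- the section-level formulation of `Formal2.FormalCohColimBijective` in degree `0` -/
def FCB (M : Type u) [AddCommGroup M] [Module A M] (U : (Spec (CommRingCat.of A)).Opens) : Prop :=
  (∀ (V : (Spec (CommRingCat.of A)).Opens) (_ : Admissible A I U V) (x : Sec A M V),
      (∀ n, sm A (quotPowπ A I M n) V x = 0) →
        ∃ (V' : (Spec (CommRingCat.of A)).Opens) (h : Admissible A I U V' ∧ V' ≤ V),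
          sr A M h.2 x = 0) ∧
  ∀ y : ∀ n, Sec A (quotPow A I M n) U,
    (∀ n, sm A (quotPowTrans A I M n) U (y (n + 1)) = y n) →
      ∃ (V : (Spec (CommRingCat.of A)).Opens) (hV : Admissible A I U V) (x : Sec A M V),
        ∀ n, sr A (quotPow A I M n) hV.1 (y n) = sm A (quotPowπ A I M n) V x

lemma fcb_of (M : Type u) [AddCommGroup M] [Module A M] (U : (Spec (CommRingCat.of A)).Opens)
    (h : FormalCohColimBijective A I M 0 U) : FCB A I M U := by
  refine ⟨fun V hV x hx => ?_, fun y hy => ?_⟩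
  · obtain ⟨V', h', hres⟩ := h.1 V hV (cl A M V x) (fun n => by
      rw [HVmap_cl, hx n, map_zero])
    refine ⟨V', h', ?_⟩
    rw [HVres_cl] at hres
    exact (AddEquiv.map_eq_zero_iff (cl A M V')).mp hres
  · obtain ⟨V, hV, x, hx⟩ := h.2 (fun n => cl A (quotPow A I M n) U (y n)) (fun n => by
      rw [HVmap_cl, hy n])
    refine ⟨V, hV, (cl A M V).symm x, fun n => ?_⟩
    have h1 := hx n
    rw [HVres_cl, ← (cl A M V).apply_symm_apply x, HVmap_cl] at h1
    exact (cl A (quotPow A I M n) V).injective h1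

lemma of_fcb (M : Type u) [AddCommGroup M] [Module A M] (U : (Spec (CommRingCat.of A)).Opens)
    (h : FCB A I M U) : FormalCohColimBijective A I M 0 U := by
  refine ⟨fun V hV x hx => ?_, fun y hy => ?_⟩
  · obtain ⟨x, rfl⟩ := (cl A M V).surjective x
    obtain ⟨V', h', hres⟩ := h.1 V hV x (fun n => by
      have := hx n
      rw [HVmap_cl] at this
      exact (AddEquiv.map_eq_zero_iff (cl A (quotPow A I M n) V)).mp this)
    refine ⟨V', h', ?_⟩
    rw [HVres_cl, hres, map_zero]
  · obtain ⟨V, hV, x, hx⟩ := h.2 (fun n => (cl A (quotPow A I M n) U).symm (y n)) (fun n => by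
      apply (cl A (quotPow A I M n) U).injective
      rw [← HVmap_cl, AddEquiv.apply_symm_apply, AddEquiv.apply_symm_apply]
      exact hy n)
    refine ⟨V, hV, cl A M V x, fun n => ?_⟩
    rw [HVmap_cl, ← hx n, ← HVres_cl, AddEquiv.apply_symm_apply]

end FCB

section Chase

variable (I : Ideal A) (U : (Spec (CommRingCat.of A)).Opens)

lemma tr_compat (M : Type u) [AddCommGroup M] [Module A M] (y : ∀ n, Sec A (quotPow A I M n) U)
    (hy : ∀ n, sm A (quotPowTrans A I M n) U (y (n + 1)) = y n) {a b : ℕ} (h : b ≤ a) :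
    sm A (tr A I M h) U (y a) = y b := by
  induction a, h using Nat.le_induction with
  | base => rw [tr_refl, sm_id]
  | succ a h ih => rw [tr_succ A I h, sm_comp, hy a, ih]

variable [IsNoetherianRing A]
  {M' M M'' : Type u} [AddCommGroup M'] [Module A M'] [AddCommGroup M] [Module A M]
  [AddCommGroup M''] [Module A M''] [Module.Finite A M]
  (f : M' →ₗ[A] M) (g : M →ₗ[A] M'') (hf : Function.Injective f) (hg : Function.Surjective g)
  (hfg : LinearMap.range f = LinearMap.ker g)

include hf hg hfg in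
theorem chase (hM : FCB A I M U) (hM'' : FCB A I M'' U) : FCB A I M' U := by
  have hgf : g ∘ₗ f = 0 := by
    ext m
    exact (hfg ▸ LinearMap.mem_range_self f m : f m ∈ LinearMap.ker g)
  refine ⟨fun V hV x hx => ?_, fun y hy => ?_⟩
  · have h1 : ∀ n, sm A (quotPowπ A I M n) V (sm A f V x) = 0 := by
      intro n
      rw [← sm_comp, ← qmap_comp_π A I f n, sm_comp, hx n, map_zero]
    obtain ⟨V', h', hres⟩ := hM.1 V hV (sm A f V x) h1
    refine ⟨V', h', ?_⟩
    rw [sm_sr] at hres
    exact sm_injective A f hf V' (hres.trans (map_zero _).symm)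
  · have hzc : ∀ n, sm A (quotPowTrans A I M n) U (sm A (qmap A I f (n + 1)) U (y (n + 1))) =
        sm A (qmap A I f n) U (y n) := by
      intro n
      rw [← sm_comp, ← qmap_comp_trans, sm_comp, hy n]
    obtain ⟨V, hV, x, hx⟩ := hM.2 (fun n => sm A (qmap A I f n) U (y n)) hzc
    have hgx : ∀ n, sm A (quotPowπ A I M'' n) V (sm A g V x) = 0 := by
      intro n
      rw [← sm_comp, ← qmap_comp_π A I g n, sm_comp, ← hx n, sm_sr, ← sm_comp,
        qmap_comp_qmap_zero A I f g hgf n, sm_zero]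
    obtain ⟨V', ⟨hV'a, hV'V⟩, hres⟩ := hM''.1 V hV (sm A g V x) hgx
    rw [sm_sr] at hres
    obtain ⟨x', hx'⟩ := sm_exact A f g hf hg hfg V' (sr A M hV'V x) hres
    refine ⟨V', hV'a, x', fun n => ?_⟩
    obtain ⟨c, hc⟩ := artin_rees A I f hf
    have hd0 : ∀ m, sm A (qmap A I f m) V'
        (sr A (quotPow A I M' m) hV'a.1 (y m) - sm A (quotPowπ A I M' m) V' x') = 0 := by
      intro m
      rw [map_sub, ← sm_sr, ← sm_comp, qmap_comp_π, sm_comp, hx', ← sm_sr, ← hx m, sr_sr, sub_self]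
    have hdc : sm A (tr A I M' (Nat.le_add_right n c)) V'
        (sr A (quotPow A I M' (n + c)) hV'a.1 (y (n + c)) - sm A (quotPowπ A I M' (n + c)) V' x') =
        sr A (quotPow A I M' n) hV'a.1 (y n) - sm A (quotPowπ A I M' n) V' x' := by
      rw [map_sub, ← sm_sr, tr_compat A I U M' y hy, ← sm_comp, tr_comp_π]
    have h0 : sr A (quotPow A I M' n) hV'a.1 (y n) - sm A (quotPowπ A I M' n) V' x' = 0 := by
      rw [← hdc]
      exact sm_eq_zero_of_ker_le A (qmap A I f (n + c)) (tr A I M' (Nat.le_add_right n c))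
        (ker_qmap_le_ker_tr A I f c hc n) V' _ (hd0 (n + c))
    exact sub_eq_zero.mp h0

end Chase

end Groth.Agent.Lib.Helper98.FormalSec
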