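import Groth.Agent.Lib.Helper98.GrCechLoc
import Groth.Agent.Lib.Helper98.CechTheory
import Groth.Agent.Lib.Helper98.LerayNatSch
import Groth.Agent.Lib.Helper53.Restrict

/-!
# helper98: the Čech complexes of `M(n)~` (all `n`) on `Proj` vs the Čech complex of `M~` on `Spec`

For homogeneous `fs` of positive degrees:
`⨁ n, Ȟ^p({D₊(f_i)}, M(n)~) ≃+ Ȟ^p({D(f_i)}, M~)` (`cech_bijection`).
-/

set_option autoImplicit false
universe u
open CategoryTheory CategoryTheory.Limits AlgebraicGeometry TopologicalSpace Opposite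

namespace Groth.Agent.Lib.Helper98.GrCechCover

open Groth.Agent.Lib.Helper98.GrCechLoc Groth.Agent.Lib.Helper98.CechCompare
open Groth.Agent.Lib.Helper98.CechTheory

variable (R : CommRingCat.{u}) {σ : Type u} [SetLike σ R] [AddSubgroupClass σ R] (𝒜 : ℕ → σ)
  [GradedRing 𝒜]
variable (M : ModuleCat.{u} R) {τ : Type u} [SetLike τ M] [AddSubgroupClass τ M]
  (ℳ : ℕ → τ) [SetLike.GradedSMul 𝒜 ℳ] [DirectSum.Decomposition ℳ]
variable (fs : List R) (dg : Fin fs.length → ℕ) (hdg : ∀ i, 0 < dg i ∧ fs.get i ∈ 𝒜 (dg i))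

/-- the cover of (an open of) `Proj` -/
abbrev UP : ULift.{u} (Fin fs.length) → (Proj 𝒜).Opens := fun i => Proj.basicOpen 𝒜 (fs.get i.down)

/-- the cover of (an open of) `Spec` -/
abbrev VS : ULift.{u} (Fin fs.length) → (Spec R).Opens :=
  fun i => PrimeSpectrum.basicOpen (fs.get i.down)

/-- the product of the functions of a tuple -/
noncomputable def gi {k : ℕ} (i : Fin (k + 1) → ULift.{u} (Fin fs.length)) : R :=
  ∏ j, fs.get (i j).down

/-- its degree -/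
def di {k : ℕ} (i : Fin (k + 1) → ULift.{u} (Fin fs.length)) : ℕ := ∑ j, dg (i j).down

variable {k : ℕ} (i : Fin (k + 1) → ULift.{u} (Fin fs.length))

include hdg in
lemma gi_mem : gi R fs i ∈ 𝒜 (di R fs dg i) :=
  SetLike.prod_mem_graded 𝒜 (fun j => dg (i j).down) (fun j => fs.get (i j).down)
    (fun j _ => (hdg (i j).down).2)

include hdg in
lemma di_pos : 0 < di R fs dg i :=
  Finset.sum_pos (fun j _ => (hdg (i j).down).1) Finset.univ_nonempty

lemma mem_piU (y : Proj 𝒜) :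
    y ∈ (∏ᶜ (UP R 𝒜 fs ∘ i) : (Proj 𝒜).Opens) ↔ gi R fs i ∉ y.asHomogeneousIdeal := by
  rw [piObj_eq_iInf, ← SetLike.mem_coe, Opens.coe_iInf, Set.mem_iInter]
  have h : gi R fs i ∈ y.asHomogeneousIdeal.toIdeal ↔
      ∃ j ∈ (Finset.univ : Finset (Fin (k + 1))), fs.get (i j).down ∈ y.asHomogeneousIdeal.toIdeal :=
    Ideal.IsPrime.prod_mem_iff (hp := y.isPrime)
  constructor
  · intro h1 h2
    obtain ⟨j, _, hj⟩ := h.1 h2
    exact (Proj.mem_basicOpen 𝒜 _ y).1 (h1 j) hj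
  · intro h1 j
    exact (Proj.mem_basicOpen 𝒜 _ y).2 (fun hj => h1 (h.2 ⟨j, Finset.mem_univ _, hj⟩))

lemma piV_eq : (∏ᶜ (VS R fs ∘ i) : (Spec R).Opens) = PrimeSpectrum.basicOpen (gi R fs i) := by
  rw [piObj_eq_iInf]
  ext y
  rw [Opens.coe_iInf, Set.mem_iInter]
  have h : gi R fs i ∈ (show PrimeSpectrum R from y).asIdeal ↔
      ∃ j ∈ (Finset.univ : Finset (Fin (k + 1))),
        fs.get (i j).down ∈ (show PrimeSpectrum R from y).asIdeal :=
    Ideal.IsPrime.prod_mem_iff (hp := (show PrimeSpectrum R from y).isPrime)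
  constructor
  · intro h1 h2
    obtain ⟨j, _, hj⟩ := h.1 h2
    exact h1 j hj
  · intro h1 j hj
    exact h1 (h.2 ⟨j, Finset.mem_univ _, hj⟩)

section Compat

include hdg in
/-- the compatible family of maps for the two covers -/
noncomputable def compat (n : ℤ) :
    Compat (X := (Proj 𝒜).toTopCat) (Y := (Spec R).toTopCat) (UP R 𝒜 fs) (VS R fs)
      (Coh.toAb (GrMod.tilde 𝒜 ℳ n)).obj (Coh.toAb (tilde M)).obj where
  θ k i := AddCommGrpCat.ofHom (theta (ℳ := ℳ) (M := M) (di_pos R 𝒜 fs dg hdg i)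
    (gi_mem R 𝒜 fs dg hdg i) n _ (mem_piU R 𝒜 fs i) _ (piV_eq R fs i).le)
  comm k m f i a b := by
    ext s
    exact theta_res (ℳ := ℳ) (M := M) (di_pos R 𝒜 fs dg hdg (i ∘ f)) (di_pos R 𝒜 fs dg hdg i)
      (gi_mem R 𝒜 fs dg hdg (i ∘ f)) (gi_mem R 𝒜 fs dg hdg i) n _ _
      (mem_piU R 𝒜 fs (i ∘ f)) (mem_piU R 𝒜 fs i) _ _ (piV_eq R fs (i ∘ f)).le (piV_eq R fs i).le
      a b s

end Compat

section Main

omit [DirectSum.Decomposition ℳ] in
lemma theta_bijective' [DirectSum.Decomposition ℳ] {d : ℕ} (hd : 0 < d) {g : R} (hg : g ∈ 𝒜 d)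
    (W : (Proj 𝒜).Opens)
    (hW : ∀ y, y ∈ W ↔ g ∉ y.asHomogeneousIdeal) (W' : (Spec R).Opens)
    (hW'eq : W' = PrimeSpectrum.basicOpen g) :
    Function.Bijective (DirectSum.toAddMonoid (fun n : ℤ =>
      theta (ℳ := ℳ) (M := M) hd hg n W hW W' hW'eq.le)) := by
  subst hW'eq
  exact theta_bijective hd hg W hW

include hdg in
/-- **`⨁ n, Ȟ^p({D₊(f_i)}, M(n)~) ≃ Ȟ^p({D(f_i)}, M~)`** -/
theorem cech_bijective (p : ℕ) :
    Function.Bijective (DirectSum.toAddMonoid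
      (fun n : ℤ => (HomologicalComplex.homologyMap (compat R 𝒜 M ℳ fs dg hdg n).map p).hom) :
        (DirectSum ℤ (fun n => (CohTop.cechH (X := (Proj 𝒜).toTopCat)
          (Coh.toAb (GrMod.tilde 𝒜 ℳ n)).obj (UP R 𝒜 fs) p : Type u))) →+
          (CohTop.cechH (X := (Spec R).toTopCat) (Coh.toAb (tilde M)).obj (VS R fs) p : Type u)) :=
  directSum_cechH (X := (Proj 𝒜).toTopCat) (Y := (Spec R).toTopCat) (U := UP R 𝒜 fs)
    (V := VS R fs) (fun n : ℤ => (Coh.toAb (GrMod.tilde 𝒜 ℳ n)).obj)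
    (fun n => compat R 𝒜 M ℳ fs dg hdg n)
    (fun k i => theta_bijective' R 𝒜 M ℳ (di_pos R 𝒜 fs dg hdg i) (gi_mem R 𝒜 fs dg hdg i) _
      (mem_piU R 𝒜 fs i) _ (piV_eq R fs i)) p

end Main

section Affine

include hdg in
lemma isAffineOpen_iInf_UP : IsAffineOpen (⨅ j, UP R 𝒜 fs (i j)) := by
  have h : (⨅ j, UP R 𝒜 fs (i j)) = Proj.basicOpen 𝒜 (gi R fs i) := by
    rw [← piObj_eq_iInf (UP R 𝒜 fs) k i]
    ext y
    exact (mem_piU R 𝒜 fs i y).trans (Proj.mem_basicOpen 𝒜 _ y).symm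
  rw [h]
  exact Proj.isAffineOpen_basicOpen 𝒜 _ (gi_mem R 𝒜 fs dg hdg i) (di_pos R 𝒜 fs dg hdg i)

lemma isAffineOpen_iInf_VS : IsAffineOpen (⨅ j, VS R fs (i j)) := by
  rw [← piObj_eq_iInf (VS R fs) k i, piV_eq, ← basicOpen_eq_of_affine]
  exact (isAffineOpen_top (Spec R)).basicOpen _

lemma iSup_UP : iSup (UP R 𝒜 fs) = ⨆ j : Fin fs.length, Proj.basicOpen 𝒜 (fs.get j) := by
  apply le_antisymm
  · exact iSup_le fun j => le_iSup (fun j : Fin fs.length => Proj.basicOpen 𝒜 (fs.get j)) j.down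
  · exact iSup_le fun j => le_iSup (UP R 𝒜 fs) ⟨j⟩

end Affine

section General

open Groth.Agent.Lib.Helper98.LerayNatSch

/-- cohomology over an open = cohomology of the restriction (general module: cheap defeq check) -/
theorem HU_equiv_HHon (X : Scheme.{u}) (N : X.Modules) (U : X.Opens) (p : ℕ) :
    Nonempty (CohTop.HU (Coh.toAb N) p U ≃+ Coh.HHon X N U p) :=
  Groth.Agent.Lib.Helper53.nonempty_HU_equiv_H_restr (X := X.toTopCat) U (Coh.toAb N) p

/-- Čech cohomology for a cover with affine finite intersections computes `H^p` of the union -/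
theorem cech_equiv_HHon (X : Scheme.{u}) {ι : Type u} (U : ι → X.Opens)
    (hU : ∀ (n : ℕ) (a : Fin (n + 1) → ι), IsAffineOpen (iInf fun k => U (a k)))
    (N : X.Modules) [N.IsQuasicoherent] (W : X.Opens) (hW : iSup U = W) (p : ℕ) :
    Nonempty (Coh.HHon X N W p ≃+ CohTop.cechH (X := X.toTopCat) (Coh.toAb N).obj U p) := by
  subst hW
  obtain ⟨e⟩ := HU_equiv_HHon X N (iSup U) p
  exact ⟨((cechHU U hU N p).trans e).symm⟩

/-- abstract assembly -/
theorem assemble {β₁ β₂ : ℤ → Type u} [∀ n, AddCommGroup (β₁ n)] [∀ n, AddCommGroup (β₂ n)]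
    {C D : Type u} [AddCommGroup C] [AddCommGroup D] (e : ∀ n, Nonempty (β₁ n ≃+ β₂ n))
    (f : ∀ n, β₂ n →+ C) (hf : Function.Bijective (DirectSum.toAddMonoid f)) (g : Nonempty (C ≃+ D)) :
    Nonempty ((DirectSum ℤ β₁) ≃+ D) := by
  obtain ⟨g⟩ := g
  exact ⟨((DFinsupp.mapRange.addEquiv (fun n => Classical.choice (e n))).trans
    (AddEquiv.ofBijective _ hf)).trans g⟩

end General

section Final

include hdg in
/-- **`⨁ n, H^p(⋃ D₊(f_i), M(n)~) ≃ H^p(⋃ D(f_i), M~)`** -/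
theorem projSpec (p : ℕ) :
    Nonempty ((DirectSum ℤ (fun n : ℤ => Coh.HHon (Proj 𝒜) (GrMod.tilde 𝒜 ℳ n)
        (⨆ j : Fin fs.length, Proj.basicOpen 𝒜 (fs.get j)) p)) ≃+
      CohTop.HU (Coh.toAb (tilde M)) p (iSup (VS R fs))) := by
  have hU : ∀ (n : ℕ) (a : Fin (n + 1) → ULift.{u} (Fin fs.length)),
      IsAffineOpen (iInf fun k => UP R 𝒜 fs (a k)) :=
    fun n a => isAffineOpen_iInf_UP R 𝒜 fs dg hdg a
  have hV : ∀ (n : ℕ) (a : Fin (n + 1) → ULift.{u} (Fin fs.length)),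
      IsAffineOpen (iInf fun k => VS R fs (a k)) :=
    fun n a => isAffineOpen_iInf_VS R fs a
  have hq : ∀ n : ℤ, (GrMod.tilde 𝒜 ℳ n).IsQuasicoherent :=
    fun n => Groth.Agent.Lib.Helper60.TildeSec.isQuasicoherent_tilde 𝒜 ℳ n
  refine assemble
    (fun n => haveI := hq n; cech_equiv_HHon (Proj 𝒜) (UP R 𝒜 fs) hU (GrMod.tilde 𝒜 ℳ n) _
      (iSup_UP R 𝒜 fs) p)
    (fun n : ℤ => (HomologicalComplex.homologyMap (compat R 𝒜 M ℳ fs dg hdg n).map p).hom)
    (cech_bijective R 𝒜 M ℳ fs dg hdg p) ?_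
  exact ⟨Groth.Agent.Lib.Helper98.LerayNatSch.cechHU (VS R fs) hV (tilde M) p⟩

end Final

end Groth.Agent.Lib.Helper98.GrCechCover
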