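import Groth.Agent.Lib.Helper98.GrCechCover

/-!
# helper98: degree-zero part of the Čech comparison: sections over the unions

* `homologyMap_augH`: compatibility of the augmentation `P(⋃ U) → Ȟ^0(U, P)` with `Compat.map`
* `Psi`, `Psi_bijective`, `Psi_eq`: for sheaves `Pn n` on `X`, `Q` on `Y` with compatible families that
  exhibit `Q(∏ V∘i)` as the direct sum of the `Pn n (∏ U∘i)`:
  `⨁ n, Pn n (⋃ U) ≃ Q(⋃ V)`.
-/

set_option autoImplicit false
universe u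
open CategoryTheory CategoryTheory.Limits AlgebraicGeometry TopologicalSpace Opposite

namespace Groth.Agent.Lib.Helper98.GrCechH0

open Groth.Agent.Lib.Helper98.CechCompare Groth.Agent.Lib.Helper26.CechLES

section General

variable {X Y : TopCat.{u}} {ι : Type u} {U : ι → Opens X} {V : ι → Opens Y}
  {P : (Opens X)ᵒᵖ ⥤ AddCommGrpCat.{u}} {Q : (Opens Y)ᵒᵖ ⥤ AddCommGrpCat.{u}}

lemma homologyMap_augH (c : Compat U V P Q) (s : P.obj (op (iSup U))) (t : Q.obj (op (iSup V)))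
    (h : ∀ a : Fin 1 → ι, Q.map (homOfLE (prod_le_iSup V 0 a)).op t =
      c.θ 0 a (P.map (homOfLE (prod_le_iSup U 0 a)).op s)) :
    HomologicalComplex.homologyMap c.map 0 (augH U P s) = augH V Q t := by
  have h0 : c.map.f 0 (aug₀ U P s) = aug₀ V Q t := by
    apply pi_ext (A := fun a : Fin 1 → ι => Q.obj (op (∏ᶜ (V ∘ a))))
    intro a
    exact (c.π_map 0 a (aug₀ U P s)).trans
      ((congrArg (c.θ 0 a) (π_aug₀ U P a s)).trans ((h a).symm.trans (π_aug₀ V Q a t).symm))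
  have e1 : HomologicalComplex.homologyMap c.map 0 (augH U P s) =
      ((cechComplexFunctor V).obj Q).homologyπ 0 (HomologicalComplex.cyclesMap c.map 0
        (((cechComplexFunctor U).obj P).liftCycles (aug₀ U P) 1 (by simp) (aug₀_d U P) s)) := by
    have := HomologicalComplex.homologyπ_naturality c.map 0
    exact ConcreteCategory.congr_hom this _
  refine e1.trans ?_
  change _ = ((cechComplexFunctor V).obj Q).homologyπ 0
    (((cechComplexFunctor V).obj Q).liftCycles (aug₀ V Q) 1 (by simp) (aug₀_d V Q) t)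
  refine congrArg (((cechComplexFunctor V).obj Q).homologyπ 0) ?_
  have hmono : Function.Injective (((cechComplexFunctor V).obj Q).iCycles 0) :=
    (AddCommGrpCat.mono_iff_injective _).1 inferInstance
  apply hmono
  have e2 : ((cechComplexFunctor V).obj Q).iCycles 0 (HomologicalComplex.cyclesMap c.map 0
      (((cechComplexFunctor U).obj P).liftCycles (aug₀ U P) 1 (by simp) (aug₀_d U P) s)) =
      c.map.f 0 (((cechComplexFunctor U).obj P).iCycles 0
        (((cechComplexFunctor U).obj P).liftCycles (aug₀ U P) 1 (by simp) (aug₀_d U P) s)) :=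
    ConcreteCategory.congr_hom (HomologicalComplex.cyclesMap_i c.map 0) _
  exact (e2.trans ((congrArg (c.map.f 0) (iCycles_lift_apply U P s)).trans h0)).trans
    (iCycles_lift_apply V Q t).symm

end General

section Psi

open DirectSum

variable {X Y : TopCat.{u}} {ι : Type u} [Finite ι] {U : ι → Opens X} {V : ι → Opens Y}
  (Pn : ℤ → CohTop.Ab X) (Q : CohTop.Ab Y) (c : ∀ n, Compat U V (Pn n).obj Q.obj)

/-- the map `Pn n (⋃ U) → Q(⋃ V)` induced on `Ȟ^0` -/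
noncomputable def Psi (n : ℤ) : (Pn n).obj.obj (op (iSup U)) →+ Q.obj.obj (op (iSup V)) :=
  ((augEquiv V Q).symm.toAddMonoidHom.comp
    (HomologicalComplex.homologyMap (c n).map 0).hom).comp (augEquiv U (Pn n)).toAddMonoidHom

omit [Finite ι] in
lemma Psi_eq (n : ℤ) (s : (Pn n).obj.obj (op (iSup U))) (t : Q.obj.obj (op (iSup V)))
    (h : ∀ a : Fin 1 → ι, Q.obj.map (homOfLE (prod_le_iSup V 0 a)).op t =
      (c n).θ 0 a ((Pn n).obj.map (homOfLE (prod_le_iSup U 0 a)).op s)) :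
    Psi Pn Q c n s = t := by
  have h1 : HomologicalComplex.homologyMap (c n).map 0 (augEquiv U (Pn n) s) = augEquiv V Q t :=
    homologyMap_augH (c n) s t h
  change (augEquiv V Q).symm (HomologicalComplex.homologyMap (c n).map 0 (augEquiv U (Pn n) s)) = t
  rw [h1, AddEquiv.symm_apply_apply]

theorem Psi_bijective
    (h : ∀ (k : ℕ) (i : Fin (k + 1) → ι),
      Function.Bijective (DirectSum.toAddMonoid (fun n => ((c n).θ k i).hom))) :
    Function.Bijective (DirectSum.toAddMonoid (Psi Pn Q c)) := by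
  have e : DirectSum.toAddMonoid (Psi Pn Q c) =
      ((augEquiv V Q).symm.toAddMonoidHom.comp
        (DirectSum.toAddMonoid (fun n => (HomologicalComplex.homologyMap (c n).map 0).hom))).comp
        (DirectSum.map (fun n => (augEquiv U (Pn n)).toAddMonoidHom)) := by
    apply DirectSum.addHom_ext
    intro n x
    simp only [DirectSum.toAddMonoid_of, AddMonoidHom.comp_apply, DirectSum.map_of]
    rfl
  rw [e]
  have h1 := directSum_cechH (fun n => (Pn n).obj) c h 0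
  have h2 : Function.Bijective (DirectSum.map (fun n => (augEquiv U (Pn n)).toAddMonoidHom)) :=
    ⟨(DirectSum.map_injective _).2 (fun n => (augEquiv U (Pn n)).injective),
      (DirectSum.map_surjective _).2 (fun n => (augEquiv U (Pn n)).surjective)⟩
  exact ((augEquiv V Q).symm.bijective.comp h1).comp h2

end Psi

section ProjSpec

open Groth.Agent.Lib.Helper98.GrCechLoc Groth.Agent.Lib.Helper98.GrCechCover

variable (R : CommRingCat.{u}) {σ : Type u} [SetLike σ R] [AddSubgroupClass σ R] (𝒜 : ℕ → σ)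
  [GradedRing 𝒜]
variable (M : ModuleCat.{u} R) {τ : Type u} [SetLike τ M] [AddSubgroupClass τ M]
  (ℳ : ℕ → τ) [SetLike.GradedSMul 𝒜 ℳ] [DirectSum.Decomposition ℳ]
variable (fs : List R) (dg : Fin fs.length → ℕ) (hdg : ∀ i, 0 < dg i ∧ fs.get i ∈ 𝒜 (dg i))

omit [DirectSum.Decomposition ℳ] in
lemma theta_alpha [DirectSum.Decomposition ℳ] {d : ℕ} (hd : 0 < d) {g : R} (hg : g ∈ 𝒜 d) (i : ℕ)
    (m : ℳ i) (W : (Proj 𝒜).Opens) (hW : ∀ y, y ∈ W ↔ g ∉ y.asHomogeneousIdeal)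
    (W' : (Spec R).Opens) (hW' : W' ≤ PrimeSpectrum.basicOpen g)
    (s : Γ(GrMod.tilde 𝒜 ℳ (i : ℤ), W))
    (hs : ∀ y : W, GrMod.val s y = LocalizedModule.mk (m : M) 1) :
    theta (ℳ := ℳ) (M := M) hd hg (i : ℤ) W hW W' hW' s = tO R M W' m := by
  refine isRep_unique hd hg (i : ℤ) W hW W' hW' s _ _ ?_ (theta_spec hd hg (i : ℤ) W hW W' hW' s)
  refine ⟨0, i, m, m.2, by simp, fun y => ?_, by rw [pow_zero, one_smul]⟩
  rw [hs y]
  congr 1
  exact Subtype.ext (pow_zero g).symm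

/-- restriction from `⊤` to the union of the cover -/
noncomputable def rho (n : ℤ) : Γ(GrMod.tilde 𝒜 ℳ n, (⊤ : (Proj 𝒜).Opens)) →+
    (Coh.toAb (GrMod.tilde 𝒜 ℳ n)).obj.obj (op (iSup (UP R 𝒜 fs))) :=
  ((Coh.toAb (GrMod.tilde 𝒜 ℳ n)).obj.map (homOfLE (le_top : iSup (UP R 𝒜 fs) ≤ ⊤)).op).hom

omit [DirectSum.Decomposition ℳ] [SetLike.GradedSMul 𝒜 ℳ] in
lemma bijective_map_of_eq {Z : TopCat.{u}} (F : (Opens Z)ᵒᵖ ⥤ AddCommGrpCat.{u}) {W₁ W₂ : Opens Z}
    (h : W₁ = W₂) (hle : W₁ ≤ W₂) : Function.Bijective (F.map (homOfLE hle).op) := by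
  subst h
  have : F.map (homOfLE hle).op = 𝟙 _ := by
    rw [← F.map_id]
    rfl
  rw [this]
  exact Function.bijective_id

lemma rho_bijective (hcov : iSup (UP R 𝒜 fs) = ⊤) (n : ℤ) :
    Function.Bijective (rho R 𝒜 M ℳ fs n) :=
  bijective_map_of_eq (Z := (Proj 𝒜).toTopCat) (Coh.toAb (GrMod.tilde 𝒜 ℳ n)).obj hcov le_top

include hdg in
/-- the comparison map `Γ(Proj, M(n)~) → Γ(⋃ D(f_i), M~)` -/
noncomputable def PsiTop (n : ℤ) : Γ(GrMod.tilde 𝒜 ℳ n, (⊤ : (Proj 𝒜).Opens)) →+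
    (Coh.toAb (tilde M)).obj.obj (op (iSup (VS R fs))) :=
  (Psi (X := (Proj 𝒜).toTopCat) (Y := (Spec R).toTopCat) (U := UP R 𝒜 fs) (V := VS R fs)
    (fun n => Coh.toAb (GrMod.tilde 𝒜 ℳ n)) (Coh.toAb (tilde M))
    (fun n => compat R 𝒜 M ℳ fs dg hdg n) n).comp (rho R 𝒜 M ℳ fs n)

theorem PsiTop_bijective (hcov : iSup (UP R 𝒜 fs) = ⊤) :
    Function.Bijective (DirectSum.toAddMonoid (PsiTop R 𝒜 M ℳ fs dg hdg)) := by
  have e : DirectSum.toAddMonoid (PsiTop R 𝒜 M ℳ fs dg hdg) =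
      (DirectSum.toAddMonoid (Psi (X := (Proj 𝒜).toTopCat) (Y := (Spec R).toTopCat)
        (U := UP R 𝒜 fs) (V := VS R fs)
        (fun n => Coh.toAb (GrMod.tilde 𝒜 ℳ n)) (Coh.toAb (tilde M))
        (fun n => compat R 𝒜 M ℳ fs dg hdg n))).comp
        (DirectSum.map (fun n => rho R 𝒜 M ℳ fs n)) := by
    apply DirectSum.addHom_ext
    intro n x
    simp only [DirectSum.toAddMonoid_of, AddMonoidHom.comp_apply, DirectSum.map_of]
    rfl
  rw [e]
  have h1 := Psi_bijective (X := (Proj 𝒜).toTopCat) (Y := (Spec R).toTopCat)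
    (U := UP R 𝒜 fs) (V := VS R fs)
    (fun n => Coh.toAb (GrMod.tilde 𝒜 ℳ n)) (Coh.toAb (tilde M))
    (fun n => compat R 𝒜 M ℳ fs dg hdg n)
    (fun k i => theta_bijective' R 𝒜 M ℳ (di_pos R 𝒜 fs dg hdg i) (gi_mem R 𝒜 fs dg hdg i) _
      (mem_piU R 𝒜 fs i) _ (piV_eq R fs i))
  have h2 : Function.Bijective (DirectSum.map (fun n => rho R 𝒜 M ℳ fs n)) :=
    ⟨(DirectSum.map_injective _).2 (fun n => (rho_bijective R 𝒜 M ℳ fs hcov n).1),
      (DirectSum.map_surjective _).2 (fun n => (rho_bijective R 𝒜 M ℳ fs hcov n).2)⟩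
  exact h1.comp h2

theorem PsiTop_alpha (i : ℕ) (m : ℳ i) :
    PsiTop R 𝒜 M ℳ fs dg hdg (i : ℤ) (GrMod.alpha 𝒜 ℳ i m) = tO R M (iSup (VS R fs)) m := by
  refine Psi_eq (X := (Proj 𝒜).toTopCat) (Y := (Spec R).toTopCat)
    (U := UP R 𝒜 fs) (V := VS R fs)
    (fun n => Coh.toAb (GrMod.tilde 𝒜 ℳ n)) (Coh.toAb (tilde M))
    (fun n => compat R 𝒜 M ℳ fs dg hdg n) (i : ℤ) _ _ ?_
  intro a
  exact (theta_alpha R 𝒜 M ℳ (di_pos R 𝒜 fs dg hdg a) (gi_mem R 𝒜 fs dg hdg a) i m _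
    (mem_piU R 𝒜 fs a) _ (piV_eq R fs a).le _ (fun y => rfl)).symm

omit [DirectSum.Decomposition ℳ] [SetLike.GradedSMul 𝒜 ℳ] in
theorem quot_congr {G H : Type u} [AddCommGroup G] [AddCommGroup H] (G' : AddSubgroup G)
    (H' : AddSubgroup H) (e : G ≃+ H) (he : G'.map e.toAddMonoidHom = H') :
    Nonempty (G ⧸ G' ≃+ H ⧸ H') :=
  ⟨QuotientAddGroup.congr G' H' e he⟩

include hdg in
theorem coker_equiv (hcov : iSup (UP R 𝒜 fs) = ⊤) :
    Nonempty ((DirectSum ℤ (fun n : ℤ => ((GrMod.tilde 𝒜 ℳ n).val.obj (op ⊤) : Type u)) ⧸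
        AddSubgroup.closure (⋃ i : ℕ, Set.range (fun m : ℳ i =>
          DirectSum.of (fun n : ℤ => ((GrMod.tilde 𝒜 ℳ n).val.obj (op ⊤) : Type u)) (i : ℤ)
            (GrMod.alpha 𝒜 ℳ i m)))) ≃+
      ((Coh.toAb (tilde M)).obj.obj (op (iSup (VS R fs))) ⧸
        (tO R M (iSup (VS R fs))).toAddMonoidHom.range)) := by
  classical
  let Ψ := AddEquiv.ofBijective (DirectSum.toAddMonoid (PsiTop R 𝒜 M ℳ fs dg hdg))
    (PsiTop_bijective R 𝒜 M ℳ fs dg hdg hcov)
  have hΨ : ∀ (i : ℕ) (m : ℳ i), Ψ (DirectSum.of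
      (fun n : ℤ => ((GrMod.tilde 𝒜 ℳ n).val.obj (op ⊤) : Type u)) (i : ℤ) (GrMod.alpha 𝒜 ℳ i m)) =
      tO R M (iSup (VS R fs)) m := by
    intro i m
    refine (DirectSum.toAddMonoid_of _ _ _).trans ?_
    exact PsiTop_alpha R 𝒜 M ℳ fs dg hdg i m
  apply quot_congr _ _ Ψ
  refine (AddMonoidHom.map_closure Ψ.toAddMonoidHom _).trans ?_
  apply le_antisymm
  · rw [AddSubgroup.closure_le]
    rintro _ ⟨x, hx, rfl⟩
    obtain ⟨i, hi⟩ := Set.mem_iUnion.1 hx
    obtain ⟨m, rfl⟩ := hi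
    exact ⟨(m : M), (hΨ i m).symm⟩
  · rintro _ ⟨m, rfl⟩
    change tO R M (iSup (VS R fs)) m ∈ _
    rw [← DirectSum.sum_support_decompose ℳ m, map_sum]
    apply sum_mem
    intro i _
    apply AddSubgroup.subset_closure
    refine ⟨_, Set.mem_iUnion.2 ⟨i, ⟨DirectSum.decompose ℳ m i, rfl⟩⟩, ?_⟩
    exact hΨ i _

end ProjSpec

end Groth.Agent.Lib.Helper98.GrCechH0
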