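import Groth.Agent.Lib.Helper60.TildeQCoh
import Groth.Agent.Lib.Helper98.CechCompare

/-!
# helper98: sections of `M(n)~` over `D₊(g)` (all `n`) vs sections of `M~` over `D(g) ⊆ Spec A`

For a graded module `M` over a graded ring `R` and `g` homogeneous of positive degree:
`⨁ n, Γ(D₊(g), M(n)~) ≃+ Γ(D(g), M~)` (`theta`, `theta_bijective`), naturally in `g` (`theta_res`).
-/

set_option autoImplicit false
universe u
open CategoryTheory AlgebraicGeometry TopologicalSpace Opposite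

namespace Groth.Agent.Lib.Helper98.GrCechLoc

open Groth.Agent.Lib.Helper60.TildeSec

variable (R : CommRingCat.{u}) {σ : Type u} [SetLike σ R] [AddSubgroupClass σ R] (𝒜 : ℕ → σ)
  [GradedRing 𝒜]
variable (M : ModuleCat.{u} R) {τ : Type u} [SetLike τ M] [AddSubgroupClass τ M]
  (ℳ : ℕ → τ) [SetLike.GradedSMul 𝒜 ℳ]

/-- `M → Γ(W', M~)` -/
noncomputable def tO (W' : (Spec R).Opens) : M →ₗ[R] Γ(tilde M, W') :=
  (tilde.toOpen M W').hom

lemma tO_res {W₁ W₂ : (Spec R).Opens} (i : W₂ ⟶ W₁) (m : M) :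
    (tilde M).presheaf.map i.op (tO R M W₁ m) = tO R M W₂ m := rfl

variable {R 𝒜 M ℳ}

lemma regular_pow {W' : (Spec R).Opens} {g : R} (hW' : W' ≤ PrimeSpectrum.basicOpen g) (K : ℕ)
    {v v' : Γ(tilde M, W')} (h : g ^ K • v = g ^ K • v') : v = v' :=
  ((tilde M).isSMulRegular_of_le_basicOpen hW').pow K h

lemma exists_pow_smul {W' : (Spec R).Opens} {g : R} (hW' : W' ≤ PrimeSpectrum.basicOpen g) (K : ℕ)
    (w : Γ(tilde M, W')) : ∃ v : Γ(tilde M, W'), g ^ K • v = w := by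
  have h := ((tilde M).isUnit_algebraMap_end_of_le_basicOpen g hW').pow K
  rw [← map_pow, Module.End.isUnit_iff] at h
  obtain ⟨v, hv⟩ := h.surjective w
  exact ⟨v, hv⟩

lemma pow_notMem {g : R} {W : (Proj 𝒜).Opens} (hW : ∀ y, y ∈ W ↔ g ∉ y.asHomogeneousIdeal) (K : ℕ)
    (y : W) : g ^ K ∈ y.1.asHomogeneousIdeal.toIdeal.primeCompl :=
  fun h => (hW y.1).1 y.2 (y.1.isPrime.mem_of_pow_mem K h)

/-- `v` is the fraction `m / g^K` representing the section `s` -/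
def IsRep (d : ℕ) (g : R) (n : ℤ) (W : (Proj 𝒜).Opens)
    (hW : ∀ y, y ∈ W ↔ g ∉ y.asHomogeneousIdeal) (W' : (Spec R).Opens)
    (s : Γ(GrMod.tilde 𝒜 ℳ n, W)) (v : Γ(tilde M, W')) : Prop :=
  ∃ (K e : ℕ) (m : M), m ∈ ℳ e ∧ (e : ℤ) = K * d + n ∧
    (∀ y : W, GrMod.val s y = LocalizedModule.mk m (⟨g ^ K, pow_notMem hW K y⟩ :
      y.1.asHomogeneousIdeal.toIdeal.primeCompl)) ∧
    g ^ K • v = tO R M W' m

variable [DirectSum.Decomposition ℳ]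

lemma exists_isRep {d : ℕ} (hd : 0 < d) {g : R} (hg : g ∈ 𝒜 d) (n : ℤ) (W : (Proj 𝒜).Opens)
    (hW : ∀ y, y ∈ W ↔ g ∉ y.asHomogeneousIdeal) (W' : (Spec R).Opens)
    (hW' : W' ≤ PrimeSpectrum.basicOpen g) (s : Γ(GrMod.tilde 𝒜 ℳ n, W)) :
    ∃ v : Γ(tilde M, W'), IsRep d g n W hW W' s v := by
  obtain ⟨K, e, m, hm, he, hval⟩ := exists_eq_frac 𝒜 ℳ hd hg W hW
    (show GrMod.sect 𝒜 ℳ n (op W) from s)
  obtain ⟨v, hv⟩ := exists_pow_smul hW' K (tO R M W' m)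
  exact ⟨v, K, e, m, hm, he, hval, hv⟩

/-- general uniqueness / compatibility with restriction -/
lemma isRep_res {d₁ d₂ : ℕ} (hd₂ : 0 < d₂) {g₁ g₂ : R} (hg₁ : g₁ ∈ 𝒜 d₁) (hg₂ : g₂ ∈ 𝒜 d₂) (n : ℤ)
    (W₁ W₂ : (Proj 𝒜).Opens)
    (hW₁ : ∀ y, y ∈ W₁ ↔ g₁ ∉ y.asHomogeneousIdeal) (hW₂ : ∀ y, y ∈ W₂ ↔ g₂ ∉ y.asHomogeneousIdeal)
    (W₁' W₂' : (Spec R).Opens) (i : W₂ ⟶ W₁) (i' : W₂' ⟶ W₁')
    (h₁ : W₂' ≤ PrimeSpectrum.basicOpen g₁) (h₂ : W₂' ≤ PrimeSpectrum.basicOpen g₂)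
    (s : Γ(GrMod.tilde 𝒜 ℳ n, W₁)) (v : Γ(tilde M, W₁')) (v₂ : Γ(tilde M, W₂'))
    (hv : IsRep d₁ g₁ n W₁ hW₁ W₁' s v)
    (hv₂ : IsRep d₂ g₂ n W₂ hW₂ W₂' ((GrMod.tilde 𝒜 ℳ n).presheaf.map i.op s) v₂) :
    v₂ = (tilde M).presheaf.map i'.op v := by
  obtain ⟨K, e, m, hm, he, hval, hK⟩ := hv
  obtain ⟨K', e', m', hm', he', hval', hK'⟩ := hv₂
  -- the homogeneous element `z`
  have hz1 : g₂ ^ K' • m ∈ ℳ (K' • d₂ + e) :=
    SetLike.GradedSMul.smul_mem (SetLike.pow_mem_graded K' hg₂) hm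
  have hz2 : g₁ ^ K • m' ∈ ℳ (K • d₁ + e') :=
    SetLike.GradedSMul.smul_mem (SetLike.pow_mem_graded K hg₁) hm'
  have hdeg : K • d₁ + e' = K' • d₂ + e := by
    have : ((K • d₁ + e' : ℕ) : ℤ) = ((K' • d₂ + e : ℕ) : ℤ) := by
      push_cast
      simp only [smul_eq_mul]
      push_cast
      linarith
    exact_mod_cast this
  rw [hdeg] at hz2
  have hz : g₂ ^ K' • m - g₁ ^ K • m' ∈ ℳ (K' • d₂ + e) := sub_mem hz1 hz2
  obtain ⟨N, hN⟩ := exists_pow_smul_eq_zero 𝒜 ℳ hz hd₂ hg₂ (by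
    intro x hx
    have hxW : x ∈ W₂ := (hW₂ x).2 hx
    have e1 := hval' ⟨x, hxW⟩
    have e2 := hval ⟨x, i.le hxW⟩
    have e3 : GrMod.val ((GrMod.tilde 𝒜 ℳ n).presheaf.map i.op s) ⟨x, hxW⟩ =
        GrMod.val s ⟨x, i.le hxW⟩ := rfl
    rw [e3, e2] at e1
    obtain ⟨u, hu⟩ := LocalizedModule.mk_eq.1 e1
    refine ⟨u.1, u.2, ?_⟩
    rw [smul_sub]
    exact sub_eq_zero.2 hu)
  -- conclusion by regularity
  have hKv : g₁ ^ K • (tilde M).presheaf.map i'.op v = tO R M W₂' m := by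
    rw [← Scheme.Modules.map_smul_Spec, hK]
    rfl
  apply regular_pow h₁ K
  apply regular_pow h₂ (N + K')
  have e1 : g₂ ^ (N + K') • g₁ ^ K • v₂ = tO R M W₂' (g₂ ^ N • g₁ ^ K • m') := by
    rw [map_smul, map_smul, ← hK', pow_add, mul_smul, smul_comm (g₁ ^ K) (g₂ ^ K') v₂]
  have e2 : g₂ ^ (N + K') • g₁ ^ K • (tilde M).presheaf.map i'.op v =
      tO R M W₂' (g₂ ^ N • g₂ ^ K' • m) := by
    rw [hKv, map_smul, map_smul, pow_add, mul_smul]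
  have e3 : g₂ ^ N • g₂ ^ K' • m = g₂ ^ N • g₁ ^ K • m' := by
    rw [smul_sub] at hN
    exact sub_eq_zero.1 hN
  rw [e1, e2, e3]

lemma isRep_unique {d : ℕ} (hd : 0 < d) {g : R} (hg : g ∈ 𝒜 d) (n : ℤ) (W : (Proj 𝒜).Opens)
    (hW : ∀ y, y ∈ W ↔ g ∉ y.asHomogeneousIdeal) (W' : (Spec R).Opens)
    (hW' : W' ≤ PrimeSpectrum.basicOpen g) (s : Γ(GrMod.tilde 𝒜 ℳ n, W)) (v v' : Γ(tilde M, W'))
    (hv : IsRep d g n W hW W' s v) (hv' : IsRep d g n W hW W' s v') : v' = v := by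
  have e : (GrMod.tilde 𝒜 ℳ n).presheaf.map (𝟙 W).op s = s := by
    rw [op_id, CategoryTheory.Functor.map_id]
    rfl
  have e' : (tilde M).presheaf.map (𝟙 W').op v = v := by
    rw [op_id, CategoryTheory.Functor.map_id]
    rfl
  have h := isRep_res hd hg hg n W W hW hW W' W' (𝟙 W) (𝟙 W') hW' hW' s v v' hv (by rw [e]; exact hv')
  rw [e'] at h
  exact h

lemma isRep_add {d : ℕ} {g : R} (hg : g ∈ 𝒜 d) (n : ℤ) (W : (Proj 𝒜).Opens)
    (hW : ∀ y, y ∈ W ↔ g ∉ y.asHomogeneousIdeal) (W' : (Spec R).Opens)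
    (s s' : Γ(GrMod.tilde 𝒜 ℳ n, W)) (v v' : Γ(tilde M, W'))
    (hv : IsRep d g n W hW W' s v) (hv' : IsRep d g n W hW W' s' v') :
    IsRep d g n W hW W' (s + s') (v + v') := by
  obtain ⟨K, e, m, hm, he, hval, hK⟩ := hv
  obtain ⟨K', e', m', hm', he', hval', hK'⟩ := hv'
  have hz1 : g ^ K' • m ∈ ℳ (K' • d + e) :=
    SetLike.GradedSMul.smul_mem (SetLike.pow_mem_graded K' hg) hm
  have hz2 : g ^ K • m' ∈ ℳ (K • d + e') :=
    SetLike.GradedSMul.smul_mem (SetLike.pow_mem_graded K hg) hm'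
  have hdeg : K • d + e' = K' • d + e := by
    have : ((K • d + e' : ℕ) : ℤ) = ((K' • d + e : ℕ) : ℤ) := by
      push_cast
      simp only [smul_eq_mul]
      push_cast
      linarith
    exact_mod_cast this
  rw [hdeg] at hz2
  refine ⟨K + K', K' • d + e, g ^ K' • m + g ^ K • m', add_mem hz1 hz2, ?_, ?_, ?_⟩
  · push_cast
    simp only [smul_eq_mul]
    push_cast
    linarith
  · intro y
    have h0 : GrMod.val (s + s') y = GrMod.val s y + GrMod.val s' y := rfl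
    rw [h0, hval, hval', LocalizedModule.mk_add_mk]
    congr 1
    exact Subtype.ext (pow_add g K K').symm
  · have a1 : g ^ (K + K') • v = g ^ K' • g ^ K • v := by rw [pow_add, mul_comm, mul_smul]
    have a2 : g ^ (K + K') • v' = g ^ K • g ^ K' • v' := by rw [pow_add, mul_smul]
    rw [smul_add, a1, a2, hK, hK', map_add, map_smul, map_smul]

/-- the map `Γ(D₊(g), M(n)~) → Γ(D(g), M~)`, `m / g^K ↦ m / g^K` -/
noncomputable def theta {d : ℕ} (hd : 0 < d) {g : R} (hg : g ∈ 𝒜 d) (n : ℤ) (W : (Proj 𝒜).Opens)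
    (hW : ∀ y, y ∈ W ↔ g ∉ y.asHomogeneousIdeal) (W' : (Spec R).Opens)
    (hW' : W' ≤ PrimeSpectrum.basicOpen g) : Γ(GrMod.tilde 𝒜 ℳ n, W) →+ Γ(tilde M, W') :=
  AddMonoidHom.mk' (fun s => (exists_isRep hd hg n W hW W' hW' s).choose) (fun s s' =>
    isRep_unique hd hg n W hW W' hW' (s + s') _ _
      (isRep_add hg n W hW W' s s' _ _ (exists_isRep hd hg n W hW W' hW' s).choose_spec
        (exists_isRep hd hg n W hW W' hW' s').choose_spec)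
      (exists_isRep hd hg n W hW W' hW' (s + s')).choose_spec)

lemma theta_spec {d : ℕ} (hd : 0 < d) {g : R} (hg : g ∈ 𝒜 d) (n : ℤ) (W : (Proj 𝒜).Opens)
    (hW : ∀ y, y ∈ W ↔ g ∉ y.asHomogeneousIdeal) (W' : (Spec R).Opens)
    (hW' : W' ≤ PrimeSpectrum.basicOpen g) (s : Γ(GrMod.tilde 𝒜 ℳ n, W)) :
    IsRep d g n W hW W' s (theta (ℳ := ℳ) (M := M) hd hg n W hW W' hW' s) :=
  (exists_isRep hd hg n W hW W' hW' s).choose_spec

/-- naturality of `theta` -/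
lemma theta_res {d₁ d₂ : ℕ} (hd₁ : 0 < d₁) (hd₂ : 0 < d₂) {g₁ g₂ : R} (hg₁ : g₁ ∈ 𝒜 d₁)
    (hg₂ : g₂ ∈ 𝒜 d₂) (n : ℤ) (W₁ W₂ : (Proj 𝒜).Opens)
    (hW₁ : ∀ y, y ∈ W₁ ↔ g₁ ∉ y.asHomogeneousIdeal) (hW₂ : ∀ y, y ∈ W₂ ↔ g₂ ∉ y.asHomogeneousIdeal)
    (W₁' W₂' : (Spec R).Opens) (hW₁' : W₁' ≤ PrimeSpectrum.basicOpen g₁)
    (hW₂' : W₂' ≤ PrimeSpectrum.basicOpen g₂) (i : W₂ ⟶ W₁) (i' : W₂' ⟶ W₁')
    (s : Γ(GrMod.tilde 𝒜 ℳ n, W₁)) :
    theta (ℳ := ℳ) (M := M) hd₂ hg₂ n W₂ hW₂ W₂' hW₂' ((GrMod.tilde 𝒜 ℳ n).presheaf.map i.op s) =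
      (tilde M).presheaf.map i'.op (theta hd₁ hg₁ n W₁ hW₁ W₁' hW₁' s) :=
  isRep_res hd₂ hg₁ hg₂ n W₁ W₂ hW₁ hW₂ W₁' W₂' i i' (i'.le.trans hW₁') hW₂' s _ _
    (theta_spec hd₁ hg₁ n W₁ hW₁ W₁' hW₁' s) (theta_spec hd₂ hg₂ n W₂ hW₂ W₂' hW₂' _)

section Bij

variable {d : ℕ} (hd : 0 < d) {g : R} (hg : g ∈ 𝒜 d) (W : (Proj 𝒜).Opens)
  (hW : ∀ y, y ∈ W ↔ g ∉ y.asHomogeneousIdeal)

instance instAway (g : R) : IsLocalizedModule.Away g (tO R M (PrimeSpectrum.basicOpen g)) :=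
  tilde.instAwayCarrierCarrierObjOppositeOpensCarrierCarrierCommRingCatSpecModuleCatPresheafModulesSheafModulesSpecToSheafOpBasicOpenHomToOpen
    M g

include hd hg in
omit [DirectSum.Decomposition ℳ] in
lemma eq_zero_of_isRep_zero (n : ℤ) (s : Γ(GrMod.tilde 𝒜 ℳ n, W))
    (h : IsRep d g n W hW (PrimeSpectrum.basicOpen g) s (0 : Γ(tilde M, PrimeSpectrum.basicOpen g))) :
    s = 0 := by
  obtain ⟨K, e, m, hm, he, hval, hK⟩ := h
  rw [smul_zero] at hK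
  obtain ⟨N, hN⟩ := IsLocalizedModule.Away.exists_of_eq (f := tO R M (PrimeSpectrum.basicOpen g)) g
    (x := m) (y := 0) (by rw [← hK, map_zero])
  rw [smul_zero] at hN
  apply sec_ext
  intro y
  rw [hval y, zero_val, ← LocalizedModule.zero_mk (1 : y.1.asHomogeneousIdeal.toIdeal.primeCompl),
    LocalizedModule.mk_eq]
  refine ⟨⟨g ^ N, pow_notMem hW N y⟩, ?_⟩
  rw [smul_zero, smul_zero, one_smul]
  exact hN

omit [SetLike.GradedSMul 𝒜 ℳ] in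
lemma eq_zero_of_sum_eq_zero (S : Finset ℤ) (z : ℤ → M) (E : ℤ → ℕ) (hz : ∀ n ∈ S, z n ∈ ℳ (E n))
    (hE : ∀ n ∈ S, ∀ n' ∈ S, E n = E n' → n = n') (h : ∑ n ∈ S, z n = 0) : ∀ n ∈ S, z n = 0 := by
  classical
  intro n₀ hn₀
  have h1 := congrArg (fun x => ((DirectSum.decompose ℳ x) (E n₀) : M)) h
  simp only [DirectSum.decompose_sum, DirectSum.sum_apply, AddSubmonoidClass.coe_finsetSum,
    DirectSum.decompose_zero, DirectSum.zero_apply, ZeroMemClass.coe_zero] at h1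
  rw [Finset.sum_eq_single n₀] at h1
  · rw [← h1]
    exact (DirectSum.decompose_of_mem_same ℳ (hz n₀ hn₀)).symm
  · intro n hn hne
    exact DirectSum.decompose_of_mem_ne ℳ (hz n hn) (fun hEE => hne (hE n hn n₀ hn₀ hEE))
  · intro h
    exact absurd hn₀ h

include hd hg in
lemma isRep_sum_eq_zero (S : Finset ℤ) (s : ∀ n, Γ(GrMod.tilde 𝒜 ℳ n, W))
    (v : ℤ → Γ(tilde M, PrimeSpectrum.basicOpen g))
    (hv : ∀ n ∈ S, IsRep d g n W hW (PrimeSpectrum.basicOpen g) (s n) (v n))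
    (h : ∑ n ∈ S, v n = 0) : ∀ n ∈ S, v n = 0 := by
  choose! K e m hm he _hval hK using hv
  set KK := ∑ n ∈ S, K n with hKK
  have hle : ∀ n ∈ S, K n ≤ KK := fun n hn =>
    Finset.single_le_sum (f := K) (fun _ _ => Nat.zero_le _) hn
  have f1 : ∀ n ∈ S, g ^ KK • v n = tO R M (PrimeSpectrum.basicOpen g) (g ^ (KK - K n) • m n) := by
    intro n hn
    rw [map_smul, ← hK n hn, ← mul_smul, ← pow_add, Nat.sub_add_cancel (hle n hn)]
  have f2 : tO R M (PrimeSpectrum.basicOpen g) (∑ n ∈ S, g ^ (KK - K n) • m n) =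
      tO R M (PrimeSpectrum.basicOpen g) 0 := by
    rw [map_sum, map_zero, ← smul_zero (g ^ KK), ← h, Finset.smul_sum]
    exact Finset.sum_congr rfl (fun n hn => (f1 n hn).symm)
  obtain ⟨N, hN⟩ := IsLocalizedModule.Away.exists_of_eq
    (f := tO R M (PrimeSpectrum.basicOpen g)) g f2
  rw [smul_zero, Finset.smul_sum] at hN
  have hz : ∀ n ∈ S, g ^ N • g ^ (KK - K n) • m n ∈ ℳ (N • d + ((KK - K n) • d + e n)) :=
    fun n hn => SetLike.GradedSMul.smul_mem (SetLike.pow_mem_graded N hg)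
      (SetLike.GradedSMul.smul_mem (SetLike.pow_mem_graded _ hg) (hm n hn))
  have hEcast : ∀ n ∈ S, ((N • d + ((KK - K n) • d + e n) : ℕ) : ℤ) = N * d + KK * d + n := by
    intro n hn
    have h1 : ((KK - K n : ℕ) : ℤ) = KK - K n := Nat.cast_sub (hle n hn)
    push_cast
    simp only [smul_eq_mul]
    push_cast
    rw [h1, he n hn]
    ring
  have hz0 := eq_zero_of_sum_eq_zero (ℳ := ℳ) S (fun n => g ^ N • g ^ (KK - K n) • m n)
    (fun n => N • d + ((KK - K n) • d + e n)) hz (by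
      intro n hn n' hn' hEE
      have h1 := hEcast n hn
      have h2 := hEcast n' hn'
      have h3 : ((N • d + ((KK - K n) • d + e n) : ℕ) : ℤ) =
          ((N • d + ((KK - K n') • d + e n') : ℕ) : ℤ) := by rw [hEE]
      rw [h1, h2] at h3
      linarith) hN
  intro n hn
  apply regular_pow (le_refl _) KK
  apply regular_pow (le_refl _) N
  rw [smul_zero, smul_zero, f1 n hn, ← map_smul, hz0 n hn, map_zero]

include hd hg in
lemma exists_sum_isRep (v : Γ(tilde M, PrimeSpectrum.basicOpen g)) :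
    ∃ (S : Finset ℕ) (n : ℕ → ℤ) (s : ∀ j, Γ(GrMod.tilde 𝒜 ℳ (n j), W))
      (w : ℕ → Γ(tilde M, PrimeSpectrum.basicOpen g)),
      (∀ j, IsRep d g (n j) W hW (PrimeSpectrum.basicOpen g) (s j) (w j)) ∧ v = ∑ j ∈ S, w j := by
  classical
  obtain ⟨K, m, hKm⟩ := IsLocalizedModule.Away.surj (tO R M (PrimeSpectrum.basicOpen g)) g v
  have hgK : g ^ K ∈ 𝒜 (K • d) := SetLike.pow_mem_graded K hg
  have hnv : ∀ y ∈ W, g ^ K ∉ y.asHomogeneousIdeal := fun y hy h =>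
    (hW y).1 hy (y.isPrime.mem_of_pow_mem K h)
  have hw : ∀ j : ℕ, ∃ w : Γ(tilde M, PrimeSpectrum.basicOpen g),
      g ^ K • w = tO R M (PrimeSpectrum.basicOpen g) ((DirectSum.decompose ℳ m j : ℳ j) : M) :=
    fun j => exists_pow_smul (le_refl _) K _
  choose w hw using hw
  refine ⟨(DirectSum.decompose ℳ m).support, fun j => (j : ℤ) - ((K • d : ℕ) : ℤ),
    fun j => fracSec 𝒜 ℳ ((DirectSum.decompose ℳ m j : ℳ j) : M) (SetLike.coe_mem _) (g ^ K) hgK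
      (by ring) W hnv, w, ?_, ?_⟩
  · intro j
    refine ⟨K, j, _, SetLike.coe_mem _, ?_, fun y => rfl, hw j⟩
    push_cast
    simp only [smul_eq_mul]
    push_cast
    ring
  · apply regular_pow (le_refl _) K
    rw [hKm, Finset.smul_sum]
    conv_lhs => rw [← DirectSum.sum_support_decompose ℳ m]
    rw [map_sum]
    exact Finset.sum_congr rfl (fun j _ => (hw j).symm)

include hd hg in
/-- **`⨁ n, Γ(D₊(g), M(n)~) ≃ Γ(D(g), M~)`** -/
theorem theta_bijective :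
    Function.Bijective (DirectSum.toAddMonoid (fun n : ℤ =>
      theta (ℳ := ℳ) (M := M) hd hg n W hW (PrimeSpectrum.basicOpen g) (le_refl _))) := by
  classical
  constructor
  · rw [injective_iff_map_eq_zero]
    intro x hx
    rw [← DirectSum.sum_support_of x, map_sum] at hx
    simp only [DirectSum.toAddMonoid_of] at hx
    have h0 := isRep_sum_eq_zero hd hg W hW x.support (fun n => x n)
      (fun n => theta (ℳ := ℳ) (M := M) hd hg n W hW (PrimeSpectrum.basicOpen g) (le_refl _) (x n))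
      (fun n _ => theta_spec hd hg n W hW _ (le_refl _) (x n)) hx
    ext n
    rw [DirectSum.zero_apply]
    by_cases hn : n ∈ x.support
    · have h1 := theta_spec (ℳ := ℳ) (M := M) hd hg n W hW _ (le_refl _) (x n)
      rw [h0 n hn] at h1
      exact eq_zero_of_isRep_zero hd hg W hW n (x n) h1
    · exact DFinsupp.notMem_support_iff.1 hn
  · intro v
    obtain ⟨S, n, s, w, hw, hv⟩ := exists_sum_isRep (ℳ := ℳ) hd hg W hW v
    refine ⟨∑ j ∈ S, DirectSum.of (fun n : ℤ => Γ(GrMod.tilde 𝒜 ℳ n, W)) (n j) (s j), ?_⟩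
    rw [map_sum, hv]
    apply Finset.sum_congr rfl
    intro j _
    rw [DirectSum.toAddMonoid_of]
    exact isRep_unique hd hg (n j) W hW _ (le_refl _) (s j) _ _ (hw j)
      (theta_spec hd hg (n j) W hW _ (le_refl _) (s j))

end Bij

end Groth.Agent.Lib.Helper98.GrCechLoc
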