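import Groth.Agent.Lib.Helper98.GrSerreAlg

set_option autoImplicit false
set_option linter.unusedSectionVars false
universe u

/-! helper98: for a graded module with (TF) over a Noetherian graded ring generated in degree one,
`M_{k+e} = A_e · M_k` for large `k`. -/

namespace Groth.Agent.Lib.Helper98.GrSerreGen

open DirectSum Groth.Agent.Lib.Helper98.GrSerreAlg

variable {A σ : Type u} [CommRing A] [SetLike σ A] [AddSubgroupClass σ A] (𝒜 : ℕ → σ) [GradedRing 𝒜]
variable {M τ : Type u} [AddCommGroup M] [Module A M] [SetLike τ M] [AddSubgroupClass τ M] (ℳ : ℕ → τ)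
  [SetLike.GradedSMul 𝒜 ℳ] [DirectSum.Decomposition ℳ]

/-- the additive subgroup generated by the products `A_e · M_k` -/
def C (k e : ℕ) : AddSubgroup M :=
  AddSubgroup.closure {x | ∃ a ∈ 𝒜 e, ∃ m' ∈ ℳ k, x = a • m'}

lemma C_le (k e : ℕ) : ∀ m ∈ C 𝒜 ℳ k e, m ∈ ℳ (e + k) := by
  intro m hm
  induction hm using AddSubgroup.closure_induction with
  | mem x hx =>
    obtain ⟨a, ha, m', hm', rfl⟩ := hx
    exact smul_mem' 𝒜 ℳ ha hm'
  | zero => exact zero_mem _
  | add x y _ _ hx hy => exact add_mem hx hy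
  | neg x _ hx => exact neg_mem hx

/-- finitely many degree-one generators of the irrelevant ideal -/
lemma exists_gens_one [IsNoetherianRing A]
    (hgen : (HomogeneousIdeal.irrelevant 𝒜).toIdeal = Ideal.span (𝒜 1 : Set A)) :
    ∃ (r : ℕ) (f : Fin r → A), (∀ i, f i ∈ 𝒜 1) ∧
      (HomogeneousIdeal.irrelevant 𝒜).toIdeal = Ideal.span (Set.range f) := by
  classical
  have hfg : (Ideal.span (𝒜 1 : Set A)).FG := IsNoetherian.noetherian _
  obtain ⟨s, hs, hspan⟩ := (Submodule.fg_span_iff_fg_span_finset_subset _).1 hfg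
  refine ⟨s.card, fun i => ((s.equivFin.symm i : s) : A), fun i => hs (s.equivFin.symm i).2, ?_⟩
  have : Set.range (fun i : Fin s.card => ((s.equivFin.symm i : s) : A)) = (s : Set A) := by
    ext a
    constructor
    · rintro ⟨i, rfl⟩; exact (s.equivFin.symm i).2
    · intro ha; exact ⟨s.equivFin ⟨a, ha⟩, by simp⟩
  rw [this, hgen]
  exact hspan

lemma step_one [IsNoetherianRing A]
    (hgen : (HomogeneousIdeal.irrelevant 𝒜).toIdeal = Ideal.span (𝒜 1 : Set A))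
    (hTF : ∃ k : ℕ, (Submodule.span A (⋃ i ∈ Set.Ici k, (ℳ i : Set M))).FG) :
    ∃ k1, ∀ n, k1 ≤ n → ∀ m ∈ ℳ (n + 1), m ∈ C 𝒜 ℳ n 1 := by
  classical
  obtain ⟨r, f, hf, hspan⟩ := exists_gens_one 𝒜 hgen
  have hJ : ∀ e, 0 < e → ∀ a ∈ 𝒜 e, a ∈ Ideal.span (Set.range f) := fun e he a ha =>
    hspan ▸ HomogeneousIdeal.mem_irrelevant_of_mem 𝒜 he ha
  obtain ⟨k0, hk0⟩ := hTF
  obtain ⟨G, hG, hGspan⟩ := (Submodule.fg_span_iff_fg_span_finset_subset _).1 hk0
  have hGdeg : ∀ g : G, ∃ i, (g : M) ∈ ℳ i := by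
    intro g
    obtain ⟨i, _, h⟩ := Set.mem_iUnion₂.1 (hG g.2)
    exact ⟨i, h⟩
  choose dg hdg using hGdeg
  let E : ℕ := Finset.univ.sup dg
  have hE : ∀ g : G, dg g ≤ E := fun g => Finset.le_sup (Finset.mem_univ g)
  refine ⟨max E k0, fun n hn m hm => ?_⟩
  have hmR : m ∈ Submodule.span A (G : Set M) := by
    rw [← hGspan]
    exact Submodule.subset_span (Set.mem_biUnion
      (Set.mem_Ici.2 (le_trans (le_trans (le_max_right _ _) hn) (Nat.le_succ _))) hm)
  have key : ∀ m ∈ Submodule.span A (G : Set M), ∀ b : A, cmp ℳ (n + 1) (b • m) ∈ C 𝒜 ℳ n 1 := by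
    intro m hm
    induction hm using Submodule.span_induction with
    | mem y hy =>
      intro b
      have hyd := hdg ⟨y, hy⟩
      have hle : dg ⟨y, hy⟩ ≤ n := le_trans (hE _) (le_trans (le_max_left _ _) hn)
      rw [cmp_smul_right 𝒜 ℳ b hyd, if_pos (by omega)]
      obtain ⟨c, hc1, -, hc⟩ := exists_coeffs 𝒜 f (fun _ => 1) hf hJ
        (e := n + 1 - dg ⟨y, hy⟩) (by omega) (SetLike.coe_mem (decompose 𝒜 b (n + 1 - dg ⟨y, hy⟩)))
      rw [hc, Finset.sum_smul]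
      refine AddSubgroup.sum_mem _ fun i _ => ?_
      refine AddSubgroup.subset_closure ⟨f i, hf i, c i • y, ?_, by rw [← mul_smul, mul_comm]⟩
      refine mem_of_eq ℳ (smul_mem' 𝒜 ℳ (hc1 i (by omega)) hyd) (by omega)
    | zero => intro b; simp [zero_mem]
    | add x y _ _ hx hy => intro b; rw [smul_add, map_add]; exact add_mem (hx b) (hy b)
    | smul a x _ hx => intro b; rw [← mul_smul]; exact hx _
  have := key m hmR 1
  rwa [one_smul, cmp_same ℳ hm] at this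

lemma mem_C_of_step (k1 : ℕ) (h1 : ∀ n, k1 ≤ n → ∀ m ∈ ℳ (n + 1), m ∈ C 𝒜 ℳ n 1) :
    ∀ k, k1 ≤ k → ∀ e, ∀ m ∈ ℳ (k + e), m ∈ C 𝒜 ℳ k e := by
  intro k hk e
  induction e with
  | zero =>
    intro m hm
    exact AddSubgroup.subset_closure ⟨1, SetLike.GradedOne.one_mem, m, hm, (one_smul _ _).symm⟩
  | succ e ih =>
    intro m hm
    have aux : ∀ a ∈ 𝒜 1, ∀ x ∈ C 𝒜 ℳ k e, a • x ∈ C 𝒜 ℳ k (e + 1) := by
      intro a ha x hx
      induction hx using AddSubgroup.closure_induction with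
      | mem y hy =>
        obtain ⟨b, hb, m', hm', rfl⟩ := hy
        refine AddSubgroup.subset_closure ⟨a * b, ?_, m', hm', by rw [mul_smul]⟩
        exact mem_of_eq 𝒜 (SetLike.mul_mem_graded ha hb) (by ring)
      | zero => rw [smul_zero]; exact zero_mem _
      | add x y _ _ hx hy => rw [smul_add]; exact add_mem hx hy
      | neg x _ hx => rw [smul_neg]; exact neg_mem hx
    have aux2 : ∀ x ∈ C 𝒜 ℳ (k + e) 1, x ∈ C 𝒜 ℳ k (e + 1) := by
      intro x hx
      induction hx using AddSubgroup.closure_induction with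
      | mem y hy =>
        obtain ⟨a, ha, m'', hm'', rfl⟩ := hy
        exact aux a ha m'' (ih m'' hm'')
      | zero => exact zero_mem _
      | add x y _ _ hx hy => exact add_mem hx hy
      | neg x _ hx => exact neg_mem hx
    exact aux2 m (h1 (k + e) (by omega) m hm)

/-- `M_{k+e} = A_e · M_k` for `k` large. -/
theorem exists_mem_C [IsNoetherianRing A]
    (hgen : (HomogeneousIdeal.irrelevant 𝒜).toIdeal = Ideal.span (𝒜 1 : Set A))
    (hTF : ∃ k : ℕ, (Submodule.span A (⋃ i ∈ Set.Ici k, (ℳ i : Set M))).FG) :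
    ∃ k1, ∀ k, k1 ≤ k → ∀ e, ∀ m ∈ ℳ (k + e), m ∈ C 𝒜 ℳ k e := by
  obtain ⟨k1, h1⟩ := step_one 𝒜 ℳ hgen hTF
  exact ⟨k1, mem_C_of_step 𝒜 ℳ k1 h1⟩

end Groth.Agent.Lib.Helper98.GrSerreGen
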