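import Mathlib.CategoryTheory.Abelian.Refinements
import Mathlib.Algebra.Homology.ShortComplex.ShortExact
import Mathlib.CategoryTheory.Abelian.Basic

/-!
# helper98: diagram lemmas in abelian categories for the K₀ resolution theorem
-/

set_option autoImplicit false
set_option linter.style.haveILetI false
set_option linter.unusedSectionVars false
universe v u
open CategoryTheory CategoryTheory.Limits

namespace Groth.Agent.Lib.Helper98.K0Res

variable {C : Type u} [Category.{v} C] [Abelian C]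

/-- the kernel short exact sequence of an epimorphism -/
lemma kerSES {L A : C} (p : L ⟶ A) [Epi p] :
    (ShortComplex.mk (kernel.ι p) p (kernel.condition p)).ShortExact :=
  ShortComplex.ShortExact.mk' (ShortComplex.exact_of_f_is_kernel _ (kernelIsKernel p))
    (inferInstanceAs (Mono (kernel.ι p))) (inferInstanceAs (Epi p))

section T

variable {S : ShortComplex C} (hS : S.ShortExact) {L : C} (p : L ⟶ S.X₂)

/-- `ker p → ker (p ≫ g)` -/
noncomputable def Tj : kernel p ⟶ kernel (p ≫ S.g) :=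
  kernel.lift (p ≫ S.g) (kernel.ι p) (by rw [← Category.assoc, kernel.condition, zero_comp])

include hS in
lemma Tt_aux : (kernel.ι (p ≫ S.g) ≫ p) ≫ S.g = 0 := by
  rw [Category.assoc, kernel.condition]

/-- `ker (p ≫ g) → X₁` -/
noncomputable def Tt : kernel (p ≫ S.g) ⟶ S.X₁ :=
  haveI := hS.mono_f
  hS.exact.lift (kernel.ι (p ≫ S.g) ≫ p) (Tt_aux hS p)

lemma Tt_f : Tt hS p ≫ S.f = kernel.ι (p ≫ S.g) ≫ p := by
  haveI := hS.mono_f
  exact hS.exact.lift_f _ _

lemma Tj_ι : Tj (S := S) p ≫ kernel.ι (p ≫ S.g) = kernel.ι p := kernel.lift_ι _ _ _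

lemma Tj_Tt : Tj (S := S) p ≫ Tt hS p = 0 := by
  haveI := hS.mono_f
  rw [← cancel_mono S.f, Category.assoc, Tt_f, ← Category.assoc, Tj_ι, kernel.condition, zero_comp]

/-- `0 → ker p → ker (p ≫ g) → X₁ → 0` -/
lemma T_shortExact [Epi p] :
    (ShortComplex.mk (Tj (S := S) p) (Tt hS p) (Tj_Tt hS p)).ShortExact := by
  haveI := hS.mono_f
  haveI := hS.epi_g
  refine ShortComplex.ShortExact.mk' ?_ ?_ ?_
  · rw [ShortComplex.exact_iff_exact_up_to_refinements]
    intro X x hx
    dsimp at x hx ⊢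
    have h1 : (x ≫ kernel.ι (p ≫ S.g)) ≫ p = 0 := by
      rw [Category.assoc, ← Tt_f hS p, ← Category.assoc, hx, zero_comp]
    refine ⟨X, 𝟙 X, inferInstance, kernel.lift p (x ≫ kernel.ι (p ≫ S.g)) h1, ?_⟩
    rw [Category.id_comp, ← cancel_mono (kernel.ι (p ≫ S.g)), Category.assoc, Tj_ι, kernel.lift_ι]
  · exact mono_of_mono_fac (Tj_ι (S := S) p)
  · rw [epi_iff_surjective_up_to_refinements]
    intro X y
    obtain ⟨X', π, hπ, x, hx⟩ := surjective_up_to_refinements_of_epi p (y ≫ S.f)
    have h1 : x ≫ p ≫ S.g = 0 := by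
      rw [← Category.assoc, ← hx, Category.assoc, Category.assoc, S.zero, comp_zero, comp_zero]
    refine ⟨X', π, hπ, kernel.lift (p ≫ S.g) x h1, ?_⟩
    dsimp
    rw [← cancel_mono S.f, Category.assoc, Category.assoc, Tt_f, ← Category.assoc (kernel.lift _ _ _),
      kernel.lift_ι, hx]

end T

section PB

variable {S : ShortComplex C} (hS : S.ShortExact) {L : C} (p : L ⟶ S.X₃)

/-- `ker p → L ×_{X₃} X₂` -/
noncomputable def PBa : kernel p ⟶ pullback p S.g :=
  pullback.lift (kernel.ι p) 0 (by rw [kernel.condition, zero_comp])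

/-- `X₁ → L ×_{X₃} X₂` -/
noncomputable def PBb : S.X₁ ⟶ pullback p S.g :=
  pullback.lift 0 S.f (by rw [S.zero, zero_comp])

lemma PBa_snd : PBa (S := S) p ≫ pullback.snd p S.g = 0 := pullback.lift_snd _ _ _
lemma PBa_fst : PBa (S := S) p ≫ pullback.fst p S.g = kernel.ι p := pullback.lift_fst _ _ _
lemma PBb_fst : PBb (S := S) p ≫ pullback.fst p S.g = 0 := pullback.lift_fst _ _ _
lemma PBb_snd : PBb (S := S) p ≫ pullback.snd p S.g = S.f := pullback.lift_snd _ _ _

/-- `0 → ker p → L ×_{X₃} X₂ → X₂ → 0` -/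
lemma PB_shortExact₁ [Epi p] :
    (ShortComplex.mk (PBa (S := S) p) (pullback.snd p S.g) (PBa_snd p)).ShortExact := by
  refine ShortComplex.ShortExact.mk' ?_ ?_ ?_
  · rw [ShortComplex.exact_iff_exact_up_to_refinements]
    intro X x hx
    dsimp at x hx ⊢
    have h1 : (x ≫ pullback.fst p S.g) ≫ p = 0 := by
      rw [Category.assoc, pullback.condition, ← Category.assoc, hx, zero_comp]
    refine ⟨X, 𝟙 X, inferInstance, kernel.lift p (x ≫ pullback.fst p S.g) h1, ?_⟩
    rw [Category.id_comp]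
    apply pullback.hom_ext
    · rw [Category.assoc, PBa_fst, kernel.lift_ι]
    · rw [Category.assoc, PBa_snd, comp_zero, hx]
  · exact mono_of_mono_fac (PBa_fst (S := S) p)
  · exact inferInstanceAs (Epi (pullback.snd p S.g))

include hS in
/-- `0 → X₁ → L ×_{X₃} X₂ → L → 0` -/
lemma PB_shortExact₂ :
    (ShortComplex.mk (PBb (S := S) p) (pullback.fst p S.g) (PBb_fst p)).ShortExact := by
  haveI := hS.mono_f
  haveI := hS.epi_g
  refine ShortComplex.ShortExact.mk' ?_ ?_ ?_
  · rw [ShortComplex.exact_iff_exact_up_to_refinements]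
    intro X x hx
    dsimp at x hx ⊢
    have h1 : (x ≫ pullback.snd p S.g) ≫ S.g = 0 := by
      rw [Category.assoc, ← pullback.condition, ← Category.assoc, hx, zero_comp]
    refine ⟨X, 𝟙 X, inferInstance, hS.exact.lift (x ≫ pullback.snd p S.g) h1, ?_⟩
    rw [Category.id_comp]
    apply pullback.hom_ext
    · rw [Category.assoc, PBb_fst, comp_zero, hx]
    · rw [Category.assoc, PBb_snd, hS.exact.lift_f]
  · exact mono_of_mono_fac (PBb_snd (S := S) p)
  · exact inferInstanceAs (Epi (pullback.fst p S.g))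

end PB

end Groth.Agent.Lib.Helper98.K0Res
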