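import Groth.Agent.Lib.Helper98.K0ResA
import Groth.Prelude.Def_SGA6

/-!
# helper98: the K₀ resolution theorem (classes of objects with finite `P₀`-resolutions)
-/

set_option autoImplicit false
set_option linter.style.haveILetI false
set_option linter.unusedSectionVars false
universe v u
open CategoryTheory CategoryTheory.Limits

namespace Groth.Agent.Lib.Helper98.K0Res

variable {C : Type u} [Category.{v} C] [Abelian C]

/-! ### K₀ API -/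

section K0

variable (Q : ObjectProperty C)

/-- class of an object -/
def cl (A : C) (hA : Q A) : KZero.K0sub Q := QuotientAddGroup.mk (FreeAbelianGroup.of ⟨A, hA⟩)

lemma cl_ses (S : ShortComplex C) (hS : S.ShortExact) (h₁ : Q S.X₁) (h₂ : Q S.X₂) (h₃ : Q S.X₃) :
    cl Q S.X₂ h₂ = cl Q S.X₁ h₁ + cl Q S.X₃ h₃ := by
  rw [← sub_eq_zero, ← sub_sub]
  unfold cl
  rw [← QuotientAddGroup.mk_sub, ← QuotientAddGroup.mk_sub, QuotientAddGroup.eq_zero_iff]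
  exact AddSubgroup.subset_closure ⟨S, h₁, h₂, h₃, hS, rfl⟩

lemma K0_induction {motive : KZero.K0sub Q → Prop} (x : KZero.K0sub Q) (h0 : motive 0)
    (hcl : ∀ A hA, motive (cl Q A hA)) (hneg : ∀ x, motive x → motive (-x))
    (hadd : ∀ x y, motive x → motive y → motive (x + y)) : motive x := by
  induction x using QuotientAddGroup.induction_on with
  | H z =>
    induction z using FreeAbelianGroup.induction_on with
    | zero => exact h0
    | of a => exact hcl a.1 a.2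
    | neg a ih => exact hneg _ ih
    | add a b iha ihb => exact hadd _ _ iha ihb

lemma K0_hom_ext {G : Type*} [AddCommGroup G] (f g : KZero.K0sub Q →+ G)
    (h : ∀ A hA, f (cl Q A hA) = g (cl Q A hA)) : f = g := by
  apply AddMonoidHom.ext
  intro x
  refine K0_induction Q (motive := fun x => f x = g x) x ?_ ?_ ?_ ?_
  · rw [map_zero, map_zero]
  · exact h
  · intro x ih; rw [map_neg, map_neg, ih]
  · intro x y ihx ihy; rw [map_add, map_add, ihx, ihy]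

/-- universal property -/
def K0lift {G : Type*} [AddCommGroup G] (f₀ : Subtype Q → G)
    (hrel : ∀ (S : ShortComplex C) (_ : S.ShortExact) (h₁ : Q S.X₁) (h₂ : Q S.X₂) (h₃ : Q S.X₃),
      f₀ ⟨S.X₂, h₂⟩ = f₀ ⟨S.X₁, h₁⟩ + f₀ ⟨S.X₃, h₃⟩) : KZero.K0sub Q →+ G :=
  QuotientAddGroup.lift (KZero.relSub Q) (FreeAbelianGroup.lift f₀) (by
    rw [KZero.relSub, AddSubgroup.closure_le]
    rintro x ⟨S, h₁, h₂, h₃, hS, rfl⟩
    change FreeAbelianGroup.lift f₀ _ = 0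
    rw [map_sub, map_sub, FreeAbelianGroup.lift_apply_of, FreeAbelianGroup.lift_apply_of,
      FreeAbelianGroup.lift_apply_of, hrel S hS h₁ h₂ h₃]
    abel)

lemma K0lift_cl {G : Type*} [AddCommGroup G] (f₀ : Subtype Q → G)
    (hrel : ∀ (S : ShortComplex C) (_ : S.ShortExact) (h₁ : Q S.X₁) (h₂ : Q S.X₂) (h₃ : Q S.X₃),
      f₀ ⟨S.X₂, h₂⟩ = f₀ ⟨S.X₁, h₁⟩ + f₀ ⟨S.X₃, h₃⟩) (A : C) (hA : Q A) :
    K0lift Q f₀ hrel (cl Q A hA) = f₀ ⟨A, hA⟩ := by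
  unfold K0lift cl
  rw [QuotientAddGroup.lift_mk, FreeAbelianGroup.lift_apply_of]

variable {Q} in
/-- the map induced by an inclusion of classes -/
noncomputable abbrev incl {Q' : ObjectProperty C} (h : ∀ X, Q X → Q' X) : KZero.K0sub Q →+ KZero.K0sub Q' :=
  SGA6.mapSub (𝟭 C) Q Q' h

variable {Q} in
lemma incl_cl {Q' : ObjectProperty C} (h : ∀ X, Q X → Q' X) (A : C) (hA : Q A) :
    incl h (cl Q A hA) = cl Q' A (h A hA) := by
  unfold incl SGA6.mapSub cl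
  rw [QuotientAddGroup.map_mk, FreeAbelianGroup.map_of_apply]
  rfl

variable {Q} in
lemma incl_comp {Q' Q'' : ObjectProperty C} (h : ∀ X, Q X → Q' X) (h' : ∀ X, Q' X → Q'' X) :
    (incl h').comp (incl h) = incl (fun X hX => h' X (h X hX)) := by
  apply K0_hom_ext
  intro A hA
  rw [AddMonoidHom.comp_apply, incl_cl, incl_cl, incl_cl]

lemma incl_id : incl (fun X (hX : Q X) => hX) = AddMonoidHom.id _ := by
  apply K0_hom_ext
  intro A hA
  rw [incl_cl, AddMonoidHom.id_apply]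

end K0

/-! ### Classes of objects -/

/-- the standing hypotheses (only covers are needed from (ii)) -/
structure Hyp (P₀ P₁ : ObjectProperty C) : Prop where
  iso₀ : ∀ {X Y : C}, (X ≅ Y) → P₀ X → P₀ Y
  iso₁ : ∀ {X Y : C}, (X ≅ Y) → P₁ X → P₁ Y
  hle : ∀ X, P₀ X → P₁ X
  hext₀ : ∀ S : ShortComplex C, S.ShortExact → P₀ S.X₁ → P₀ S.X₃ → P₀ S.X₂
  hext₁ : ∀ S : ShortComplex C, S.ShortExact → P₁ S.X₁ → P₁ S.X₃ → P₁ S.X₂
  h1₀ : ∀ S : ShortComplex C, S.ShortExact → P₀ S.X₂ → P₀ S.X₃ → P₀ S.X₁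
  h1₁ : ∀ S : ShortComplex C, S.ShortExact → P₁ S.X₂ → P₁ S.X₃ → P₁ S.X₁
  cover : ∀ A, P₁ A → ∃ (L : C) (p : L ⟶ A), P₀ L ∧ Epi p

/-- an intermediate class closed under isomorphisms, extensions and kernels of epimorphisms -/
structure Good (P₀ P₁ Q : ObjectProperty C) : Prop where
  le₀ : ∀ X, P₀ X → Q X
  le₁ : ∀ X, Q X → P₁ X
  iso : ∀ {X Y : C}, (X ≅ Y) → Q X → Q Y
  ext : ∀ S : ShortComplex C, S.ShortExact → Q S.X₁ → Q S.X₃ → Q S.X₂
  ker : ∀ S : ShortComplex C, S.ShortExact → Q S.X₂ → Q S.X₃ → Q S.X₁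

/-- objects admitting a `P₀`-cover with kernel in `Q` -/
def plus (P₀ P₁ Q : ObjectProperty C) : ObjectProperty C := fun A =>
  P₁ A ∧ ∃ (L : C) (p : L ⟶ A), Epi p ∧ P₀ L ∧ Q (kernel p)

section Classes

variable {P₀ P₁ Q : ObjectProperty C}

lemma Hyp.good₀ (H : Hyp P₀ P₁) : Good P₀ P₁ P₀ where
  le₀ := fun _ h => h
  le₁ := H.hle
  iso := H.iso₀
  ext := H.hext₀
  ker := H.h1₀

/-- Schanuel-type lemma -/
lemma schanuel (G : Good P₀ P₁ Q) (S : ShortComplex C) (hS : S.ShortExact)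
    (h₃ : plus P₀ P₁ Q S.X₃) (h₂ : Q S.X₂) : Q S.X₁ := by
  obtain ⟨-, L, p, hp, hL, hK⟩ := h₃
  have hM := G.ext _ (PB_shortExact₁ (S := S) p) hK h₂
  have h1 := G.ker _ (PB_shortExact₂ hS p) hM (G.le₀ _ hL)
  exact h1

lemma le_plus (H : Hyp P₀ P₁) (G : Good P₀ P₁ Q) (A : C) (hA : Q A) : plus P₀ P₁ Q A := by
  obtain ⟨L, p, hL, hp⟩ := H.cover A (G.le₁ A hA)
  have h1 := G.ker _ (kerSES p) (G.le₀ _ hL) hA
  exact ⟨G.le₁ A hA, L, p, hp, hL, h1⟩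

lemma plus_ext (H : Hyp P₀ P₁) (G : Good P₀ P₁ Q) (S : ShortComplex C) (hS : S.ShortExact)
    (h₁ : plus P₀ P₁ Q S.X₁) (h₃ : plus P₀ P₁ Q S.X₃) : plus P₀ P₁ Q S.X₂ := by
  have hP₁ : P₁ S.X₂ := H.hext₁ S hS h₁.1 h₃.1
  obtain ⟨L, p, hL, hp⟩ := H.cover _ hP₁
  haveI := hS.epi_g
  have hK'' := schanuel G _ (kerSES (p ≫ S.g)) h₃ (G.le₀ _ hL)
  have hK := schanuel G _ (T_shortExact hS p) h₁ hK''
  exact ⟨hP₁, L, p, hp, hL, hK⟩

lemma plus_ker (H : Hyp P₀ P₁) (G : Good P₀ P₁ Q) (S : ShortComplex C) (hS : S.ShortExact)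
    (h₂ : plus P₀ P₁ Q S.X₂) (h₃ : plus P₀ P₁ Q S.X₃) : plus P₀ P₁ Q S.X₁ := by
  have hP₁ : P₁ S.X₁ := H.h1₁ S hS h₂.1 h₃.1
  obtain ⟨-, L, p, hp, hL, hK⟩ := h₂
  haveI := hS.epi_g
  have hK'' := schanuel G _ (kerSES (p ≫ S.g)) h₃ (G.le₀ _ hL)
  have hST := T_shortExact hS p
  obtain ⟨L₀, p₀, hL₀, hp₀⟩ := H.cover _ (G.le₁ _ hK'')
  have hK₀ := G.ker _ (kerSES p₀) (G.le₀ _ hL₀) hK''
  haveI := hST.epi_g
  have hT2 := T_shortExact hST p₀
  have hK₁ := G.ext _ hT2 hK₀ hK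
  exact ⟨hP₁, L₀, p₀ ≫ Tt hS p, inferInstance, hL₀, hK₁⟩

lemma plus_iso (H : Hyp P₀ P₁) (G : Good P₀ P₁ Q) {X Y : C} (e : X ≅ Y)
    (hX : plus P₀ P₁ Q X) : plus P₀ P₁ Q Y := by
  obtain ⟨hP, L, p, hp, hL, hK⟩ := hX
  exact ⟨H.iso₁ e hP, L, p ≫ e.hom, inferInstance, hL, G.iso (kernelCompMono p e.hom).symm hK⟩

lemma Good.plus (H : Hyp P₀ P₁) (G : Good P₀ P₁ Q) : Good P₀ P₁ (plus P₀ P₁ Q) where
  le₀ := fun X hX => le_plus H G X (G.le₀ X hX)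
  le₁ := fun _ hX => hX.1
  iso := fun e hX => plus_iso H G e hX
  ext := plus_ext H G
  ker := plus_ker H G

end Classes

section Step

variable {P₀ P₁ Q : ObjectProperty C} (H : Hyp P₀ P₁) (G : Good P₀ P₁ Q)

open Classical in
/-- the inverse map on generators: `[A] ↦ [L] - [ker (L → A)]` -/
noncomputable def ψ₀ (G : Good P₀ P₁ Q) (A : Subtype (plus P₀ P₁ Q)) : KZero.K0sub Q :=
  cl Q (Classical.choose A.2.2) (G.le₀ _ (Classical.choose_spec (Classical.choose_spec A.2.2)).2.1) -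
    cl Q (kernel (Classical.choose (Classical.choose_spec A.2.2)))
      (Classical.choose_spec (Classical.choose_spec A.2.2)).2.2

lemma ψ₀_eq (S : ShortComplex C) (hS : S.ShortExact) (h₃ : plus P₀ P₁ Q S.X₃) (h₂ : Q S.X₂)
    (h₁ : Q S.X₁) : ψ₀ G ⟨S.X₃, h₃⟩ = cl Q S.X₂ h₂ - cl Q S.X₁ h₁ := by
  have hp : Epi (Classical.choose (Classical.choose_spec h₃.2)) :=
    (Classical.choose_spec (Classical.choose_spec h₃.2)).1
  have hL := G.le₀ _ (Classical.choose_spec (Classical.choose_spec h₃.2)).2.1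
  have hK := (Classical.choose_spec (Classical.choose_spec h₃.2)).2.2
  have hM := G.ext _ (PB_shortExact₁ (S := S) (Classical.choose (Classical.choose_spec h₃.2))) hK h₂
  have e1 := cl_ses Q _ (PB_shortExact₁ (S := S) (Classical.choose (Classical.choose_spec h₃.2)))
    hK hM h₂
  have e2 := cl_ses Q _ (PB_shortExact₂ hS (Classical.choose (Classical.choose_spec h₃.2)))
    h₁ hM hL
  dsimp only at e1 e2
  unfold ψ₀
  dsimp only
  rw [sub_eq_sub_iff_add_eq_add]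
  rw [e1] at e2
  rw [add_comm, ← e2, add_comm]

lemma ψ₀_rel (S : ShortComplex C) (hS : S.ShortExact) (h₁ : plus P₀ P₁ Q S.X₁)
    (h₂ : plus P₀ P₁ Q S.X₂) (h₃ : plus P₀ P₁ Q S.X₃) :
    ψ₀ G ⟨S.X₂, h₂⟩ = ψ₀ G ⟨S.X₁, h₁⟩ + ψ₀ G ⟨S.X₃, h₃⟩ := by
  obtain ⟨L, p, hp, hL, hK⟩ := h₂.2
  haveI := hS.epi_g
  have hK'' := schanuel G _ (kerSES (p ≫ S.g)) h₃ (G.le₀ _ hL)
  rw [ψ₀_eq G _ (kerSES p) h₂ (G.le₀ _ hL) hK, ψ₀_eq G _ (kerSES (p ≫ S.g)) h₃ (G.le₀ _ hL) hK'',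
    ψ₀_eq G _ (T_shortExact hS p) h₁ hK'' hK]
  abel

/-- the inverse map `K₀(Q⁺) → K₀(Q)` -/
noncomputable def ψ : KZero.K0sub (plus P₀ P₁ Q) →+ KZero.K0sub Q :=
  K0lift _ (ψ₀ G) (fun S hS h₁ h₂ h₃ => ψ₀_rel G S hS h₁ h₂ h₃)

lemma ψ_incl : (ψ G).comp (incl (fun X hX => le_plus H G X hX)) = AddMonoidHom.id _ := by
  apply K0_hom_ext
  intro A hA
  rw [AddMonoidHom.comp_apply, incl_cl, AddMonoidHom.id_apply]
  unfold ψ
  rw [K0lift_cl]
  obtain ⟨L, p, hp, hL, hK⟩ := (le_plus H G A hA).2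
  rw [ψ₀_eq G _ (kerSES p) (le_plus H G A hA) (G.le₀ _ hL) hK]
  have e := cl_ses Q _ (kerSES p) hK (G.le₀ _ hL) hA
  dsimp only at e
  rw [e]
  abel

lemma incl_ψ : (incl (fun X hX => le_plus H G X hX)).comp (ψ G) = AddMonoidHom.id _ := by
  apply K0_hom_ext
  intro A hA
  rw [AddMonoidHom.comp_apply, AddMonoidHom.id_apply]
  unfold ψ
  rw [K0lift_cl]
  obtain ⟨L, p, hp, hL, hK⟩ := hA.2
  rw [ψ₀_eq G _ (kerSES p) hA (G.le₀ _ hL) hK, map_sub, incl_cl, incl_cl]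
  have e := cl_ses (plus P₀ P₁ Q) _ (kerSES p) (le_plus H G _ hK) (le_plus H G _ (G.le₀ _ hL)) hA
  dsimp only at e
  rw [e]
  abel

lemma incl_plus_bijective :
    Function.Bijective (incl (fun X hX => le_plus H G X hX) : KZero.K0sub Q →+ _) := by
  constructor
  · intro x y hxy
    have := congrArg (ψ G) hxy
    rw [← AddMonoidHom.comp_apply, ← AddMonoidHom.comp_apply, ψ_incl H G] at this
    exact this
  · intro y
    refine ⟨ψ G y, ?_⟩
    rw [← AddMonoidHom.comp_apply, incl_ψ H G, AddMonoidHom.id_apply]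

end Step

end Groth.Agent.Lib.Helper98.K0Res
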