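import Groth.Agent.Lib.Helper98.K0ResB
import Mathlib.Algebra.Homology.ShortComplex.HomologicalComplex
import Mathlib.Algebra.Homology.HomologicalComplex

/-!
# helper98: the K₀ resolution theorem — exhaustion by resolution length and the main theorem
-/

set_option autoImplicit false
set_option linter.style.haveILetI false
set_option linter.unusedSectionVars false
universe v u
open CategoryTheory CategoryTheory.Limits

namespace Groth.Agent.Lib.Helper98.K0Res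

variable {C : Type u} [Category.{v} C] [Abelian C] {P₀ P₁ : ObjectProperty C}

/-- the filtration by resolution length -/
def Qn (P₀ P₁ : ObjectProperty C) : ℕ → ObjectProperty C
  | 0 => P₀
  | n + 1 => plus P₀ P₁ (Qn P₀ P₁ n)

lemma good_Qn (H : Hyp P₀ P₁) : ∀ n, Good P₀ P₁ (Qn P₀ P₁ n)
  | 0 => H.good₀
  | n + 1 => (good_Qn H n).plus H

lemma Qn_succ (H : Hyp P₀ P₁) (n : ℕ) (X : C) (hX : Qn P₀ P₁ n X) : Qn P₀ P₁ (n + 1) X :=
  le_plus H (good_Qn H n) X hX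

lemma Qn_mono (H : Hyp P₀ P₁) {n m : ℕ} (h : n ≤ m) (X : C) (hX : Qn P₀ P₁ n X) :
    Qn P₀ P₁ m X := by
  induction h with
  | refl => exact hX
  | step _ ih => exact Qn_succ H _ X ih

lemma incl_Qn_bijective (H : Hyp P₀ P₁) (n : ℕ) :
    Function.Bijective (incl (good_Qn H n).le₀ : KZero.K0sub P₀ →+ KZero.K0sub (Qn P₀ P₁ n)) := by
  induction n with
  | zero =>
    have : (incl (good_Qn H 0).le₀ : KZero.K0sub P₀ →+ KZero.K0sub (Qn P₀ P₁ 0)) =
        AddMonoidHom.id _ := incl_id P₀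
    rw [this]
    exact Function.bijective_id
  | succ n ih =>
    have e : ∀ x, (incl (good_Qn H (n + 1)).le₀ :
        KZero.K0sub P₀ →+ KZero.K0sub (Qn P₀ P₁ (n + 1))) x =
        (incl (fun X hX => le_plus H (good_Qn H n) X hX)) ((incl (good_Qn H n).le₀) x) := by
      intro x
      rw [← AddMonoidHom.comp_apply, incl_comp]
      rfl
    constructor
    · intro x y hxy
      rw [e, e] at hxy
      exact ih.1 ((incl_plus_bijective H (good_Qn H n)).1 hxy)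
    · intro y
      obtain ⟨z, hz⟩ := (incl_plus_bijective H (good_Qn H n)).2 y
      obtain ⟨x, hx⟩ := ih.2 z
      exact ⟨x, by rw [e, hx, hz]⟩

/-! ### construction of a resolution -/

section Res

variable (H : Hyp P₀ P₁)

/-- a stage of the construction -/
structure Stg (P₁ : ObjectProperty C) where
  B : C
  hB : P₁ B

noncomputable def covL (s : Stg P₁) : C := Classical.choose (H.cover s.B s.hB)

noncomputable def covp (s : Stg P₁) : covL H s ⟶ s.B :=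
  Classical.choose (Classical.choose_spec (H.cover s.B s.hB))

lemma covL_P₀ (s : Stg P₁) : P₀ (covL H s) :=
  (Classical.choose_spec (Classical.choose_spec (H.cover s.B s.hB))).1

instance covp_epi (s : Stg P₁) : Epi (covp H s) :=
  (Classical.choose_spec (Classical.choose_spec (H.cover s.B s.hB))).2

noncomputable def nextStg (s : Stg P₁) : Stg P₁ :=
  ⟨kernel (covp H s), H.h1₁ _ (kerSES (covp H s)) (H.hle _ (covL_P₀ H s)) s.hB⟩

noncomputable def stg (A : C) (hA : P₁ A) : ℕ → Stg P₁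
  | 0 => ⟨A, hA⟩
  | n + 1 => nextStg H (stg A hA n)

variable (A : C) (hA : P₁ A)

noncomputable def rX (n : ℕ) : C := covL H (stg H A hA n)

noncomputable def rp (n : ℕ) : rX H A hA n ⟶ (stg H A hA n).B := covp H (stg H A hA n)

instance (n : ℕ) : Epi (rp H A hA n) := covp_epi H _

noncomputable def rι (n : ℕ) : (stg H A hA (n + 1)).B ⟶ rX H A hA n :=
  kernel.ι (covp H (stg H A hA n))

instance (n : ℕ) : Mono (rι H A hA n) := inferInstanceAs (Mono (kernel.ι _))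

lemma rι_rp (n : ℕ) : rι H A hA n ≫ rp H A hA n = 0 := kernel.condition _

noncomputable def rd (n : ℕ) : rX H A hA (n + 1) ⟶ rX H A hA n := rp H A hA (n + 1) ≫ rι H A hA n

lemma rd_sq (n : ℕ) : rd H A hA (n + 1) ≫ rd H A hA n = 0 := by
  unfold rd
  rw [Category.assoc, ← Category.assoc (rι H A hA (n + 1)), rι_rp, zero_comp, comp_zero]

/-- the resolution -/
noncomputable def resCx : ChainComplex C ℕ := ChainComplex.of (rX H A hA) (rd H A hA) (rd_sq H A hA)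

lemma resCx_d (n : ℕ) : (resCx H A hA).d (n + 1) n = rp H A hA (n + 1) ≫ rι H A hA n := by
  change ChainComplex.of.d (rX H A hA) (rd H A hA) (n + 1) n = _
  rw [ChainComplex.of_d]
  rfl

lemma resCx_P₀ (i : ℕ) : P₀ ((resCx H A hA).X i) := covL_P₀ H _

/-- the kernel of `rp n` is the next stage -/
noncomputable def rKer (n : ℕ) : IsLimit (KernelFork.ofι (rι H A hA n) (rι_rp H A hA n)) :=
  kernelIsKernel (covp H (stg H A hA n))

lemma res_exact_aux (i : ℕ) {X₀ : C} (x : X₀ ⟶ rX H A hA (i + 1))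
    (hx : x ≫ rp H A hA (i + 1) ≫ rι H A hA i = 0) :
    ∃ (X' : C) (π : X' ⟶ X₀) (_ : Epi π) (z : X' ⟶ rX H A hA (i + 2)),
      π ≫ x = z ≫ rp H A hA (i + 2) ≫ rι H A hA (i + 1) := by
  have h1 : x ≫ rp H A hA (i + 1) = 0 := by
    rw [← cancel_mono (rι H A hA i), Category.assoc, zero_comp]
    exact hx
  have hfac : (rKer H A hA (i + 1)).lift (KernelFork.ofι x h1) ≫ rι H A hA (i + 1) = x :=
    (rKer H A hA (i + 1)).fac (KernelFork.ofι x h1) WalkingParallelPair.zero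
  obtain ⟨X', π, hπ, z, hz⟩ := surjective_up_to_refinements_of_epi (rp H A hA (i + 2))
    ((rKer H A hA (i + 1)).lift (KernelFork.ofι x h1))
  refine ⟨X', π, hπ, z, ?_⟩
  calc π ≫ x = π ≫ ((rKer H A hA (i + 1)).lift (KernelFork.ofι x h1) ≫ rι H A hA (i + 1)) := by
        rw [hfac]
    _ = (z ≫ rp H A hA (i + 2)) ≫ rι H A hA (i + 1) := by rw [← Category.assoc, hz]
    _ = _ := Category.assoc _ _ _

lemma resCx_exact (i : ℕ) (hi : 1 ≤ i) : (resCx H A hA).ExactAt i := by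
  obtain ⟨i, rfl⟩ : ∃ j, i = j + 1 := ⟨i - 1, by omega⟩
  rw [HomologicalComplex.exactAt_iff' _ (i + 2) (i + 1) i (by simp) (by simp),
    ShortComplex.exact_iff_exact_up_to_refinements]
  intro X₀ x hx
  change x ≫ (resCx H A hA).d (i + 1) i = 0 at hx
  change ∃ (A' : C) (π : A' ⟶ X₀) (_ : Epi π) (x₁ : A' ⟶ (resCx H A hA).X (i + 2)),
    π ≫ x = x₁ ≫ (resCx H A hA).d (i + 2) (i + 1)
  rw [resCx_d] at hx ⊢
  exact res_exact_aux H A hA i x hx

/-- `H₀` of the resolution -/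
noncomputable def resCx_homology_iso : (resCx H A hA).homology 0 ≅ A := by
  have h1 : IsColimit (CokernelCofork.ofπ (rp H A hA 0) (rι_rp H A hA 0)) :=
    Abelian.epiIsCokernelOfKernel (KernelFork.ofι (rι H A hA 0) (rι_rp H A hA 0)) (rKer H A hA 0)
  have h2 := isCokernelEpiComp h1 (rp H A hA 1) (resCx_d H A hA 0)
  have h3 := (resCx H A hA).opcyclesIsCokernel (i := 1) (j := 0) (by simp)
  exact (resCx H A hA).isoHomologyι₀ ≪≫ h3.coconePointUniqueUpToIso h2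

/-- the cycles of the resolution are the stages -/
noncomputable def resCx_cycles_iso (d : ℕ) :
    (resCx H A hA).cycles (d + 1) ≅ (stg H A hA (d + 2)).B := by
  have h1 := isKernelCompMono (rKer H A hA (d + 1)) (rι H A hA d) (resCx_d H A hA d)
  have h2 := (resCx H A hA).cyclesIsKernel (i := d + 1) (j := d) (by simp)
  exact h2.conePointUniqueUpToIso h1

lemma Qn_stg (m : ℕ) (i : ℕ) (h : Qn P₀ P₁ m (stg H A hA (i + 1)).B) :
    Qn P₀ P₁ (m + 1) (stg H A hA i).B :=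
  ⟨(stg H A hA i).hB, rX H A hA i, rp H A hA i, inferInstance, covL_P₀ H _, h⟩

lemma Qn_stg_iter (k : ℕ) : ∀ (m i : ℕ), Qn P₀ P₁ m (stg H A hA (i + k)).B →
    Qn P₀ P₁ (m + k) (stg H A hA i).B := by
  induction k with
  | zero => intro m i h; exact h
  | succ k ih =>
    intro m i h
    have h1 : Qn P₀ P₁ (m + 1) (stg H A hA (i + k)).B := Qn_stg H A hA m (i + k) h
    have h2 := ih (m + 1) i h1
    have e : m + 1 + k = m + (k + 1) := by omega
    rw [e] at h2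
    exact h2

include H in
theorem exists_Qn (h3 : ∀ A : C, P₁ A → ∃ d : ℕ, ∀ L : ChainComplex C ℕ, (∀ i, P₀ (L.X i)) →
      (∀ i, 1 ≤ i → L.ExactAt i) → Nonempty (L.homology 0 ≅ A) → P₀ (L.cycles (d + 1)))
    (A : C) (hA : P₁ A) : ∃ n, Qn P₀ P₁ n A := by
  obtain ⟨d, hd⟩ := h3 A hA
  have h1 := hd (resCx H A hA) (resCx_P₀ H A hA) (resCx_exact H A hA) ⟨resCx_homology_iso H A hA⟩
  have h2 : Qn P₀ P₁ 0 (stg H A hA (0 + (d + 2))).B := by
    rw [Nat.zero_add]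
    exact H.iso₀ (resCx_cycles_iso H A hA d) h1
  exact ⟨0 + (d + 2), Qn_stg_iter H A hA (d + 2) 0 0 h2⟩

end Res

/-! ### the main theorem -/

section Main

variable (H : Hyp P₀ P₁)
  (h3 : ∀ A : C, P₁ A → ∃ d : ℕ, ∀ L : ChainComplex C ℕ, (∀ i, P₀ (L.X i)) →
      (∀ i, 1 ≤ i → L.ExactAt i) → Nonempty (L.homology 0 ≅ A) → P₀ (L.cycles (d + 1)))

lemma incl_Qn_Qn_injective {n m : ℕ} (h : n ≤ m) :
    Function.Injective (incl (Qn_mono H h) : KZero.K0sub (Qn P₀ P₁ n) →+ KZero.K0sub (Qn P₀ P₁ m)) := by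
  intro x y hxy
  obtain ⟨x', rfl⟩ := (incl_Qn_bijective H n).2 x
  obtain ⟨y', rfl⟩ := (incl_Qn_bijective H n).2 y
  rw [← AddMonoidHom.comp_apply, ← AddMonoidHom.comp_apply, incl_comp] at hxy
  rw [(incl_Qn_bijective H m).1 hxy]

include h3 in
lemma exists_pre (A : C) (hA : P₁ A) : ∃ x : KZero.K0sub P₀, ∃ (n : ℕ) (h : Qn P₀ P₁ n A),
    incl (good_Qn H n).le₀ x = cl (Qn P₀ P₁ n) A h := by
  obtain ⟨n, h⟩ := exists_Qn H h3 A hA
  obtain ⟨x, hx⟩ := (incl_Qn_bijective H n).2 (cl (Qn P₀ P₁ n) A h)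
  exact ⟨x, n, h, hx⟩

/-- the inverse on generators -/
noncomputable def Ψ₀ (A : Subtype P₁) : KZero.K0sub P₀ := Classical.choose (exists_pre H h3 A.1 A.2)

lemma Ψ₀_spec (A : C) (hA : P₁ A) (n : ℕ) (h : Qn P₀ P₁ n A) :
    incl (good_Qn H n).le₀ (Ψ₀ H h3 ⟨A, hA⟩) = cl (Qn P₀ P₁ n) A h := by
  obtain ⟨n₀, h₀, e₀⟩ := Classical.choose_spec (exists_pre H h3 A hA)
  change incl (good_Qn H n₀).le₀ (Ψ₀ H h3 ⟨A, hA⟩) = _ at e₀
  apply incl_Qn_Qn_injective H (le_max_right n₀ n)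
  rw [incl_cl, ← AddMonoidHom.comp_apply, incl_comp]
  have e1 := congrArg (incl (Qn_mono H (le_max_left n₀ n))) e₀
  rw [incl_cl, ← AddMonoidHom.comp_apply, incl_comp] at e1
  exact e1

lemma Ψ₀_rel (S : ShortComplex C) (hS : S.ShortExact) (h₁ : P₁ S.X₁) (h₂ : P₁ S.X₂) (h₃ : P₁ S.X₃) :
    Ψ₀ H h3 ⟨S.X₂, h₂⟩ = Ψ₀ H h3 ⟨S.X₁, h₁⟩ + Ψ₀ H h3 ⟨S.X₃, h₃⟩ := by
  obtain ⟨n₁, q₁⟩ := exists_Qn H h3 _ h₁
  obtain ⟨n₂, q₂⟩ := exists_Qn H h3 _ h₂
  obtain ⟨n₃, q₃⟩ := exists_Qn H h3 _ h₃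
  have r₁ := Qn_mono H (le_trans (le_max_left n₁ n₂) (le_max_left (max n₁ n₂) n₃)) _ q₁
  have r₂ := Qn_mono H (le_trans (le_max_right n₁ n₂) (le_max_left (max n₁ n₂) n₃)) _ q₂
  have r₃ := Qn_mono H (le_max_right (max n₁ n₂) n₃) _ q₃
  apply (incl_Qn_bijective H (max (max n₁ n₂) n₃)).1
  rw [map_add, Ψ₀_spec H h3 _ h₁ _ r₁, Ψ₀_spec H h3 _ h₂ _ r₂, Ψ₀_spec H h3 _ h₃ _ r₃]
  exact cl_ses _ S hS r₁ r₂ r₃

/-- the inverse map -/
noncomputable def Ψ : KZero.K0sub P₁ →+ KZero.K0sub P₀ :=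
  K0lift P₁ (Ψ₀ H h3) (fun S hS h₁ h₂ h₃ => Ψ₀_rel H h3 S hS h₁ h₂ h₃)

lemma Ψ_incl : (Ψ H h3).comp (incl H.hle) = AddMonoidHom.id _ := by
  apply K0_hom_ext
  intro A hA
  rw [AddMonoidHom.comp_apply, incl_cl, AddMonoidHom.id_apply]
  unfold Ψ
  rw [K0lift_cl]
  have e := Ψ₀_spec H h3 A (H.hle A hA) 0 hA
  have e0 : (incl (good_Qn H 0).le₀ : KZero.K0sub P₀ →+ KZero.K0sub (Qn P₀ P₁ 0)) =
      AddMonoidHom.id _ := incl_id P₀
  rw [e0] at e
  exact e

include h3 in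
theorem main : Function.Bijective (incl H.hle : KZero.K0sub P₀ →+ KZero.K0sub P₁) := by
  constructor
  · intro x y hxy
    have := congrArg (Ψ H h3) hxy
    rw [← AddMonoidHom.comp_apply, ← AddMonoidHom.comp_apply, Ψ_incl H h3] at this
    exact this
  · intro y
    refine K0_induction P₁ (motive := fun y => ∃ x, incl H.hle x = y) y ⟨0, map_zero _⟩ ?_ ?_ ?_
    · intro A hA
      obtain ⟨n, h⟩ := exists_Qn H h3 A hA
      obtain ⟨x, hx⟩ := (incl_Qn_bijective H n).2 (cl (Qn P₀ P₁ n) A h)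
      refine ⟨x, ?_⟩
      have e1 := congrArg (incl (good_Qn H n).le₁) hx
      rw [incl_cl, ← AddMonoidHom.comp_apply, incl_comp] at e1
      exact e1
    · rintro _ ⟨x, rfl⟩
      exact ⟨-x, map_neg _ _⟩
    · rintro _ _ ⟨x, rfl⟩ ⟨y, rfl⟩
      exact ⟨x + y, map_add _ _ _⟩

end Main

end Groth.Agent.Lib.Helper98.K0Res
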