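import Mathlib.RingTheory.Kaehler.Basic
import Mathlib.RingTheory.TensorProduct.Basic
import Mathlib.LinearAlgebra.Dual.Lemmas

/-!
# `k ⊗[B] Ω[B⁄R]` for a ring `B` augmented to a field `k` (helper98)

For an `R`-algebra `B` with an algebra structure `B → k` to a field, the `k`-vector space
`k ⊗[B] Ω[B⁄R]` with `delta b = 1 ⊗ d b` is the universal target of "`R`-derivations `B → N`" into
`k`-vector spaces `N` (viewed as `B`-modules through `B → k`), stated elementarily:
`exists_lift`, `ext_delta`, `span_delta`.  For a map `f : B → A` of augmented `R`-algebras we get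
`phi f : k ⊗[B] Ω[B⁄R] →ₗ[k] k ⊗[A] Ω[A⁄R]` with `phi_delta`, `phi_surjective`, `phi_comp`,
`phi_injective` (if all derivations `B → k` kill `ker f`) and `subsingleton_of_phi_surjective`
(then `k ⊗[B] Ω[B⁄C] = 0`).
-/

set_option autoImplicit false
universe u

namespace Groth.Agent.Lib.Helper98.KaehlerRes

open scoped TensorProduct

section General

variable (R : Type u) [CommRing R] (B : Type u) [CommRing B] [Algebra R B]
  (k : Type u) [Field k] [Algebra B k]

/-- `delta b = 1 ⊗ d b`. -/
noncomputable def delta (b : B) : k ⊗[B] Ω[B⁄R] := (1 : k) ⊗ₜ[B] KaehlerDifferential.D R B b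

theorem delta_add (a b : B) : delta R B k (a + b) = delta R B k a + delta R B k b := by
  simp [delta, TensorProduct.tmul_add]

theorem delta_mul (a b : B) : delta R B k (a * b) =
    algebraMap B k a • delta R B k b + algebraMap B k b • delta R B k a := by
  unfold delta
  rw [Derivation.leibniz, TensorProduct.tmul_add, TensorProduct.tmul_smul, TensorProduct.tmul_smul,
    algebraMap_smul, algebraMap_smul]

theorem delta_algebraMap (r : R) : delta R B k (algebraMap R B r) = 0 := by
  simp [delta]

theorem span_delta : Submodule.span k (Set.range (delta R B k)) = ⊤ := by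
  rw [eq_top_iff]
  rintro x -
  induction x using TensorProduct.induction_on with
  | zero => exact zero_mem _
  | add x y hx hy => exact add_mem hx hy
  | tmul c ω =>
    have hω : ω ∈ Submodule.span B (Set.range (KaehlerDifferential.D R B)) := by
      rw [KaehlerDifferential.span_range_derivation]; trivial
    induction hω using Submodule.span_induction with
    | mem ω h =>
      obtain ⟨b, rfl⟩ := h
      have : c ⊗ₜ[B] KaehlerDifferential.D R B b = c • delta R B k b := by
        simp [delta, TensorProduct.smul_tmul']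
      rw [this]
      exact Submodule.smul_mem _ _ (Submodule.subset_span ⟨b, rfl⟩)
    | zero => simp
    | add x y _ _ hx hy => rw [TensorProduct.tmul_add]; exact add_mem hx hy
    | smul a x _ hx =>
      rw [TensorProduct.tmul_smul, ← algebraMap_smul k a]
      exact Submodule.smul_mem _ _ hx

variable {R B k}

theorem ext_delta {N : Type*} [AddCommGroup N] [Module k N] {L L' : k ⊗[B] Ω[B⁄R] →ₗ[k] N}
    (h : ∀ b, L (delta R B k b) = L' (delta R B k b)) : L = L' :=
  LinearMap.ext_on (span_delta R B k) (by rintro _ ⟨b, rfl⟩; exact h b)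

theorem exists_lift (N : Type*) [AddCommGroup N] [Module k N] (D : B → N)
    (hadd : ∀ a b, D (a + b) = D a + D b)
    (hmul : ∀ a b, D (a * b) = algebraMap B k a • D b + algebraMap B k b • D a)
    (hR : ∀ r, D (algebraMap R B r) = 0) :
    ∃ L : k ⊗[B] Ω[B⁄R] →ₗ[k] N, ∀ b, L (delta R B k b) = D b := by
  letI : Module B N := Module.compHom N (algebraMap B k)
  letI : Module R N := Module.compHom N ((algebraMap B k).comp (algebraMap R B))
  have hB : ∀ (b : B) (n : N), b • n = algebraMap B k b • n := fun _ _ => rfl
  have hRs : ∀ (r : R) (n : N), r • n = algebraMap B k (algebraMap R B r) • n := fun _ _ => rfl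
  haveI : IsScalarTower B k N := ⟨fun b c n => by
    rw [hB, Algebra.smul_def, mul_smul]⟩
  haveI : IsScalarTower R B N := ⟨fun r b n => by
    rw [hB, hRs, hB, Algebra.smul_def, map_mul, mul_smul]⟩
  let Dv : Derivation R B N :=
    { toFun := D
      map_add' := hadd
      map_smul' := fun r b => by
        rw [Algebra.smul_def, hmul, hR, smul_zero, add_zero]
        rfl
      map_one_eq_zero' := by
        have := hR 1
        rwa [map_one] at this
      leibniz' := fun a b => by
        rw [hB, hB]
        exact hmul a b }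
  refine ⟨LinearMap.liftBaseChange k Dv.liftKaehlerDifferential, fun b => ?_⟩
  unfold delta
  rw [LinearMap.liftBaseChange_tmul, one_smul, Derivation.liftKaehlerDifferential_comp_D]
  rfl

end General

section Maps

variable {R : Type u} [CommRing R] {B A C : Type u} [CommRing B] [CommRing A] [CommRing C]
  [Algebra R B] [Algebra R A] [Algebra R C] {k : Type u} [Field k] [Algebra B k] [Algebra A k]
  [Algebra C k]

theorem exists_phi (f : B →ₐ[R] A) (hf : ∀ b, algebraMap A k (f b) = algebraMap B k b) :
    ∃ φ : k ⊗[B] Ω[B⁄R] →ₗ[k] k ⊗[A] Ω[A⁄R], ∀ b, φ (delta R B k b) = delta R A k (f b) :=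
  exists_lift (k ⊗[A] Ω[A⁄R]) (fun b => delta R A k (f b))
    (fun a b => by simp only [map_add, delta_add])
    (fun a b => by simp only [map_mul, delta_mul, hf])
    (fun r => by simp only [AlgHom.commutes, delta_algebraMap])

/-- The map `k ⊗[B] Ω[B⁄R] → k ⊗[A] Ω[A⁄R]` induced by a map of augmented algebras. -/
noncomputable def phi (f : B →ₐ[R] A) (hf : ∀ b, algebraMap A k (f b) = algebraMap B k b) :
    k ⊗[B] Ω[B⁄R] →ₗ[k] k ⊗[A] Ω[A⁄R] := (exists_phi f hf).choose

theorem phi_delta (f : B →ₐ[R] A) (hf : ∀ b, algebraMap A k (f b) = algebraMap B k b) (b : B) :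
    phi f hf (delta R B k b) = delta R A k (f b) := (exists_phi f hf).choose_spec b

theorem phi_surjective (f : B →ₐ[R] A) (hf : ∀ b, algebraMap A k (f b) = algebraMap B k b)
    (hs : Function.Surjective f) : Function.Surjective (phi f hf) := by
  rw [← LinearMap.range_eq_top, eq_top_iff, ← span_delta R A k, Submodule.span_le]
  rintro _ ⟨a, rfl⟩
  obtain ⟨b, rfl⟩ := hs a
  exact ⟨delta R B k b, phi_delta f hf b⟩

theorem phi_comp (g : C →ₐ[R] B) (hg : ∀ c, algebraMap B k (g c) = algebraMap C k c)
    (f : B →ₐ[R] A) (hf : ∀ b, algebraMap A k (f b) = algebraMap B k b)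
    (hfg : ∀ c, algebraMap A k ((f.comp g) c) = algebraMap C k c) :
    (phi f hf).comp (phi g hg) = phi (f.comp g) hfg := by
  apply ext_delta
  intro c
  rw [LinearMap.comp_apply, phi_delta, phi_delta, phi_delta]
  rfl

/-- If every "derivation" `B → k` kills `ker f` (and `f` is surjective) then `phi f` is
injective. -/
theorem phi_injective (f : B →ₐ[R] A) (hf : ∀ b, algebraMap A k (f b) = algebraMap B k b)
    (hs : Function.Surjective f)
    (hD : ∀ D : B →+ k, (∀ a b, D (a * b) = algebraMap B k a * D b + algebraMap B k b * D a) →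
      (∀ r, D (algebraMap R B r) = 0) → ∀ x, f x = 0 → D x = 0) :
    Function.Injective (phi f hf) := by
  rw [injective_iff_map_eq_zero]
  intro z hz
  rw [← Module.forall_dual_apply_eq_zero_iff k z]
  intro ℓ
  let Dℓ : B →+ k :=
    { toFun := fun b => ℓ (delta R B k b)
      map_zero' := by
        have : delta R B k (0 : B) = 0 := by
          have := delta_algebraMap R B k 0
          rwa [map_zero] at this
        rw [this, map_zero]
      map_add' := fun a b => by rw [delta_add, map_add] }
  have hDmul : ∀ a b, Dℓ (a * b) = algebraMap B k a * Dℓ b + algebraMap B k b * Dℓ a := by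
    intro a b
    change ℓ (delta R B k (a * b)) = _ * ℓ _ + _ * ℓ _
    rw [delta_mul, map_add, map_smul, map_smul, smul_eq_mul, smul_eq_mul]
  have hDR : ∀ r, Dℓ (algebraMap R B r) = 0 := by
    intro r
    change ℓ (delta R B k (algebraMap R B r)) = 0
    rw [delta_algebraMap, map_zero]
  have hker := hD Dℓ hDmul hDR
  let D' : A → k := fun a => Dℓ (Function.surjInv hs a)
  have hD' : ∀ b, D' (f b) = Dℓ b := by
    intro b
    have h1 : f (Function.surjInv hs (f b) - b) = 0 := by
      rw [map_sub, Function.surjInv_eq hs, sub_self]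
    have h2 := hker _ h1
    rw [map_sub, sub_eq_zero] at h2
    exact h2
  obtain ⟨ℓ', hℓ'⟩ := exists_lift (R := R) (B := A) (k := k) k D'
    (by
      intro a a'
      obtain ⟨b, rfl⟩ := hs a
      obtain ⟨b', rfl⟩ := hs a'
      rw [← map_add, hD', hD', hD', map_add])
    (by
      intro a a'
      obtain ⟨b, rfl⟩ := hs a
      obtain ⟨b', rfl⟩ := hs a'
      rw [← map_mul, hD', hD', hD', hf, hf, hDmul, smul_eq_mul, smul_eq_mul])
    (by
      intro r
      rw [← f.commutes, hD', hDR])
  have hcomp : ℓ = ℓ'.comp (phi f hf) := by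
    apply ext_delta
    intro b
    rw [LinearMap.comp_apply, phi_delta, hℓ', hD']
    rfl
  rw [hcomp, LinearMap.comp_apply, hz, map_zero]

/-- If `phi g` is surjective then `k ⊗[B] Ω[B⁄C] = 0` (for `B` a `C`-algebra through `g`). -/
theorem subsingleton_of_phi_surjective (g : C →ₐ[R] B)
    (hg : ∀ c, algebraMap B k (g c) = algebraMap C k c)
    (hφ : Function.Surjective (phi g hg)) :
    letI : Algebra C B := g.toRingHom.toAlgebra
    Subsingleton (k ⊗[B] Ω[B⁄C]) := by
  letI : Algebra C B := g.toRingHom.toAlgebra
  obtain ⟨ψ, hψ⟩ := exists_lift (R := R) (B := B) (k := k) (k ⊗[B] Ω[B⁄C])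
    (fun b => delta C B k b) (delta_add C B k) (delta_mul C B k)
    (by
      intro r
      have : algebraMap R B r = algebraMap C B (algebraMap R C r) := (g.commutes r).symm
      rw [this, delta_algebraMap])
  have hψs : Function.Surjective ψ := by
    rw [← LinearMap.range_eq_top, eq_top_iff, ← span_delta C B k, Submodule.span_le]
    rintro _ ⟨b, rfl⟩
    exact ⟨delta R B k b, hψ b⟩
  have h0 : ψ.comp (phi g hg) = 0 := by
    apply ext_delta
    intro c
    rw [LinearMap.comp_apply, phi_delta, hψ, LinearMap.zero_apply]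
    exact delta_algebraMap C B k c
  refine ⟨fun x y => ?_⟩
  have hz : ∀ t : k ⊗[B] Ω[B⁄C], t = 0 := by
    intro t
    obtain ⟨s, rfl⟩ := hψs t
    obtain ⟨r, rfl⟩ := hφ s
    exact LinearMap.congr_fun h0 r
  rw [hz x, hz y]

end Maps

end Groth.Agent.Lib.Helper98.KaehlerRes
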