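import Groth.Agent.Lib.Helper98.KoszulDepth
import Groth.Agent.Lib.Helper47.ExtCechLib
import Groth.Agent.S9264
import Mathlib.Algebra.Homology.HomotopyCategory.DegreewiseSplit
import Mathlib.Algebra.Homology.HomotopyCategory.ShiftSequence

/-!
# helper98: Koszul complexes with complex coefficients vs the extended Čech complex

* `phiFun f : Cx ⥤ Cx`, `C ↦ cone(f • 𝟙 C)`; `Phi l` iterated (innermost first);
  `koszul_eq_Phi : koszul A l = (Phi l.reverse).obj A[0]`
* `dse_Phi` (preserves degreewise SES), `PhiShiftIso`, `PhiLocIso` (commutes with shift / localisation)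
* `dse_of_splitting`, `claimA` (`mappingCocone (locCxUnit S C)` keeps vanishing of `H^i(Phi l -)` for `i < n`)
* `socle` (lowest cohomology of `D` injects socle into `H(Phi l D)`), `exists_socle`
* `extCechH_isZero_of_koszulRegular`.
-/

set_option autoImplicit false
universe u
open CategoryTheory CategoryTheory.Limits HomologicalComplex CochainComplex HomComplex

namespace Helper98.KoszulCech

open Helper98.KoszulFun Helper98.KoszulLES Groth.Agent.Lib.Helper47.ExtCech

variable {A : Type u} [CommRing A]

attribute [local instance] HasDerivedCategory.standard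

/-- `C ↦ cone(f • 𝟙 C)` as a functor -/
noncomputable def phiFun (f : A) : DRing.Cx A ⥤ DRing.Cx A where
  obj C := mappingCone (f • 𝟙 C)
  map {C D} φ := mappingCone.map (f • 𝟙 C) (f • 𝟙 D) φ φ (by simp)
  map_id C := mappingCone.map_id _
  map_comp {X Y Z} φ ψ := mappingCone.map_comp (f • 𝟙 X) (f • 𝟙 Y) (f • 𝟙 Z) φ φ (by simp) ψ ψ (by simp)

/-- iterated cones, innermost first -/
noncomputable def Phi : List A → (DRing.Cx A ⥤ DRing.Cx A)
  | [] => 𝟭 _
  | f :: l => phiFun f ⋙ Phi l

lemma dse_phiFun (f : A) {X' X X'' : DRing.Cx A} (u : X' ⟶ X) (v : X ⟶ X'') (h : DSE u v) :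
    DSE ((phiFun f).map u) ((phiFun f).map v) :=
  dse_cone _ _ _ _ _ _ _ (by simp) (by simp) h h

lemma dse_Phi (l : List A) {X' X X'' : DRing.Cx A} (u : X' ⟶ X) (v : X ⟶ X'') (h : DSE u v) :
    DSE ((Phi l).map u) ((Phi l).map v) := by
  induction l generalizing X' X X'' with
  | nil => exact h
  | cons f l ih => exact ih _ _ (dse_phiFun f u v h)

lemma smul_id_shift (f : A) (C : DRing.Cx A) (n : ℤ) : (f • 𝟙 C)⟦n⟧' = f • 𝟙 (C⟦n⟧) := by
  ext i
  simp

/-- cones of equal morphisms -/
noncomputable def coneCongr {K L : DRing.Cx A} {φ ψ : K ⟶ L} (h : φ = ψ) :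
    mappingCone φ ≅ mappingCone ψ :=
  eqToIso (by rw [h])

noncomputable def phiShiftIso (f : A) (C : DRing.Cx A) (n : ℤ) :
    (phiFun f).obj (C⟦n⟧) ≅ ((phiFun f).obj C)⟦n⟧ :=
  coneCongr (smul_id_shift f C n).symm ≪≫ (mappingCone.shiftIso (f • 𝟙 C) n).symm

noncomputable def PhiShiftIso : ∀ (l : List A) (C : DRing.Cx A) (n : ℤ),
    (Phi l).obj (C⟦n⟧) ≅ ((Phi l).obj C)⟦n⟧
  | [], _, _ => Iso.refl _
  | f :: l, C, n => (Phi l).mapIso (phiShiftIso f C n) ≪≫ PhiShiftIso l ((phiFun f).obj C) n

lemma locFunctor_map_smul (S : Submonoid A) {M N : ModuleCat.{u} A} (f : A) (φ : M ⟶ N) :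
    (DerCA.locFunctor S).map (f • φ) = f • (DerCA.locFunctor S).map φ := by
  ext x
  change (IsLocalizedModule.map S (LocalizedModule.mkLinearMap S M) (LocalizedModule.mkLinearMap S N)
    (f • φ.hom)) x = f • (IsLocalizedModule.map S (LocalizedModule.mkLinearMap S M)
      (LocalizedModule.mkLinearMap S N) φ.hom) x
  rw [map_smul]
  rfl

lemma locCx_map_smul_id (S : Submonoid A) (f : A) (C : DRing.Cx A) :
    (DerCA.locCx S).map (f • 𝟙 C) = f • 𝟙 ((DerCA.locCx S).obj C) := by
  ext i : 1
  change (DerCA.locFunctor S).map (f • 𝟙 (C.X i)) = f • 𝟙 _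
  rw [locFunctor_map_smul, CategoryTheory.Functor.map_id]
  rfl

noncomputable def phiLocIso (f : A) (S : Submonoid A) (C : DRing.Cx A) :
    (phiFun f).obj ((DerCA.locCx S).obj C) ≅ (DerCA.locCx S).obj ((phiFun f).obj C) :=
  coneCongr (locCx_map_smul_id S f C).symm ≪≫
    (mappingCone.mapHomologicalComplexIso (f • 𝟙 C) (DerCA.locFunctor S)).symm

noncomputable def PhiLocIso (S : Submonoid A) : ∀ (l : List A) (C : DRing.Cx A),
    (Phi l).obj ((DerCA.locCx S).obj C) ≅ (DerCA.locCx S).obj ((Phi l).obj C)
  | [], _ => Iso.refl _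
  | f :: l, C => (Phi l).mapIso (phiLocIso f S C) ≪≫ PhiLocIso S l ((phiFun f).obj C)


lemma dse_of_splitting (S : ShortComplex (DRing.Cx A))
    (σ : ∀ n, (S.map (HomologicalComplex.eval _ _ n)).Splitting) : DSE S.f S.g := by
  intro i
  have hse := (σ i).shortExact
  have hex := hse.exact
  rw [ShortComplex.moduleCat_exact_iff] at hex
  refine ⟨(ModuleCat.mono_iff_injective _).1 hse.mono_f, (ModuleCat.epi_iff_surjective _).1 hse.epi_g,
    fun x => ⟨fun hx => hex x hx, ?_⟩⟩
  rintro ⟨y, rfl⟩
  exact congrArg (fun t => t.hom y) (S.map (HomologicalComplex.eval _ _ i)).zero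

lemma isZero_homology_of_iso {X Y : DRing.Cx A} (e : X ≅ Y) (i : ℤ) (h : IsZero (Y.homology i)) :
    IsZero (X.homology i) :=
  IsZero.of_iso h ((homologyFunctor _ _ i).mapIso e)

lemma isZero_homology_shift (X : DRing.Cx A) (n i j : ℤ) (h : n + i = j)
    (hz : IsZero (X.homology j)) : IsZero ((X⟦n⟧).homology i) :=
  IsZero.of_iso hz ((CochainComplex.ShiftSequence.shiftIso (ModuleCat.{u} A) n i j h).app X)

/-- `Ψ_S` preserves "Koszul depth". -/
theorem claimA (l : List A) (S : Submonoid A) (C : DRing.Cx A) (n : ℤ)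
    (h : ∀ i < n, IsZero (((Phi l).obj C).homology i)) :
    ∀ i < n, IsZero (((Phi l).obj (mappingCocone (DerCA.locCxUnit S C))).homology i) := by
  intro i hi
  change IsZero (((Phi l).obj ((mappingCone (DerCA.locCxUnit S C))⟦(-1 : ℤ)⟧)).homology i)
  apply isZero_homology_of_iso (PhiShiftIso l (mappingCone (DerCA.locCxUnit S C)) (-1))
  apply isZero_homology_shift _ (-1) i (i - 1) (by omega)
  have hdse := dse_Phi l _ _ (dse_of_splitting
    (mappingCone.triangleRotateShortComplex (DerCA.locCxUnit S C))
    (mappingCone.triangleRotateShortComplexSplitting (DerCA.locCxUnit S C)))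
  have hS := shortExact_of_dse _ _ hdse
  have e2 := hS.homology_exact₂ (i - 1)
  apply e2.isZero_X₂
  · apply IsZero.eq_of_src
    apply isZero_homology_of_iso (PhiLocIso S l C)
    exact IsZero.of_iso ((DerCA.locFunctor S).map_isZero (h (i - 1) (by omega)))
      (locHomologyIso S _ _)
  · apply IsZero.eq_of_tgt
    apply isZero_homology_of_iso (PhiShiftIso l C 1)
    exact isZero_homology_shift _ 1 (i - 1) i (by omega) (h i hi)


/-- the socle lemma -/
theorem socle (l : List A) : ∀ (D : DRing.Cx A) (q₀ : ℤ), (∀ q < q₀, IsZero (D.homology q)) →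
    IsZero (((Phi l).obj D).homology (q₀ - l.length)) →
    ∀ x : D.homology q₀, (∀ g ∈ l, g • x = 0) → x = 0 := by
  induction l with
  | nil =>
    intro D q₀ _ hz x _
    simp only [List.length_nil, Nat.cast_zero, sub_zero] at hz
    have : Subsingleton (D.homology q₀) := ModuleCat.subsingleton_of_isZero hz
    exact Subsingleton.elim _ _
  | cons f l ih =>
    intro D q₀ hD hz x hx
    have hlow : ∀ q < q₀ - 1, IsZero (((phiFun f).obj D).homology q) := by
      intro q hq
      have e3 := CochainComplex.homologyMap_exact₃_of_distTriang _ (cone_dist D f) q (q + 1) rfl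
      exact e3.isZero_X₂ ((hD q (by omega)).eq_of_src _ _) ((hD (q + 1) (by omega)).eq_of_tgt _ _)
    have hz' : IsZero (((Phi l).obj ((phiFun f).obj D)).homology (q₀ - 1 - l.length)) := by
      have : q₀ - 1 - (l.length : ℤ) = q₀ - ((f :: l).length : ℤ) := by
        simp only [List.length_cons, Nat.cast_add, Nat.cast_one]; ring
      rw [this]
      exact hz
    have key := ih ((phiFun f).obj D) (q₀ - 1) hlow hz'
    have e1 := CochainComplex.homologyMap_exact₁_of_distTriang _ (cone_dist D f) (q₀ - 1) q₀ (by omega)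
    have e3 := CochainComplex.homologyMap_exact₃_of_distTriang _ (cone_dist D f) (q₀ - 1) q₀ (by omega)
    let δ : ((phiFun f).obj D).homology (q₀ - 1) ⟶ D.homology q₀ :=
      homologyδOfTriangle (mappingCone.triangle (f • 𝟙 D)) (q₀ - 1) q₀ (by omega)
    have hmono : Mono δ :=
      e3.mono_g ((hD (q₀ - 1) (by omega)).eq_of_src _ _)
    have hinj : Function.Injective δ.hom := (ModuleCat.mono_iff_injective _).1 hmono
    rw [ShortComplex.moduleCat_exact_iff] at e1
    have hfx : (homologyMap (f • 𝟙 D) q₀).hom x = 0 := by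
      rw [homologyMap_smul', homologyMap_id]
      exact hx f List.mem_cons_self
    obtain ⟨y, hy⟩ : ∃ y : ((phiFun f).obj D).homology (q₀ - 1), δ.hom y = x := e1 x hfx
    have hy0 : y = 0 := by
      apply key
      intro g hg
      apply hinj
      rw [map_smul, map_zero, hy]
      exact hx g (List.mem_cons_of_mem _ hg)
    rw [← hy, hy0, map_zero]

lemma exists_socle (l : List A) (N : Type u) [AddCommGroup N] [Module A N]
    (htors : ∀ g ∈ l, ∀ x : N, ∃ k : ℕ, g ^ k • x = 0) (x : N) (hx : x ≠ 0) :
    ∃ r : A, r • x ≠ 0 ∧ ∀ g ∈ l, g • (r • x) = 0 := by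
  induction l with
  | nil => exact ⟨1, by simpa using hx, by simp⟩
  | cons g l ih =>
    obtain ⟨r, hr, hl⟩ := ih (fun h hh => htors h (List.mem_cons_of_mem _ hh))
    classical
    have hex : ∃ k : ℕ, g ^ k • (r • x) = 0 := htors g List.mem_cons_self _
    have hk0 : Nat.find hex ≠ 0 := by
      intro h0
      have := Nat.find_spec hex
      rw [h0, pow_zero, one_smul] at this
      exact hr this
    obtain ⟨k, hk⟩ := Nat.exists_eq_succ_of_ne_zero hk0
    refine ⟨g ^ k * r, ?_, ?_⟩
    · rw [mul_smul]
      exact Nat.find_min hex (by omega : k < Nat.find hex)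
    · intro h hh
      rcases List.mem_cons.mp hh with rfl | hmem
      · rw [mul_smul, ← mul_smul, ← pow_succ', ← Nat.succ_eq_add_one, ← hk]
        exact Nat.find_spec hex
      · rw [mul_smul, smul_comm, hl h hmem, smul_zero]

lemma Phi_append (a b : List A) (D : DRing.Cx A) :
    (Phi (a ++ b)).obj D = (Phi b).obj ((Phi a).obj D) := by
  induction a generalizing D with
  | nil => rfl
  | cons f a ih => exact ih ((phiFun f).obj D)

lemma koszul_eq_Phi (l : List A) :
    Koszul.koszul A l = (Phi l.reverse).obj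
      ((HomologicalComplex.single (ModuleCat.{u} A) (ComplexShape.up ℤ) 0).obj (ModuleCat.of A A)) := by
  induction l with
  | nil => rfl
  | cons f l ih =>
    rw [List.reverse_cons, Phi_append]
    change (phiFun f).obj (Koszul.koszul A l) = (phiFun f).obj _
    rw [ih]

/-- Koszul-regular ⇒ extended Čech cohomology vanishes below the top degree -/
theorem extCechH_isZero_of_koszulRegular (fs : List A)
    (hfs : ∀ i : ℤ, i < 0 → IsZero ((Koszul.koszul A fs).homology i)) (q : ℤ)
    (hq : q < (fs.length : ℤ)) :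
    IsZero (DerCA.extCechH fs (ModuleCat.of A A) q) := by
  -- Koszul depth of all Čech complexes
  have hA : ∀ gs : List A, ∀ i < (0 : ℤ),
      IsZero (((Phi fs.reverse).obj (DerCA.extCech (ModuleCat.of A A) gs)).homology i) := by
    intro gs
    induction gs with
    | nil =>
      intro i hi
      have := hfs i hi
      rw [koszul_eq_Phi] at this
      exact this
    | cons g gs ih => exact claimA fs.reverse (Submonoid.powers g) _ 0 ih
  -- induction on the degree
  have main : ∀ n : ℕ, (n : ℤ) ≤ fs.length → ∀ q < (n : ℤ),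
      IsZero ((DerCA.extCech (ModuleCat.of A A) fs).homology q) := by
    intro n
    induction n with
    | zero =>
      intro _ q hq
      exact Groth.Agent.S9264.result A fs (ModuleCat.of A A) q (Or.inl (by simpa using hq))
    | succ n ih =>
      intro hn q hq
      have ih' := ih (by push_cast at hn ⊢; omega)
      by_cases hqn : q < (n : ℤ)
      · exact ih' q hqn
      · have hqe : q = (n : ℤ) := by push_cast at hq; omega
        subst hqe
        rw [ModuleCat.isZero_iff_subsingleton]
        by_contra hns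
        rw [not_subsingleton_iff_nontrivial] at hns
        obtain ⟨x, hx⟩ := exists_ne (0 : (DerCA.extCech (ModuleCat.of A A) fs).homology (n : ℤ))
        have htors : ∀ g ∈ fs.reverse, ∀ x : (DerCA.extCech (ModuleCat.of A A) fs).homology (n : ℤ),
            ∃ k : ℕ, g ^ k • x = 0 := by
          intro g hg x
          obtain ⟨r, ⟨k, rfl⟩, hk⟩ := torsH_extCech (ModuleCat.of A A) fs g (List.mem_reverse.mp hg) n x
          exact ⟨k, hk⟩
        obtain ⟨r, hr, hl⟩ := exists_socle fs.reverse _ htors x hx
        apply hr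
        apply socle fs.reverse (DerCA.extCech (ModuleCat.of A A) fs) (n : ℤ) ih' _ _ hl
        apply hA fs
        rw [List.length_reverse]
        push_cast at hn
        omega
  exact main fs.length le_rfl q hq

end Helper98.KoszulCech
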