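import Groth.Agent.Lib.Helper98.KoszulMin
import Mathlib.RingTheory.Filtration

set_option autoImplicit false
universe u
open CategoryTheory CategoryTheory.Limits MonoidalCategory HomologicalComplex CochainComplex HomComplex

namespace Groth.Agent.Lib.Helper98.KoszulEuler

variable {A : Type u} [CommRing A]

/-! ### Structure of the terms of `CM l M` -/

/-- The terms of `CM (z :: l) M` decompose as products. -/
noncomputable def CMconsXEquiv (z : A) (l : List A) (M : ModuleCat.{u} A) (n : ℤ) :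
    (CM (z :: l) M).X n ≃ₗ[A] ((CM l M).X (n + 1) × (CM l M).X n) :=
  (((HomologicalComplex.eval _ _ n).mapIso (coneIso z l M)) ≪≫
    homotopyCofiber.XIsoBiprod (z • 𝟙 (CM l M)) n (n + 1) rfl ≪≫
    ModuleCat.biprodIsoProd _ _).toLinearEquiv

noncomputable def CMnilXEquiv (M : ModuleCat.{u} A) : (CM [] M).X 0 ≃ₗ[A] M :=
  (Iso.trans (Y := ((HomologicalComplex.single (ModuleCat.{u} A) (ComplexShape.up ℤ) 0).obj M).X 0)
    ((HomologicalComplex.eval _ _ 0).mapIso (CMnilIso M))
    (HomologicalComplex.singleObjXSelf (ComplexShape.up ℤ) 0 M)).toLinearEquiv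

lemma CMnil_X_subsingleton (M : ModuleCat.{u} A) (n : ℤ) (hn : n ≠ 0) :
    Subsingleton ((CM [] M).X n) := by
  have h1 : IsZero ((CM [] M).X n) :=
    IsZero.of_iso (HomologicalComplex.isZero_single_obj_X (ComplexShape.up ℤ) 0 M n hn)
      ((HomologicalComplex.eval _ _ n).mapIso (CMnilIso M))
  exact ModuleCat.subsingleton_of_isZero h1

lemma CM_X_subsingleton (M : ModuleCat.{u} A) (l : List A) :
    ∀ n : ℤ, (n < -(l.length : ℤ) ∨ 0 < n) → Subsingleton ((CM l M).X n) := by
  induction l with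
  | nil =>
    intro n hn
    exact CMnil_X_subsingleton M n (by simp at hn; omega)
  | cons z l ih =>
    intro n hn
    simp only [List.length_cons, Nat.cast_add, Nat.cast_one] at hn
    have h1 := ih (n + 1) (by omega)
    have h2 := ih n (by omega)
    exact (CMconsXEquiv z l M n).toEquiv.subsingleton

lemma CM_X_finite (M : ModuleCat.{u} A) [Module.Finite A M] (l : List A) :
    ∀ n : ℤ, Module.Finite A ((CM l M).X n) := by
  induction l with
  | nil =>
    intro n
    by_cases hn : n = 0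
    · subst hn
      exact Module.Finite.equiv (CMnilXEquiv M).symm
    · have := CMnil_X_subsingleton M n hn
      infer_instance
  | cons z l ih =>
    intro n
    have h1 := ih (n + 1)
    have h2 := ih n
    exact Module.Finite.equiv (CMconsXEquiv z l M n).symm

/-! ### Elementwise form of the null-homotopy -/

lemma nullH_apply {C : DRing.Cx A} {s : A} (h : NullH C s) (n : ℤ) :
    ∃ (h1 : C.X n →ₗ[A] C.X (n - 1)) (h2 : C.X (n + 1) →ₗ[A] C.X n),
      ∀ x : C.X n, s • x = (C.d (n - 1) n).hom (h1 x) + h2 ((C.d n (n + 1)).hom x) := by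
  obtain ⟨h, hh⟩ := h
  refine ⟨(h.v n (n - 1) (by omega)).hom, (h.v (n + 1) n (by omega)).hom, fun x => ?_⟩
  have h1 := congrArg (fun c => (c.v n n (add_zero n)).hom x) hh
  simp only [δ_v (-1) 0 (by norm_num) h n n (add_zero n) (n - 1) (n + 1) (by omega) (by omega),
    Int.negOnePow_zero, one_smul, Cochain.ofHom_v] at h1
  exact h1.symm

/-! ### Artin–Rees lifting of cycles -/

lemma exists_lift_of_cycle [IsNoetherianRing A] (C : DRing.Cx A) (l : List A)
    (hnull : ∀ s ∈ l, NullH C s) (n : ℤ) [Module.Finite A (C.X n)] :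
    ∃ k₀ : ℕ, ∀ k, k₀ < k → ∀ z ∈ (Ideal.span {a : A | a ∈ l}) ^ k • (⊤ : Submodule A (C.X n)),
      (C.d n (n + 1)).hom z = 0 →
      ∃ w ∈ (Ideal.span {a : A | a ∈ l}) ^ (k - 1) • (⊤ : Submodule A (C.X (n - 1))),
        (C.d (n - 1) n).hom w = z := by
  set 𝔞 := Ideal.span {a : A | a ∈ l} with h𝔞
  obtain ⟨k₀, hk₀⟩ := Ideal.exists_pow_inf_eq_pow_smul 𝔞 (LinearMap.ker (C.d n (n + 1)).hom)
  refine ⟨k₀, fun k hk z hz hdz => ?_⟩
  have hz' : z ∈ 𝔞 ^ k • (⊤ : Submodule A (C.X n)) ⊓ LinearMap.ker (C.d n (n + 1)).hom :=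
    ⟨hz, hdz⟩
  rw [hk₀ k hk.le] at hz'
  -- key inclusion
  have key1 : 𝔞 • (𝔞 ^ k₀ • (⊤ : Submodule A (C.X n)) ⊓ LinearMap.ker (C.d n (n + 1)).hom) ≤
      (𝔞 ^ k₀ • (⊤ : Submodule A (C.X (n - 1)))).map (C.d (n - 1) n).hom := by
    rw [Submodule.smul_le]
    intro r hr y hy
    induction hr using Submodule.span_induction with
    | mem s hs =>
      obtain ⟨h1, h2, h12⟩ := nullH_apply (hnull s hs) n
      rw [h12 y, LinearMap.mem_ker.1 hy.2, map_zero, add_zero]
      exact Submodule.mem_map_of_mem (Submodule.smul_top_le_comap_smul_top _ h1 hy.1)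
    | zero => rw [zero_smul]; exact Submodule.zero_mem _
    | add a b _ _ ha hb => rw [add_smul]; exact Submodule.add_mem _ ha hb
    | smul a b _ hb => rw [smul_assoc]; exact Submodule.smul_mem _ _ hb
  have key2 : 𝔞 ^ (k - k₀) • (𝔞 ^ k₀ • (⊤ : Submodule A (C.X n)) ⊓
      LinearMap.ker (C.d n (n + 1)).hom) ≤
      (𝔞 ^ (k - 1) • (⊤ : Submodule A (C.X (n - 1)))).map (C.d (n - 1) n).hom := by
    have e1 : k - k₀ = (k - k₀ - 1) + 1 := by omega
    rw [e1, pow_succ, Submodule.mul_smul]
    refine le_trans (Submodule.smul_mono le_rfl key1) ?_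
    rw [← Submodule.map_smul'', ← Submodule.mul_smul, ← pow_add]
    have e2 : k - k₀ - 1 + k₀ = k - 1 := by omega
    rw [e2]
  obtain ⟨w, hw, hwz⟩ := key2 hz'
  exact ⟨w, hw, hwz⟩



/-- A family of submodules of the terms of a complex, stable under the differential. -/
structure SubCx (C : DRing.Cx A) where
  N : ∀ n : ℤ, Submodule A (C.X n)
  le : ∀ i j : ℤ, N i ≤ (N j).comap (C.d i j).hom

namespace SubCx

variable {C : DRing.Cx A} (S : SubCx C)

/-- The subcomplex. -/
noncomputable def sub : DRing.Cx A where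
  X n := ModuleCat.of A (S.N n)
  d i j := ModuleCat.ofHom ((C.d i j).hom.restrict (S.le i j))
  shape i j h := by
    apply ModuleCat.hom_ext
    apply LinearMap.ext
    intro x
    apply Subtype.ext
    change (C.d i j).hom x.1 = 0
    rw [C.shape i j h]
    rfl
  d_comp_d' i j k _ _ := by
    apply ModuleCat.hom_ext
    apply LinearMap.ext
    intro x
    apply Subtype.ext
    change (C.d j k).hom ((C.d i j).hom x.1) = 0
    have := congrArg (fun t => t.hom x.1) (C.d_comp_d i j k)
    exact this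

/-- The quotient complex. -/
noncomputable def quot : DRing.Cx A where
  X n := ModuleCat.of A (C.X n ⧸ S.N n)
  d i j := ModuleCat.ofHom (Submodule.mapQ (S.N i) (S.N j) (C.d i j).hom (S.le i j))
  shape i j h := by
    apply ModuleCat.hom_ext
    apply LinearMap.ext
    intro x
    obtain ⟨x, rfl⟩ := Submodule.Quotient.mk_surjective _ x
    change Submodule.Quotient.mk ((C.d i j).hom x) = 0
    rw [C.shape i j h]
    rfl
  d_comp_d' i j k _ _ := by
    apply ModuleCat.hom_ext
    apply LinearMap.ext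
    intro x
    obtain ⟨x, rfl⟩ := Submodule.Quotient.mk_surjective _ x
    change Submodule.Quotient.mk ((C.d j k).hom ((C.d i j).hom x)) = 0
    have := congrArg (fun t => t.hom x) (C.d_comp_d i j k)
    change (C.d j k).hom ((C.d i j).hom x) = 0 at this
    rw [this]
    rfl

/-- The inclusion of the subcomplex. -/
noncomputable def ι : S.sub ⟶ C where
  f n := ModuleCat.ofHom (S.N n).subtype
  comm' i j _ := by
    ext x
    rfl

/-- The projection to the quotient complex. -/
noncomputable def π : C ⟶ S.quot where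
  f n := ModuleCat.ofHom (S.N n).mkQ
  comm' i j _ := by
    ext x
    rfl

/-- The short exact sequence `0 → sub → C → quot → 0`. -/
noncomputable def ses : ShortComplex (DRing.Cx A) :=
  ShortComplex.mk S.ι S.π (by
    apply HomologicalComplex.hom_ext
    intro n
    apply ModuleCat.hom_ext
    apply LinearMap.ext
    intro (x : S.N n)
    change Submodule.Quotient.mk (x : C.X n) = 0
    rw [Submodule.Quotient.mk_eq_zero]
    exact x.2)

lemma ses_shortExact : S.ses.ShortExact := by
  apply HomologicalComplex.shortExact_of_degreewise_shortExact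
  intro n
  apply ModuleCat.shortComplex_shortExact
  · intro (x : C.X n)
    change (S.N n).mkQ x = 0 ↔ x ∈ Set.range (S.N n).subtype
    simp
  · exact (S.N n).subtype_injective
  · exact (S.N n).mkQ_surjective

/-- Acyclicity criterion for the subcomplex. -/
lemma isZero_homology_sub (n : ℤ)
    (h : ∀ z ∈ S.N n, (C.d n (n + 1)).hom z = 0 → ∃ w ∈ S.N (n - 1), (C.d (n - 1) n).hom w = z) :
    IsZero (S.sub.homology n) := by
  rw [← HomologicalComplex.exactAt_iff_isZero_homology,
    HomologicalComplex.exactAt_iff' _ (n - 1) n (n + 1) (by simp) (by simp),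
    ShortComplex.moduleCat_exact_iff]
  intro (z : S.N n) hz
  have hz' : (C.d n (n + 1)).hom z.1 = 0 := congrArg Subtype.val hz
  obtain ⟨w, hw, hwz⟩ := h z.1 z.2 hz'
  exact ⟨⟨w, hw⟩, Subtype.ext hwz⟩

end SubCx

/-! ### The shifted adic filtration -/

/-- The `𝔞`-adic filtration of a minimal complex, shifted by degree:
`F^p C^n = 𝔞^{(p+n)⁺} C^n`. -/
noncomputable def filt (𝔞 : Ideal A) (C : DRing.Cx A) (hmin : IsMin 𝔞 C) (p : ℤ) : SubCx C where
  N n := 𝔞 ^ (p + n).toNat • (⊤ : Submodule A (C.X n))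
  le i j := by
    intro x hx
    by_cases hij : i + 1 = j
    · subst hij
      have h1 : (⊤ : Submodule A (C.X i)) ≤
          (𝔞 • (⊤ : Submodule A (C.X (i + 1)))).comap (C.d i (i + 1)).hom := fun y _ => hmin i (i + 1) y
      have h2 : 𝔞 ^ (p + i).toNat • (⊤ : Submodule A (C.X i)) ≤
          (𝔞 ^ (p + i).toNat • (𝔞 • (⊤ : Submodule A (C.X (i + 1))))).comap (C.d i (i + 1)).hom := by
        rw [← Submodule.map_le_iff_le_comap, Submodule.map_smul'']
        exact Submodule.smul_mono le_rfl (Submodule.map_le_iff_le_comap.2 h1)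
      have h3 := h2 hx
      rw [Submodule.mem_comap, ← Submodule.mul_smul, ← pow_succ] at h3
      exact Submodule.smul_mono (Ideal.pow_le_pow_right (by omega)) le_rfl h3
    · rw [Submodule.mem_comap, C.shape i j hij]
      exact Submodule.zero_mem _

lemma mem_span_of_mem (l : List A) : ∀ s ∈ l, s ∈ Ideal.span {a : A | a ∈ l} :=
  fun _ hs => Ideal.subset_span hs

/-- The filtration on `CM l M` by powers of the ideal generated by `l`. -/
noncomputable def filtCM (l : List A) (M : ModuleCat.{u} A) (p : ℤ) : SubCx (CM l M) :=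
  filt (Ideal.span {a : A | a ∈ l}) (CM l M) (isMin_CM _ l (mem_span_of_mem l) M) p

theorem exists_filt_acyclic [IsNoetherianRing A] (l : List A) (M : ModuleCat.{u} A)
    [Module.Finite A M] :
    ∃ p₀ : ℤ, ∀ p, p₀ ≤ p → ∀ n : ℤ, IsZero ((filtCM l M p).sub.homology n) := by
  classical
  have hfin := CM_X_finite M l
  have h := fun n : ℤ => exists_lift_of_cycle (CM l M) l (fun s hs => nullH_CM l M s hs) n
  choose k₀ hk₀ using h
  refine ⟨(∑ n ∈ Finset.Icc (-(l.length : ℤ)) 0, (k₀ n : ℤ)) + l.length + 1, fun p hp n => ?_⟩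
  apply SubCx.isZero_homology_sub
  intro z hz hdz
  by_cases hn : n < -(l.length : ℤ) ∨ 0 < n
  · have := CM_X_subsingleton M l n hn
    exact ⟨0, Submodule.zero_mem _, by rw [map_zero]; exact Subsingleton.elim _ _⟩
  · have hn' : n ∈ Finset.Icc (-(l.length : ℤ)) 0 := by
      rw [Finset.mem_Icc]; omega
    have h1 : (k₀ n : ℤ) ≤ ∑ n ∈ Finset.Icc (-(l.length : ℤ)) 0, (k₀ n : ℤ) :=
      Finset.single_le_sum (f := fun n => (k₀ n : ℤ)) (fun i _ => Int.natCast_nonneg _) hn'
    have h2 : k₀ n < (p + n).toNat := by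
      rw [Finset.mem_Icc] at hn'
      omega
    obtain ⟨w, hw, hwz⟩ := hk₀ n (p + n).toNat h2 z hz hdz
    refine ⟨w, ?_, hwz⟩
    change w ∈ Ideal.span {a : A | a ∈ l} ^ (p + (n - 1)).toNat • (⊤ : Submodule A ((CM l M).X (n - 1)))
    have e : (p + (n - 1)).toNat = (p + n).toNat - 1 := by omega
    rw [e]
    exact hw

end Groth.Agent.Lib.Helper98.KoszulEuler
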