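import Groth.Agent.Lib.Helper98.KoszulHomotopy
import Groth.Agent.Lib.Helper98.KoszulDepth

set_option autoImplicit false
universe u
open CategoryTheory CategoryTheory.Limits MonoidalCategory HomologicalComplex CochainComplex HomComplex
open TensorProduct

namespace Groth.Agent.Lib.Helper98.KoszulEuler

variable {A : Type u} [CommRing A]

/-- All differentials have image in `𝔞` times the target. -/
def IsMin (𝔞 : Ideal A) (C : DRing.Cx A) : Prop :=
  ∀ (i j : ℤ) (x : C.X i), (C.d i j).hom x ∈ 𝔞 • (⊤ : Submodule A (C.X j))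

lemma map_mem_smul_top (𝔞 : Ideal A) {X Y : Type u} [AddCommGroup X] [Module A X] [AddCommGroup Y]
    [Module A Y] (f : X →ₗ[A] Y) {x : X} (hx : x ∈ 𝔞 • (⊤ : Submodule A X)) :
    f x ∈ 𝔞 • (⊤ : Submodule A Y) :=
  Submodule.smul_top_le_comap_smul_top 𝔞 f hx

lemma isMin_of_iso (𝔞 : Ideal A) {C D : DRing.Cx A} (e : C ≅ D) (h : IsMin 𝔞 C) : IsMin 𝔞 D := by
  intro i j x
  have h1 : (D.d i j).hom x = (e.hom.f j).hom ((C.d i j).hom ((e.inv.f i).hom x)) := by
    have := congrArg (fun t => t.hom x) (show e.inv.f i ≫ C.d i j ≫ e.hom.f j = D.d i j by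
      rw [← e.hom.comm, ← Category.assoc, ← HomologicalComplex.comp_f, e.inv_hom_id,
        HomologicalComplex.id_f, Category.id_comp])
    exact this.symm
  rw [h1]
  exact map_mem_smul_top 𝔞 _ (h i j _)

lemma isMin_single (𝔞 : Ideal A) (X : ModuleCat.{u} A) :
    IsMin 𝔞 ((HomologicalComplex.single (ModuleCat.{u} A) (ComplexShape.up ℤ) 0).obj X) := by
  intro i j x
  rw [HomologicalComplex.single_obj_d]
  exact Submodule.zero_mem _

open Helper98.KoszulFun in
lemma isMin_cone (𝔞 : Ideal A) (K : DRing.Cx A) (z : A) (hz : z ∈ 𝔞) (h : IsMin 𝔞 K) :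
    IsMin 𝔞 (mappingCone (z • 𝟙 K)) := by
  intro i j x
  by_cases hij : i + 1 = j
  · subst hij
    rw [cone_decomp (z • 𝟙 K) i x, map_add]
    refine Submodule.add_mem _ ?_ ?_
    · set u := ((mappingCone.fst (z • 𝟙 K)).1.v i (i + 1) rfl).hom x
      have h1 := congrArg (fun t => t.hom u)
        (mappingCone.inl_v_d (z • 𝟙 K) (i + 1) i (i + 1 + 1) (by omega) (by omega))
      simp only [ModuleCat.hom_comp, LinearMap.comp_apply, ModuleCat.hom_sub,
        LinearMap.sub_apply] at h1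
      rw [h1]
      refine Submodule.sub_mem _ ?_ ?_
      · have : ((z • 𝟙 K : K ⟶ K).f (i + 1)).hom u = z • u := rfl
        rw [this, map_smul]
        exact Submodule.smul_mem_smul hz Submodule.mem_top
      · exact map_mem_smul_top 𝔞 _ (h _ _ u)
    · set v := ((mappingCone.snd (z • 𝟙 K)).v i i (add_zero i)).hom x
      have h1 := congrArg (fun t => t.hom v) (mappingCone.inr_f_d (z • 𝟙 K) i (i + 1))
      simp only [ModuleCat.hom_comp, LinearMap.comp_apply] at h1
      rw [h1]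
      exact map_mem_smul_top 𝔞 _ (h _ _ v)
  · rw [(mappingCone (z • 𝟙 K)).shape i j hij]
    exact Submodule.zero_mem _

lemma isMin_koszul (𝔞 : Ideal A) (l : List A) (hl : ∀ s ∈ l, s ∈ 𝔞) : IsMin 𝔞 (Koszul.koszul A l) := by
  induction l with
  | nil => exact isMin_single 𝔞 _
  | cons z l ih =>
    exact isMin_cone 𝔞 _ z (hl z (by simp)) (ih (fun s hs => hl s (List.mem_cons_of_mem _ hs)))

lemma isMin_tensF (𝔞 : Ideal A) (M : ModuleCat.{u} A) (K : DRing.Cx A) (h : IsMin 𝔞 K) :
    IsMin 𝔞 ((tensF M).obj K) := by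
  intro i j t
  change (K.d i j ▷ M).hom t ∈ _
  induction t using TensorProduct.induction_on with
  | zero => rw [map_zero]; exact Submodule.zero_mem _
  | tmul k m =>
    rw [ModuleCat.MonoidalCategory.whiskerRight_apply]
    exact map_mem_smul_top 𝔞 ((TensorProduct.mk A (K.X j) M).flip m) (h i j k)
  | add a b ha hb => rw [map_add]; exact Submodule.add_mem _ ha hb

theorem isMin_CM (𝔞 : Ideal A) (l : List A) (hl : ∀ s ∈ l, s ∈ 𝔞) (M : ModuleCat.{u} A) :
    IsMin 𝔞 (CM l M) :=
  isMin_tensF 𝔞 M _ (isMin_koszul 𝔞 l hl)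

end Groth.Agent.Lib.Helper98.KoszulEuler
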