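import Groth.Agent.Lib.Helper98.CechFlatLin
import Mathlib.Algebra.DualNumber
import Mathlib.RingTheory.Derivation.Basic

/-!
# helper98: derivations act on local cohomology `H^i_I(A)` (via dual numbers + flat base change)

* `Helper98.LCTransport.exists_semilinear` : for flat Noetherian `A`-algebras `B₁, B₂` and a ring iso
  `σ : B₁ ≃+* B₂` (not `A`-linear) matching the radicals of `I B₁`, `I B₂`, a `σ`-semilinear bijection
  `B₁ ⊗ H^i_I(A) ≃+ B₂ ⊗ H^i_I(A)`.
* `Helper98.LCDeriv.phi θ : A →+* A[ε]`, `Bphi θ` (dual numbers with twisted algebra structure),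
  `extract`, `exists_connection` (S8939).
-/

set_option autoImplicit false
universe u
open CategoryTheory CategoryTheory.Limits TensorProduct

namespace Helper98.LCTransport

variable {A : Type u} [CommRing A] [IsNoetherianRing A]

/-- transport of the base change of local cohomology of the ring along a ring isomorphism between two
flat Noetherian `A`-algebras which is NOT assumed `A`-linear; only the radicals of the extended ideals
are required to correspond. -/
theorem exists_semilinear (B₁ B₂ : Type u) [CommRing B₁] [CommRing B₂] [IsNoetherianRing B₁]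
    [IsNoetherianRing B₂] [Algebra A B₁] [Algebra A B₂] [Module.Flat A B₁] [Module.Flat A B₂]
    (σ : B₁ ≃+* B₂) (I : Ideal A)
    (hrad : ((I.map (algebraMap A B₁)).map σ.toRingHom).radical = (I.map (algebraMap A B₂)).radical)
    (i : ℕ) :
    ∃ Ψ : (B₁ ⊗[A] LocCoh.H I i A) ≃+ (B₂ ⊗[A] LocCoh.H I i A),
      ∀ (b : B₁) (z : B₁ ⊗[A] LocCoh.H I i A), Ψ (b • z) = σ b • Ψ z := by
  obtain ⟨e₁⟩ := Helper98.CechFlatLin.lc_baseChange_lin A B₁ I A i
  obtain ⟨e₂⟩ := Helper98.CechFlatLin.lc_baseChange_lin A B₂ I A i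
  -- `B_j ⊗ A ≅ B_j`
  let r₁ : (B₁ ⊗[A] A) ≃ₗ[B₁] B₁ := AlgebraTensorModule.rid A B₁ B₁
  let r₂ : (B₂ ⊗[A] A) ≃ₗ[B₂] B₂ := AlgebraTensorModule.rid A B₂ B₂
  let f₁ := ((localCohomology (I.map (algebraMap A B₁)) i).mapIso r₁.toModuleIso).toLinearEquiv
  let f₂ := ((localCohomology (I.map (algebraMap A B₂)) i).mapIso r₂.toModuleIso).toLinearEquiv
  -- transport along `σ`
  let _ : Algebra B₁ B₂ := σ.toRingHom.toAlgebra
  obtain ⟨φ₀, hφ₀⟩ := Helper98.CechRestrict.lc_restrict (R := B₁) (R' := B₂)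
    (I.map (algebraMap A B₁)) B₂ i
  let σl : B₁ ≃ₗ[B₁] B₂ :=
    { σ.toAddEquiv with
      map_smul' := fun b x => by
        change σ (b * x) = σ b * σ x
        exact map_mul σ b x }
  let g := ((localCohomology (I.map (algebraMap A B₁)) i).mapIso σl.toModuleIso).toLinearEquiv
  let k := ((localCohomology.isoOfSameRadical hrad i).app (ModuleCat.of B₂ B₂)).toLinearEquiv
  refine ⟨e₁.toAddEquiv.trans (f₁.toAddEquiv.trans (g.toAddEquiv.trans (φ₀.symm.trans
    (k.toAddEquiv.trans (f₂.symm.toAddEquiv.trans e₂.symm.toAddEquiv))))), ?_⟩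
  intro b z
  change e₂.symm (f₂.symm (k (φ₀.symm (g (f₁ (e₁ (b • z))))))) =
    σ b • e₂.symm (f₂.symm (k (φ₀.symm (g (f₁ (e₁ z))))))
  have h1 : φ₀.symm (b • g (f₁ (e₁ z))) = σ b • φ₀.symm (g (f₁ (e₁ z))) := by
    apply φ₀.injective
    rw [AddEquiv.apply_symm_apply]
    have := hφ₀ b (φ₀.symm (g (f₁ (e₁ z))))
    rw [AddEquiv.apply_symm_apply] at this
    rw [← this]
    rfl
  rw [e₁.map_smul, f₁.map_smul, g.map_smul, h1, k.map_smul, f₂.symm.map_smul, e₂.symm.map_smul]

end Helper98.LCTransport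

namespace Helper98.LCDeriv

open TrivSqZeroExt

variable {A : Type u} [CommRing A]

/-- the ring hom `a ↦ a + θ(a) ε` -/
def phi (θ : Derivation ℤ A A) : A →+* DualNumber A where
  toFun a := inl a + inr (θ a)
  map_one' := by
    ext <;> simp
  map_mul' a b := by
    ext
    · simp
    · simp [mul_comm]
  map_zero' := by
    ext <;> simp
  map_add' a b := by
    ext
    · simp
    · simp

@[simp] lemma fst_phi (θ : Derivation ℤ A A) (a : A) : (phi θ a).fst = a := by simp [phi]
@[simp] lemma snd_phi (θ : Derivation ℤ A A) (a : A) : (phi θ a).snd = θ a := by simp [phi]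

/-- the `A`-linear equivalence `A × A ≃ A[ε]` -/
def prodEquiv : (A × A) ≃ₗ[A] DualNumber A := LinearEquiv.refl A (A × A)

instance : Module.Finite A (DualNumber A) := Module.Finite.equiv prodEquiv
instance : Module.Flat A (DualNumber A) := Module.Flat.of_linearEquiv prodEquiv.symm
instance [IsNoetherianRing A] : IsNoetherianRing (DualNumber A) := IsNoetherianRing.of_finite A _

variable {A : Type u} [CommRing A]

/-- dual numbers with the twisted `A`-algebra structure `a ↦ a + θ(a)ε` -/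
def Bphi (_θ : Derivation ℤ A A) : Type u := DualNumber A

variable (θ : Derivation ℤ A A)

instance : CommRing (Bphi θ) := inferInstanceAs (CommRing (DualNumber A))
instance : Algebra A (Bphi θ) := (phi θ).toAlgebra
instance [IsNoetherianRing A] : IsNoetherianRing (Bphi θ) :=
  inferInstanceAs (IsNoetherianRing (DualNumber A))

/-- the identity ring isomorphism -/
def toD : Bphi θ ≃+* DualNumber A := RingEquiv.refl (DualNumber A)

lemma toD_smul (a : A) (b : Bphi θ) : toD θ (a • b) = phi θ a * toD θ b := rfl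

lemma toD_algebraMap (a : A) : toD θ (algebraMap A (Bphi θ) a) = phi θ a := rfl

/-- `Bphi θ` is free over `A` with basis `1, ε`. -/
def prodEquivPhi : (A × A) ≃ₗ[A] Bphi θ where
  toFun p := (toD θ).symm (phi θ p.1 + inr p.2)
  invFun b := ((toD θ b).fst, (toD θ b).snd - θ (toD θ b).fst)
  map_add' p q := by
    change (phi θ (p + q).1 + inr (p + q).2 : DualNumber A) =
      (phi θ p.1 + inr p.2) + (phi θ q.1 + inr q.2)
    apply TrivSqZeroExt.ext
    · simp
    · simp only [Prod.fst_add, map_add, Prod.snd_add, snd_add, snd_phi, snd_inr]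
      abel
  map_smul' a p := by
    change (phi θ (a • p).1 + inr (a • p).2 : DualNumber A) = phi θ a * (phi θ p.1 + inr p.2)
    apply TrivSqZeroExt.ext
    · simp
    · simp only [Prod.smul_fst, smul_eq_mul, Prod.smul_snd, snd_add, snd_phi, Derivation.leibniz,
        snd_inr, snd_mul, fst_phi, fst_add, fst_inr, add_zero,
        MulOpposite.smul_eq_mul_unop, MulOpposite.unop_op]
      ring
  left_inv p := by
    change ((phi θ p.1 + inr p.2 : DualNumber A).fst,
      (phi θ p.1 + inr p.2 : DualNumber A).snd - θ (phi θ p.1 + inr p.2 : DualNumber A).fst) = p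
    ext <;> simp
  right_inv b := by
    change (phi θ (toD θ b).fst + inr ((toD θ b).snd - θ (toD θ b).fst) : DualNumber A) = toD θ b
    apply TrivSqZeroExt.ext
    · simp
    · simp

instance : Module.Flat A (Bphi θ) := Module.Flat.of_linearEquiv (prodEquivPhi θ).symm

variable {A : Type u} [CommRing A] (θ : Derivation ℤ A A)

lemma radical_eq (I : Ideal A) :
    ((I.map (algebraMap A (Bphi θ))).map (toD θ).toRingHom).radical =
      (I.map (algebraMap A (DualNumber A))).radical := by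
  rw [Ideal.map_map]
  have hcomp : (toD θ).toRingHom.comp (algebraMap A (Bphi θ)) = phi θ := rfl
  rw [hcomp]
  have hι : ∀ a, algebraMap A (DualNumber A) a = inl a := fun a => rfl
  apply le_antisymm
  · rw [Ideal.radical_le_radical_iff, Ideal.map_le_iff_le_comap]
    intro a ha
    refine ⟨2, ?_⟩
    have e : (phi θ a) ^ 2 = algebraMap A (DualNumber A) a * (inl a + inr (2 * θ a)) := by
      rw [hι]
      apply TrivSqZeroExt.ext
      · simp [pow_two]
      · simp [pow_two, mul_comm]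
        ring
    rw [e]
    exact Ideal.mul_mem_right _ _ (Ideal.mem_map_of_mem _ ha)
  · rw [Ideal.radical_le_radical_iff, Ideal.map_le_iff_le_comap]
    intro a ha
    refine ⟨2, ?_⟩
    have e : (algebraMap A (DualNumber A) a) ^ 2 = phi θ a * (inl a - inr (θ a)) := by
      rw [hι]
      apply TrivSqZeroExt.ext
      · simp [pow_two]
      · simp [pow_two, mul_comm]
    rw [e]
    exact Ideal.mul_mem_right _ _ (Ideal.mem_map_of_mem _ ha)

variable {A : Type u} [CommRing A] (θ : Derivation ℤ A A)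
variable (H : Type u) [AddCommGroup H] [Module A H]

/-- `fst` on dual numbers, `A`-linear -/
def fstι : DualNumber A →ₗ[A] A := LinearMap.fst A A A
/-- `snd` on dual numbers, `A`-linear -/
def sndι : DualNumber A →ₗ[A] A := LinearMap.snd A A A

@[simp] lemma fstι_apply (b : DualNumber A) : fstι b = b.fst := rfl
@[simp] lemma sndι_apply (b : DualNumber A) : sndι b = b.snd := rfl

/-- coordinates on `A[ε] ⊗ H` -/
def p₀ : DualNumber A ⊗[A] H →ₗ[A] H := TensorProduct.lift ((LinearMap.lsmul A H).comp fstι)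
def p₁ : DualNumber A ⊗[A] H →ₗ[A] H := TensorProduct.lift ((LinearMap.lsmul A H).comp sndι)

@[simp] lemma p₀_tmul (b : DualNumber A) (h : H) : p₀ H (b ⊗ₜ h) = b.fst • h := by simp [p₀]
@[simp] lemma p₁_tmul (b : DualNumber A) (h : H) : p₁ H (b ⊗ₜ h) = b.snd • h := by simp [p₁]

lemma p₀_smul (b : DualNumber A) (z : DualNumber A ⊗[A] H) : p₀ H (b • z) = b.fst • p₀ H z := by
  induction z using TensorProduct.induction_on with
  | zero => simp
  | tmul c h => rw [TensorProduct.smul_tmul', p₀_tmul, p₀_tmul, smul_eq_mul, fst_mul, mul_smul]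
  | add x y hx hy => rw [smul_add, map_add, map_add, hx, hy, smul_add]

lemma p₁_smul (b : DualNumber A) (z : DualNumber A ⊗[A] H) :
    p₁ H (b • z) = b.fst • p₁ H z + b.snd • p₀ H z := by
  induction z using TensorProduct.induction_on with
  | zero => simp
  | tmul c h =>
    rw [TensorProduct.smul_tmul', p₁_tmul, p₁_tmul, p₀_tmul, smul_eq_mul, snd_mul, add_smul]
    simp only [smul_eq_mul, MulOpposite.smul_eq_mul_unop, MulOpposite.unop_op, mul_smul]
  | add x y hx hy =>
    rw [smul_add, map_add, map_add, map_add, hx, hy, smul_add, smul_add]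
    abel

/-- `fst` on `Bphi θ`, `A`-linear for the twisted structure -/
def fstφ : Bphi θ →ₗ[A] A where
  toFun b := (toD θ b).fst
  map_add' _ _ := rfl
  map_smul' a b := by
    change (phi θ a * toD θ b).fst = a * (toD θ b).fst
    simp

/-- the `ε`-coordinate in the basis `1, ε` of `Bphi θ` -/
def sndφ : Bphi θ →ₗ[A] A where
  toFun b := (toD θ b).snd - θ (toD θ b).fst
  map_add' b c := by
    change (toD θ b + toD θ c).snd - θ (toD θ b + toD θ c).fst = _
    simp only [snd_add, fst_add, map_add]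
    abel
  map_smul' a b := by
    change (phi θ a * toD θ b).snd - θ (phi θ a * toD θ b).fst = a * ((toD θ b).snd - θ (toD θ b).fst)
    simp only [snd_mul, fst_phi, snd_phi, fst_mul, Derivation.leibniz, smul_eq_mul,
      MulOpposite.smul_eq_mul_unop, MulOpposite.unop_op]
    ring

def q₀ : Bphi θ ⊗[A] H →ₗ[A] H := TensorProduct.lift ((LinearMap.lsmul A H).comp (fstφ θ))
def q₁ : Bphi θ ⊗[A] H →ₗ[A] H := TensorProduct.lift ((LinearMap.lsmul A H).comp (sndφ θ))

@[simp] lemma q₀_tmul (b : Bphi θ) (h : H) : q₀ θ H (b ⊗ₜ h) = (toD θ b).fst • h := by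
  simp only [q₀, TensorProduct.lift.tmul, LinearMap.comp_apply, LinearMap.lsmul_apply]
  rfl
@[simp] lemma q₁_tmul (b : Bphi θ) (h : H) :
    q₁ θ H (b ⊗ₜ h) = ((toD θ b).snd - θ (toD θ b).fst) • h := by
  simp only [q₁, TensorProduct.lift.tmul, LinearMap.comp_apply, LinearMap.lsmul_apply]
  rfl

lemma q₀_smul (b : Bphi θ) (w : Bphi θ ⊗[A] H) : q₀ θ H (b • w) = (toD θ b).fst • q₀ θ H w := by
  induction w using TensorProduct.induction_on with
  | zero => simp
  | tmul c h =>
    rw [TensorProduct.smul_tmul', q₀_tmul, q₀_tmul, smul_eq_mul, map_mul, fst_mul, mul_smul]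
  | add x y hx hy => rw [smul_add, map_add, map_add, hx, hy, smul_add]

/-- decomposition in the twisted basis -/
lemma decompφ (w : Bphi θ ⊗[A] H) :
    w = (1 : Bphi θ) ⊗ₜ[A] q₀ θ H w + ((toD θ).symm DualNumber.eps) • ((1 : Bphi θ) ⊗ₜ[A] q₁ θ H w) := by
  induction w using TensorProduct.induction_on with
  | zero => simp
  | tmul c h =>
    rw [q₀_tmul, q₁_tmul]
    simp only [TensorProduct.tmul_smul, TensorProduct.smul_tmul']
    rw [← TensorProduct.add_tmul]
    congr 1
    apply (toD θ).injective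
    rw [map_add, toD_smul, smul_eq_mul, map_mul, toD_smul, RingEquiv.apply_symm_apply, map_one]
    apply TrivSqZeroExt.ext
    · simp
    · simp
  | add x y hx hy =>
    rw [map_add, map_add, TensorProduct.tmul_add, TensorProduct.tmul_add, smul_add]
    nth_rewrite 1 [hx]
    nth_rewrite 1 [hy]
    abel

theorem extract
    (Ψ : (Bphi θ ⊗[A] H) ≃+ (DualNumber A ⊗[A] H))
    (hΨ : ∀ (b : Bphi θ) (z : Bphi θ ⊗[A] H), Ψ (b • z) = toD θ b • Ψ z) :
    ∃ D : H →+ H, ∀ (a : A) (ξ : H), D (a • ξ) = θ a • ξ + a • D ξ := by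
  have hΨs : ∀ (b : DualNumber A) (z : DualNumber A ⊗[A] H),
      Ψ.symm (b • z) = (toD θ).symm b • Ψ.symm z := by
    intro b z
    apply Ψ.injective
    rw [hΨ, AddEquiv.apply_symm_apply, AddEquiv.apply_symm_apply, RingEquiv.apply_symm_apply]
  -- the maps
  let E : H → H := fun ξ => p₀ H (Ψ ((1 : Bphi θ) ⊗ₜ[A] ξ))
  let E' : H → H := fun h => q₀ θ H (Ψ.symm ((1 : DualNumber A) ⊗ₜ[A] h))
  have h1 : ∀ (a : A) (ξ : H), Ψ ((1 : Bphi θ) ⊗ₜ[A] (a • ξ)) = phi θ a • Ψ ((1 : Bphi θ) ⊗ₜ[A] ξ) := by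
    intro a ξ
    have : (1 : Bphi θ) ⊗ₜ[A] (a • ξ) = (algebraMap A (Bphi θ) a) • ((1 : Bphi θ) ⊗ₜ[A] ξ) := by
      rw [TensorProduct.tmul_smul, TensorProduct.smul_tmul', TensorProduct.smul_tmul', smul_eq_mul,
        mul_one, Algebra.algebraMap_eq_smul_one]
    rw [this, hΨ]
    rfl
  have hE' : ∀ (a : A) (h : H), E' (a • h) = a • E' h := by
    intro a h
    have : (1 : DualNumber A) ⊗ₜ[A] (a • h) =
        (algebraMap A (DualNumber A) a) • ((1 : DualNumber A) ⊗ₜ[A] h) := by
      rw [TensorProduct.tmul_smul, TensorProduct.smul_tmul', TensorProduct.smul_tmul', smul_eq_mul,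
        mul_one, Algebra.algebraMap_eq_smul_one]
    change q₀ θ H (Ψ.symm _) = a • q₀ θ H (Ψ.symm _)
    rw [this, hΨs, q₀_smul, RingEquiv.apply_symm_apply]
    congr 1
  have hEE' : ∀ h : H, E (E' h) = h := by
    intro h
    have hd := decompφ θ H (Ψ.symm ((1 : DualNumber A) ⊗ₜ[A] h))
    have h2 := congrArg Ψ hd
    rw [AddEquiv.apply_symm_apply, map_add, hΨ, RingEquiv.apply_symm_apply] at h2
    have h3 := congrArg (p₀ H) h2
    rw [map_add, p₀_smul, p₀_tmul] at h3
    simp only [fst_one, one_smul, DualNumber.fst_eps, zero_smul, add_zero] at h3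
    exact h3.symm
  let D₀ : H →+ H :=
    (p₁ H).toAddMonoidHom.comp (Ψ.toAddMonoidHom.comp
      (TensorProduct.mk A (Bphi θ) H 1).toAddMonoidHom)
  let E'add : H →+ H :=
    (q₀ θ H).toAddMonoidHom.comp (Ψ.symm.toAddMonoidHom.comp
      (TensorProduct.mk A (DualNumber A) H 1).toAddMonoidHom)
  refine ⟨D₀.comp E'add, ?_⟩
  intro a ξ
  change p₁ H (Ψ ((1 : Bphi θ) ⊗ₜ[A] (E' (a • ξ)))) = θ a • ξ + a • p₁ H (Ψ ((1 : Bphi θ) ⊗ₜ[A] (E' ξ)))
  rw [hE', h1, p₁_smul, fst_phi, snd_phi]
  have : p₀ H (Ψ ((1 : Bphi θ) ⊗ₜ[A] (E' ξ))) = ξ := hEE' ξ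
  rw [this, add_comm]

end Helper98.LCDeriv

namespace Helper98.LCDeriv

theorem exists_connection {A : Type u} [CommRing A] [IsNoetherianRing A] (I : Ideal A)
    (θ : Derivation ℤ A A) (i : ℕ) :
    ∃ D : LocCoh.H I i A →+ LocCoh.H I i A,
      ∀ (a : A) (ξ : LocCoh.H I i A), D (a • ξ) = θ a • ξ + a • D ξ := by
  obtain ⟨Ψ, hΨ⟩ := Helper98.LCTransport.exists_semilinear (Bphi θ) (DualNumber A) (toD θ) I
    (radical_eq θ I) i
  exact extract θ (LocCoh.H I i A) Ψ hΨ

end Helper98.LCDeriv
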