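import Groth.Agent.Lib.Helper98.LCFaltings
import Mathlib.RingTheory.Localization.Finiteness
import Mathlib.RingTheory.Ideal.AssociatedPrime.Finiteness

set_option autoImplicit false
open CategoryTheory
open scoped Pointwise

namespace Groth.Agent.Lib.Helper98.LCLocGlob

open Groth.Agent.Lib.Helper92.LC Groth.Agent.Lib.Helper98.LCFaltings

universe u
variable {R : Type u} [CommRing R] [IsNoetherianRing R]

/-- over a Noetherian ring, a submodule of a f.g. submodule is f.g. -/
theorem fg_of_le {H : Type u} [AddCommGroup H] [Module R H] {s N : Submodule R H} (hN : N.FG)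
    (hs : s ≤ N) : s.FG :=
  (isNoetherian_submodule.1 (isNoetherian_of_fg_of_noetherian N hN)) s hs

variable (I : Ideal R)

/-- the `I`-torsion `(0 :_H I)` as a submodule -/
abbrev soc (H : Type u) [AddCommGroup H] [Module R H] : Submodule R H :=
  Submodule.torsionBySet R H (I : Set R)

omit [IsNoetherianRing R] in
theorem mem_soc {H : Type u} [AddCommGroup H] [Module R H] (x : H) :
    x ∈ soc I H ↔ ∀ a ∈ I, a • x = 0 := by
  rw [Submodule.mem_torsionBySet_iff]
  exact ⟨fun h a ha => h ⟨a, ha⟩, fun h a => h a.1 a.2⟩

/-- Key algebraic step: `δ : T → N` linear with `ker δ` f.g., `(0 :_T I)` f.g.; then the part of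
`(0 :_N I)` lying in the image of `δ` is f.g. -/
theorem soc_fg_step {T N : Type u} [AddCommGroup T] [Module R T] [AddCommGroup N] [Module R N]
    (δ : T →ₗ[R] N) (hker : (LinearMap.ker δ).FG) (hT : (soc I T).FG)
    (hsurj : ∀ z ∈ soc I N, ∃ x, δ x = z) : (soc I N).FG := by
  obtain ⟨k, a, ha⟩ := Submodule.fg_iff_exists_fin_generating_family.1
    ((isNoetherianRing_iff_ideal_fg R).1 inferInstance I)
  have haI : ∀ j, a j ∈ I := fun j => by rw [← ha]; exact Submodule.subset_span ⟨j, rfl⟩
  let F : Submodule R T := LinearMap.ker δ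
  let f : T →ₗ[R] (Fin k → T) := LinearMap.pi (fun j => a j • LinearMap.id)
  let T' : Submodule R T := Submodule.comap f (Submodule.pi Set.univ (fun _ => F))
  have hT' : T'.FG := by
    apply Submodule.fg_of_fg_map_of_fg_inf_ker f
    · have hW : (Submodule.pi Set.univ (fun _ : Fin k => F)).FG := Submodule.fg_pi (fun _ => hker)
      exact fg_of_le hW (Submodule.map_comap_le f _)
    · refine fg_of_le hT ?_
      intro x hx
      have hx0 : f x = 0 := hx.2
      rw [mem_soc]
      intro b hb
      rw [← ha] at hb
      refine Submodule.span_induction ?_ ?_ ?_ ?_ hb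
      · rintro _ ⟨j, rfl⟩
        have := congrFun hx0 j
        exact this
      · rw [zero_smul]
      · intro b c _ _ hb hc
        rw [add_smul, hb, hc, add_zero]
      · intro c b _ hb
        rw [smul_eq_mul, mul_smul, hb, smul_zero]
  refine fg_of_le (hT'.map δ) ?_
  intro z hz
  obtain ⟨x, rfl⟩ := hsurj z hz
  refine ⟨x, ?_, rfl⟩
  change f x ∈ Submodule.pi Set.univ (fun _ => F)
  rw [Submodule.mem_pi]
  intro j _
  change δ (a j • x) = 0
  rw [map_smul]
  exact (mem_soc I _).1 hz (a j) (haI j)

/-- if `H^j_I(M)` is f.g. for `j < i` then `(0 :_{H^i_I(M)} I)` is f.g. -/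
theorem soc_fg (i : ℕ) : ∀ (M : Type u) [AddCommGroup M] [Module R M] [Module.Finite R M],
    (∀ j < i, Module.Finite R ((localCohomology I j).obj (ModuleCat.of R M))) →
    (soc I ((localCohomology I i).obj (ModuleCat.of R M))).FG := by
  induction i with
  | zero =>
    intro M _ _ _ _
    have : Module.Finite R ((localCohomology I 0).obj (ModuleCat.of R M)) :=
      Module.Finite.of_injective (γ (M := ModuleCat.of R M) I) (γ_injective I)
    exact fg_of_le Module.Finite.fg_top le_top
  | succ i ih =>
    intro M _ _ _ hfin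
    have hfin3 : Module.Finite R (sesTors I M).X₃ := Module.Finite.quotient R _
    -- finiteness for `M̄`
    have hfinbar : ∀ j < i + 1,
        Module.Finite R ((localCohomology I j).obj (sesTors I M).X₃) := by
      intro j hj
      cases j with
      | zero =>
        have : Subsingleton ((localCohomology I 0).obj (sesTors I M).X₃) :=
          ⟨fun x y => (H0_quot_eq_zero I M x).trans (H0_quot_eq_zero I M y).symm⟩
        infer_instance
      | succ j =>
        have := hfin (j + 1) hj
        exact Module.Finite.of_surjective _ (Hmap_quot_surjective I M j)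
    -- reduce to `M̄`
    suffices hbar : (soc I ((localCohomology I (i + 1)).obj (sesTors I M).X₃)).FG by
      apply Submodule.fg_of_fg_map_injective (Hmap I (i + 1) (sesTors I M).g)
        (Hmap_quot_injective I M i)
      refine fg_of_le hbar ?_
      rintro _ ⟨x, hx, rfl⟩
      have hx' := (mem_soc I x).1 hx
      refine (mem_soc I _).2 (fun a ha => ?_)
      rw [← map_smul, hx' a ha, map_zero]
    obtain ⟨r, hrI, hr⟩ := exists_regular I (sesTors I M).X₃ (torsionSub_quot_eq_bot I M)
    have hS := sesSMul_shortExact (sesTors I M).X₃ r hr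
    have hfin' : Module.Finite R (sesSMul (sesTors I M).X₃ r).X₃ := Module.Finite.quotient R _
    -- kernel of `δ` is f.g. in degrees `< i + 1`
    have hkerδ : ∀ j < i + 1, (LinearMap.ker (δ I j hS)).FG := by
      intro j hj
      have := hfinbar j hj
      have h1 : ((⊤ : Submodule R ((localCohomology I j).obj (sesTors I M).X₃)).map
          (Hmap I j (sesSMul (sesTors I M).X₃ r).g)).FG := Module.Finite.fg_top.map _
      refine fg_of_le h1 ?_
      intro z hz
      obtain ⟨y, rfl⟩ := exact₃ I j hS z hz
      exact ⟨y, Submodule.mem_top, rfl⟩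
    -- finiteness for `M' = M̄/rM̄` in degrees `< i`
    have hfinq : ∀ j < i, Module.Finite R ((localCohomology I j).obj
        (sesSMul (sesTors I M).X₃ r).X₃) := by
      intro j hj
      rw [Module.finite_def]
      apply Submodule.fg_of_fg_map_of_fg_inf_ker (δ I j hS)
      · have := hfinbar (j + 1) (by omega)
        exact fg_of_le Module.Finite.fg_top le_top
      · rw [top_inf_eq]
        exact hkerδ j (by omega)
    have hsoc' := ih (sesSMul (sesTors I M).X₃ r).X₃ hfinq
    refine soc_fg_step I (δ I i hS) (hkerδ i (by omega)) hsoc' ?_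
    intro z hz
    apply exact₁ I i hS z
    rw [sesSMul_f, Hmap_smul_id]
    exact (mem_soc I z).1 hz r hrI

omit [IsNoetherianRing R] in
/-- a power-torsion module with f.g. localization at `p` is killed by a power of `I` near `p` -/
theorem loc_kill (p : Ideal R) [p.IsPrime] (H : Type u) [AddCommGroup H] [Module R H]
    (hH : ∀ y : H, ∃ t : ℕ, ∀ a ∈ I ^ t, a • y = 0)
    [hfin : Module.Finite (Localization.AtPrime p) (LocalizedModule p.primeCompl H)] :
    ∃ t : ℕ, ∀ a ∈ I ^ t, ∀ x : H, ∃ s, s ∉ p ∧ s • a • x = 0 := by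
  classical
  obtain ⟨G, hG⟩ := Module.finite_def.1 hfin
  have h1 : ∀ g : LocalizedModule p.primeCompl H, ∃ t : ℕ, ∀ a ∈ I ^ t, a • g = 0 := by
    intro g
    induction g using LocalizedModule.induction_on with
    | h x s =>
      obtain ⟨t, ht⟩ := hH x
      refine ⟨t, fun a ha => ?_⟩
      rw [LocalizedModule.smul'_mk, ht a ha, LocalizedModule.zero_mk]
  choose t ht using h1
  refine ⟨G.sup t, fun a ha x => ?_⟩
  have h2 : ∀ z : LocalizedModule p.primeCompl H, a • z = 0 := by
    intro z
    have hz : z ∈ Submodule.span (Localization.AtPrime p)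
        (G : Set (LocalizedModule p.primeCompl H)) := by rw [hG]; exact Submodule.mem_top
    refine Submodule.span_induction ?_ ?_ ?_ ?_ hz
    · intro g hg
      exact ht g a (Ideal.pow_le_pow_right (Finset.le_sup hg) ha)
    · rw [smul_zero]
    · intro y z _ _ hy hz
      rw [smul_add, hy, hz, add_zero]
    · intro c y _ hy
      rw [smul_comm, hy, smul_zero]
  have h3 := h2 (LocalizedModule.mk x 1)
  rw [LocalizedModule.smul'_mk, ← LocalizedModule.zero_mk (1 : p.primeCompl),
    LocalizedModule.mk_eq] at h3
  obtain ⟨u, hu⟩ := h3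
  refine ⟨u.1, u.2, ?_⟩
  simp only [one_smul, smul_zero] at hu
  rw [Submonoid.smul_def] at hu
  exact hu

/-- local annihilation by powers of `I` globalizes when `(0 :_H I)` is f.g. -/
theorem kill_of_local (H : Type u) [AddCommGroup H] [Module R H]
    (hH : ∀ y : H, ∃ t : ℕ, ∀ a ∈ I ^ t, a • y = 0)
    (hsoc : (soc I H).FG)
    (hloc : ∀ (p : Ideal R), p.IsPrime →
      ∃ t : ℕ, ∀ a ∈ I ^ t, ∀ x : H, ∃ s, s ∉ p ∧ s • a • x = 0) :
    ∃ t : ℕ, ∀ a ∈ I ^ t, ∀ x : H, a • x = 0 := by
  classical
  have hfinZ : Module.Finite R (soc I H) := Module.Finite.iff_fg.2 hsoc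
  have hAssZ : (associatedPrimes R (soc I H)).Finite := associatedPrimes.finite R _
  have hsub : associatedPrimes R H ⊆ associatedPrimes R (soc I H) := by
    intro P hP
    obtain ⟨hprime, y, hy⟩ := isAssociatedPrime_iff.1 hP
    obtain ⟨t, ht⟩ := hH y
    have hIP : I ≤ P := by
      apply Ideal.IsPrime.le_of_pow_le (n := t)
      intro a ha
      rw [hy, Submodule.mem_colon_singleton, ht a ha]
      exact Submodule.zero_mem _
    have hysoc : y ∈ soc I H := by
      rw [mem_soc]
      intro a ha
      have := hIP ha
      rw [hy, Submodule.mem_colon_singleton] at this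
      exact (Submodule.mem_bot R).1 this
    refine isAssociatedPrime_iff.2 ⟨hprime, ⟨y, hysoc⟩, ?_⟩
    ext a
    rw [hy, Submodule.mem_colon_singleton, Submodule.mem_colon_singleton, Submodule.mem_bot,
      Submodule.mem_bot]
    constructor
    · intro h; exact Subtype.ext h
    · intro h; exact congrArg Subtype.val h
  have hAssH : (associatedPrimes R H).Finite := hAssZ.subset hsub
  choose t ht using hloc
  refine ⟨hAssH.toFinset.sup (fun P => if h : P.IsPrime then t P h else 0), fun a ha x => ?_⟩
  by_contra hne
  let N : Submodule R H := Submodule.span R {a • x}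
  have hNnt : Nontrivial N := by
    refine ⟨⟨⟨a • x, Submodule.subset_span rfl⟩, 0, ?_⟩⟩
    intro h
    exact hne (congrArg Subtype.val h)
  obtain ⟨P, hP⟩ := associatedPrimes.nonempty R N
  have hPH : P ∈ associatedPrimes R H :=
    IsAssociatedPrime.map_of_injective N.subtype hP (Submodule.injective_subtype N)
  obtain ⟨hprime, y, hy⟩ := isAssociatedPrime_iff.1 hP
  obtain ⟨r, hr⟩ := Submodule.mem_span_singleton.1 y.2
  have hle : t P hprime ≤ hAssH.toFinset.sup (fun P => if h : P.IsPrime then t P h else 0) := by
    have := Finset.le_sup (f := fun P => if h : P.IsPrime then t P h else 0)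
      (hAssH.mem_toFinset.2 hPH)
    simpa [hprime] using this
  obtain ⟨s, hsP, hs⟩ := ht P hprime a (Ideal.pow_le_pow_right hle ha) (r • x)
  apply hsP
  rw [hy, Submodule.mem_colon_singleton, Submodule.mem_bot]
  apply Subtype.ext
  change s • y.1 = 0
  rw [← hr, smul_comm r a x]
  exact hs

/-- **local-global principle** for finiteness of local cohomology (Faltings) -/
theorem finite_of_local (M : Type u) [AddCommGroup M] [Module R M] [Module.Finite R M] (n : ℕ)
    (hloc : ∀ (p : Ideal R) [p.IsPrime], ∀ i : ℕ, i ≤ n →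
      Module.Finite (Localization.AtPrime p)
        (LocalizedModule p.primeCompl ((localCohomology I i).obj (ModuleCat.of R M)))) :
    ∀ i : ℕ, i ≤ n → Module.Finite R ((localCohomology I i).obj (ModuleCat.of R M)) := by
  induction n with
  | zero =>
    intro i hi
    obtain rfl : i = 0 := by omega
    exact Module.Finite.of_injective (γ (M := ModuleCat.of R M) I) (γ_injective I)
  | succ n ih =>
    have hprev := ih (fun p _ i hi => hloc p i (by omega))
    -- `(0 :_{H^{n+1}} I)` is f.g.
    have hsoc := soc_fg I (n + 1) M (fun j hj => hprev j (by omega))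
    -- so `H^{n+1}` is killed by a power of `I`
    obtain ⟨t₁, ht₁⟩ := kill_of_local I ((localCohomology I (n + 1)).obj (ModuleCat.of R M))
      (fun y => exists_pow_smul_eq_zero I (n + 1) y) hsoc
      (fun p hp => by
        have := hloc p (n + 1) le_rfl
        exact loc_kill I p _ (fun y => exists_pow_smul_eq_zero I (n + 1) y))
    -- the lower ones are killed by powers of `I` as well
    have hlow : ∀ j : ℕ, j ≤ n → ∃ t : ℕ, ∀ a ∈ I ^ t,
        ∀ x : (localCohomology I j).obj (ModuleCat.of R M), a • x = 0 := by
      intro j hj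
      have := hprev j hj
      exact kills_of_finite I j (ModuleCat.of R M)
    choose t₀ ht₀ using hlow
    let T : ℕ := (Finset.range (n + 1)).sup (fun j => if h : j ≤ n then t₀ j h else 0) + t₁
    have hT : ∀ j (hj : j ≤ n), t₀ j hj ≤ T := by
      intro j hj
      have : (fun j => if h : j ≤ n then t₀ j h else 0) j ≤
          (Finset.range (n + 1)).sup (fun j => if h : j ≤ n then t₀ j h else 0) :=
        Finset.le_sup (f := fun j => if h : j ≤ n then t₀ j h else 0)
          (Finset.mem_range.2 (Nat.lt_succ_of_le hj))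
      simp only [hj, dite_true] at this
      exact this.trans (Nat.le_add_right _ _)
    apply finite_of_kills I (n + 1) M T
    intro j hj a ha x
    rcases Nat.lt_or_ge j (n + 1) with hlt | hge
    · exact ht₀ j (by omega) a (Ideal.pow_le_pow_right (hT j (by omega)) ha) x
    · obtain rfl : j = n + 1 := by omega
      exact ht₁ a (Ideal.pow_le_pow_right (Nat.le_add_left _ _) ha) x

end Groth.Agent.Lib.Helper98.LCLocGlob
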