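import Groth.Agent.Lib.Helper92.LocCohTorsion
import Groth.Prelude.Def_Wider

/-!
# helper98: `cd(I + J) ≤ cd(I) + cd(J)` for local cohomology (Noetherian), by dimension shifting

* `sesInj M : 0 → M → E → E/M → 0` (E injective), `shift_up`, `shift_down`
* `tors_shortExact` : `Γ_J` of a SES is short exact if `H^1_J(X₁) = 0`
* `base`, `main`, `cdLE_sup`
-/

set_option autoImplicit false
set_option linter.unusedSectionVars false
open CategoryTheory CategoryTheory.Limits Opposite

namespace Helper98.LCSum

open Groth.Agent.Lib.Helper92.LC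

universe u
variable {R : Type u} [CommRing R]

section Basic

variable (I J : Ideal R)

lemma torsionSub_anti {I J : Ideal R} (h : I ≤ J) (M : Type u) [AddCommGroup M] [Module R M] :
    DRing.torsionSub J M ≤ DRing.torsionSub I M := by
  rintro m ⟨n, hn⟩
  exact ⟨n, fun a ha => hn a (Ideal.pow_right_mono h n ha)⟩

lemma mem_torsionSub_sup {M : Type u} [AddCommGroup M] [Module R M] {m : M}
    (h1 : m ∈ DRing.torsionSub I M) (h2 : m ∈ DRing.torsionSub J M) :
    m ∈ DRing.torsionSub (I ⊔ J) M := by
  obtain ⟨n, hn⟩ := h1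
  obtain ⟨k, hk⟩ := h2
  refine ⟨n + k, fun a ha => ?_⟩
  have := Ideal.sup_pow_add_le_pow_sup_pow ha
  obtain ⟨a₁, ha₁, a₂, ha₂, rfl⟩ := Submodule.mem_sup.1 this
  rw [add_smul, hn a₁ ha₁, hk a₂ ha₂, add_zero]

end Basic

variable [IsNoetherianRing R]

/-- the embedding of `M` into an injective, as a short exact sequence `0 → M → E → E/M → 0` -/
noncomputable abbrev sesInj (M : ModuleCat.{u} R) : ShortComplex (ModuleCat.{u} R) :=
  sesOfInjective (Injective.ι M).hom

lemma sesInj_shortExact (M : ModuleCat.{u} R) : (sesInj M).ShortExact :=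
  sesOfInjective_shortExact _ ((ModuleCat.mono_iff_injective _).1 inferInstance)

instance (M : ModuleCat.{u} R) : Injective (sesInj M).X₂ :=
  (inferInstance : Injective (Injective.under M))

/-- dimension shifting up -/
lemma shift_up (K : Ideal R) (M : ModuleCat.{u} R) (n : ℕ)
    (h : Subsingleton ((localCohomology K n).obj (sesInj M).X₃)) :
    Subsingleton ((localCohomology K (n + 1)).obj M) := by
  have hsub : Subsingleton ((localCohomology K (n + 1)).obj (sesInj M).X₂) :=
    subsingleton_of_injective K n _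
  suffices h0 : ∀ x : (localCohomology K (n + 1)).obj (sesInj M).X₁, x = 0 from
    ⟨fun x y => (h0 x).trans (h0 y).symm⟩
  intro x
  obtain ⟨z, rfl⟩ := exact₁ K n (sesInj_shortExact M) x (Subsingleton.elim _ _)
  rw [Subsingleton.elim z 0, map_zero]

/-- dimension shifting down -/
lemma shift_down (K : Ideal R) (M : ModuleCat.{u} R) (n : ℕ)
    (h : Subsingleton ((localCohomology K (n + 1 + 1)).obj M)) :
    Subsingleton ((localCohomology K (n + 1)).obj (sesInj M).X₃) := by
  have hsub : Subsingleton ((localCohomology K (n + 1)).obj (sesInj M).X₂) :=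
    subsingleton_of_injective K n _
  suffices h0 : ∀ z : (localCohomology K (n + 1)).obj (sesInj M).X₃, z = 0 from
    ⟨fun x y => (h0 x).trans (h0 y).symm⟩
  intro z
  have h' : Subsingleton ((localCohomology K (n + 1 + 1)).obj (sesInj M).X₁) := h
  obtain ⟨y, rfl⟩ := exact₃ K (n + 1) (sesInj_shortExact M) z (Subsingleton.elim _ _)
  rw [Subsingleton.elim y 0, map_zero]

/-- `Γ_J` of a short exact sequence is short exact when `H^1_J` of the kernel vanishes -/
lemma tors_shortExact (J : Ideal R) (S : ShortComplex (ModuleCat.{u} R)) (hS : S.ShortExact)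
    (h1 : Subsingleton ((localCohomology J (0 + 1)).obj S.X₁)) :
    (S.map (DRing.gammaI J)).ShortExact := by
  have hinj : Function.Injective S.f.hom := (ModuleCat.mono_iff_injective _).1 hS.mono_f
  have hex := (ShortComplex.ShortExact.moduleCat_exact_iff_function_exact S).1 hS.exact
  have hmono : Mono (S.map (DRing.gammaI J)).f := by
    rw [ModuleCat.mono_iff_injective]
    intro x y hxy
    apply Subtype.ext
    apply hinj
    exact congrArg Subtype.val hxy
  have hepi : Epi (S.map (DRing.gammaI J)).g := by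
    rw [ModuleCat.epi_iff_surjective]
    intro n
    obtain ⟨z, hz⟩ := exists_γ_eq J (M := S.X₃) n.1 n.2
    obtain ⟨y, hy⟩ := exact₃ J 0 hS z (Subsingleton.elim _ _)
    refine ⟨⟨γ J y, γ_mem J y⟩, ?_⟩
    apply Subtype.ext
    change S.g.hom (γ J y) = n.1
    rw [← γ_naturality, hy, hz]
  refine ShortComplex.ShortExact.mk' ?_ hmono hepi
  rw [ShortComplex.ShortExact.moduleCat_exact_iff_function_exact]
  intro e
  constructor
  · intro he
    have he' : S.g.hom e.1 = 0 := congrArg Subtype.val he
    obtain ⟨m, hm⟩ := (hex e.1).1 he'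
    have hmem : m ∈ DRing.torsionSub J S.X₁ := by
      obtain ⟨k, hk⟩ := e.2
      refine ⟨k, fun a ha => ?_⟩
      apply hinj
      rw [map_smul, map_zero]
      have := hk a ha
      rw [← hm] at this
      exact this
    refine ⟨⟨m, hmem⟩, ?_⟩
    apply Subtype.ext
    exact hm
  · rintro ⟨m, rfl⟩
    apply Subtype.ext
    change S.g.hom (S.f.hom m.1) = 0
    exact (hex _).2 ⟨m.1, rfl⟩


variable (I J : Ideal R)

/-- base case: `M` is `Γ_J`-acyclic; then vanishing of `H^{n+1}_I(Γ_J M)` gives vanishing of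
`H^{n+1}_{I+J}(M)`. -/
theorem base (n : ℕ) : ∀ (M : ModuleCat.{u} R),
    (∀ j : ℕ, Subsingleton ((localCohomology J (j + 1)).obj M)) →
    Subsingleton ((localCohomology I (n + 1)).obj ((DRing.gammaI J).obj M)) →
    Subsingleton ((localCohomology (I ⊔ J) (n + 1)).obj M) := by
  induction n with
  | zero =>
    intro M hM h1
    have hS := sesInj_shortExact M
    have hT := tors_shortExact J (sesInj M) hS (hM 0)
    have hsub : Subsingleton ((localCohomology (I ⊔ J) (0 + 1)).obj (sesInj M).X₂) :=
      subsingleton_of_injective (I ⊔ J) 0 _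
    suffices h0 : ∀ x : (localCohomology (I ⊔ J) (0 + 1)).obj (sesInj M).X₁, x = 0 from
      ⟨fun x y => (h0 x).trans (h0 y).symm⟩
    intro x
    obtain ⟨z, rfl⟩ := exact₁ (I ⊔ J) 0 hS x (Subsingleton.elim _ _)
    -- the element of `Γ_{I+J}(N)`
    have hn₀ := γ_mem (I ⊔ J) z
    have hn₀J : γ (I ⊔ J) z ∈ DRing.torsionSub J (sesInj M).X₃ :=
      torsionSub_anti le_sup_right _ hn₀
    have hn₀I : γ (I ⊔ J) z ∈ DRing.torsionSub I (sesInj M).X₃ :=
      torsionSub_anti le_sup_left _ hn₀
    let n' : ((sesInj M).map (DRing.gammaI J)).X₃ := ⟨γ (I ⊔ J) z, hn₀J⟩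
    have hn' : n' ∈ DRing.torsionSub I ((sesInj M).map (DRing.gammaI J)).X₃ := by
      obtain ⟨k, hk⟩ := hn₀I
      exact ⟨k, fun a ha => Subtype.ext (hk a ha)⟩
    obtain ⟨z', hz'⟩ := exists_γ_eq I (M := ((sesInj M).map (DRing.gammaI J)).X₃) n' hn'
    have h1' : Subsingleton ((localCohomology I (0 + 1)).obj ((sesInj M).map (DRing.gammaI J)).X₁) := h1
    obtain ⟨y', hy'⟩ := exact₃ I 0 hT z' (Subsingleton.elim _ _)
    have he'I := γ_mem I y'
    have hge' : ((sesInj M).map (DRing.gammaI J)).g.hom (γ I y') = n' := by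
      rw [← γ_naturality, hy', hz']
    have heI : (γ I y').1 ∈ DRing.torsionSub I (sesInj M).X₂ := by
      obtain ⟨k, hk⟩ := he'I
      exact ⟨k, fun a ha => congrArg Subtype.val (hk a ha)⟩
    have he := mem_torsionSub_sup I J heI (γ I y').2
    obtain ⟨y, hy⟩ := exists_γ_eq (I ⊔ J) (M := (sesInj M).X₂) (γ I y').1 he
    have hyz : Hmap (I ⊔ J) 0 (sesInj M).g y = z := by
      apply γ_injective (I ⊔ J)
      rw [γ_naturality, hy]
      exact congrArg Subtype.val hge'
    rw [← hyz, δ_Hmap_g]
  | succ n ih =>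
    intro M hM h1
    have hS := sesInj_shortExact M
    have hT := tors_shortExact J (sesInj M) hS (hM 0)
    -- `Γ_J E` is injective
    have hE : Module.Injective R (sesInj M).X₂ := Module.injective_module_of_injective_object R _
    have hΓE : Injective ((sesInj M).map (DRing.gammaI J)).X₂ := by
      have := injective_torsionSub J (sesInj M).X₂
      exact Module.injective_object_of_injective_module R _
    have hN : ∀ j : ℕ, Subsingleton ((localCohomology J (j + 1)).obj (sesInj M).X₃) :=
      fun j => shift_down J M j (hM (j + 1))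
    have h3 : Subsingleton ((localCohomology I (n + 1)).obj ((DRing.gammaI J).obj (sesInj M).X₃)) := by
      have hsub : Subsingleton ((localCohomology I (n + 1)).obj ((sesInj M).map (DRing.gammaI J)).X₂) :=
        subsingleton_of_injective I n _
      suffices h0 : ∀ z : (localCohomology I (n + 1)).obj ((sesInj M).map (DRing.gammaI J)).X₃, z = 0 from
        ⟨fun x y => (h0 x).trans (h0 y).symm⟩
      intro z
      have h1' : Subsingleton ((localCohomology I (n + 1 + 1)).obj ((sesInj M).map (DRing.gammaI J)).X₁) := h1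
      obtain ⟨y, rfl⟩ := exact₃ I (n + 1) hT z (Subsingleton.elim _ _)
      rw [Subsingleton.elim y 0, map_zero]
    exact shift_up (I ⊔ J) M (n + 1) (ih _ hN h3)

theorem main (a : ℕ)
    (hI : ∀ (M : ModuleCat.{u} R) (i : ℕ), a < i → Subsingleton ((localCohomology I i).obj M)) :
    ∀ (q : ℕ) (M : ModuleCat.{u} R),
      (∀ j : ℕ, q < j → Subsingleton ((localCohomology J j).obj M)) →
      ∀ n : ℕ, a + q < n → Subsingleton ((localCohomology (I ⊔ J) n).obj M) := by
  intro q
  induction q with
  | zero =>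
    intro M hM n hn
    obtain ⟨n', rfl⟩ : ∃ n', n = n' + 1 := ⟨n - 1, by omega⟩
    exact base I J n' M (fun j => hM (j + 1) (by omega)) (hI _ _ (by omega))
  | succ q ih =>
    intro M hM n hn
    obtain ⟨n', rfl⟩ : ∃ n', n = n' + 1 := ⟨n - 1, by omega⟩
    apply shift_up (I ⊔ J) M n'
    apply ih
    · intro j hj
      obtain ⟨j', rfl⟩ : ∃ j', j = j' + 1 := ⟨j - 1, by omega⟩
      exact shift_down J M j' (hM _ (by omega))
    · omega

theorem cdLE_sup (a b : ℕ) (hI : LocCoh.CdLE R I a) (hJ : LocCoh.CdLE R J b) :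
    LocCoh.CdLE R (I ⊔ J) (a + b) := by
  intro M _ _ i hi
  exact main I J a (fun M i h => hI M i h) b (ModuleCat.of R M) (fun j hj => hJ M j hj) i hi

end Helper98.LCSum
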