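import Groth.Agent.Lib.Helper98.LocLE
import Groth.Agent.Lib.Helper98.CechGlueGeo
import Groth.Agent.Lib.Helper47.ExtCechLib

/-!
# helper98: the presheaf `V ↦ S_V⁻¹ N` on a scheme, `S_V` = global functions invertible on `V`
-/

set_option autoImplicit false
universe u
open AlgebraicGeometry CategoryTheory Opposite TopologicalSpace

namespace Groth.Agent.Lib.Helper98.LocPresheaf

open Groth.Agent.Lib.Helper98.CechGlueGeo Groth.Agent.Lib.Helper98.LocLE
open Groth.Agent.Lib.Helper47.ExtCech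

variable {X : Scheme.{u}}

/-- global functions invertible on `V` -/
noncomputable def SV (V : X.Opens) : Submonoid Γ(X, ⊤) := (IsUnit.submonoid Γ(X, V)).comap (rW V)

lemma mem_SV {V : X.Opens} {g : Γ(X, ⊤)} : g ∈ SV V ↔ IsUnit (rW V g) := Iff.rfl

lemma SV_mono {V W : X.Opens} (h : V ≤ W) : SV W ≤ SV V := by
  intro g hg
  rw [mem_SV] at hg ⊢
  rw [← rW_res h]
  exact hg.map _

lemma self_mem_SV (h : Γ(X, ⊤)) : h ∈ SV (X.basicOpen h) := isUnit_rW h

lemma pow_mem_SV (h : Γ(X, ⊤)) (k : ℕ) {V : X.Opens} (hV : V ≤ X.basicOpen h) : h ^ k ∈ SV V :=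
  pow_mem (SV_mono hV (self_mem_SV h)) k

lemma dvd_pow_of_mem_SV [CompactSpace X] [QuasiSeparatedSpace X] (h g : Γ(X, ⊤))
    (hg : g ∈ SV (X.basicOpen h)) : ∃ n, g ∣ h ^ n := by
  have := isLocalization_basicOpen_of_qcqs (X := X) (U := ⊤) isCompact_univ isQuasiSeparated_univ h
  exact (IsLocalization.Away.algebraMap_isUnit_iff (x := h) (S := Γ(X, X.basicOpen h))).mp hg

section Presheaf

variable (N : ModuleCat.{u} Γ(X, ⊤))

/-- the presheaf `V ↦ S_V⁻¹ N` -/
noncomputable def PN : (Opens X)ᵒᵖ ⥤ AddCommGrpCat.{u} where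
  obj V := AddCommGrpCat.of (LocalizedModule (SV V.unop) N)
  map {V W} i := AddCommGrpCat.ofHom (locLE N (SV_mono (leOfHom i.unop))).toAddMonoidHom
  map_id V := by
    ext x
    exact locLE_refl N x
  map_comp i j := by
    ext x
    exact (locLE_trans N (SV_mono (leOfHom i.unop)) (SV_mono (leOfHom j.unop)) x).symm

lemma PN_map_apply {V W : (Opens X)ᵒᵖ} (i : V ⟶ W) (x : LocalizedModule (SV V.unop) N) :
    (PN N).map i x = locLE N (SV_mono (leOfHom i.unop)) x := rfl

/-- the augmentation `N → S_V⁻¹ N` -/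
noncomputable def augN (V : X.Opens) : AddCommGrpCat.of N ⟶ (PN N).obj (op V) :=
  AddCommGrpCat.ofHom (LocalizedModule.mkLinearMap (SV V) N).toAddMonoidHom

lemma augN_apply (V : X.Opens) (n : N) : augN N V n = LocalizedModule.mk n (1 : SV V) := rfl

lemma augN_map {V W : (Opens X)ᵒᵖ} (i : V ⟶ W) (n : N) :
    (PN N).map i (augN N V.unop n) = augN N W.unop n := by
  rw [PN_map_apply, augN_apply, locLE_mk]
  rfl

end Presheaf

section Functor

variable {N N' N'' : ModuleCat.{u} Γ(X, ⊤)}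

/-- functoriality of `PN` -/
noncomputable def PNmap (φ : N ⟶ N') : PN N ⟶ PN N' where
  app V := AddCommGrpCat.ofHom (lmap (SV V.unop) φ.hom).toAddMonoidHom
  naturality V W i := by
    ext x
    exact lmap_locLE _ (SV_mono (leOfHom i.unop)) φ.hom x

lemma PNmap_app_apply (φ : N ⟶ N') (V : (Opens X)ᵒᵖ) (x : LocalizedModule (SV V.unop) N) :
    (PNmap φ).app V x = lmap (SV V.unop) φ.hom x := rfl

lemma PNmap_comp_zero (a : N ⟶ N') (b : N' ⟶ N'') (h : a ≫ b = 0) : PNmap a ≫ PNmap b = 0 := by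
  ext V x
  change (PNmap b).app V ((PNmap a).app V x) = 0
  rw [PNmap_app_apply, PNmap_app_apply]
  induction x using LocalizedModule.induction_on with
  | h n s =>
    rw [lmap_mk, lmap_mk]
    have : b.hom (a.hom n) = 0 := congrArg (fun k => k.hom n) h
    rw [this, LocalizedModule.zero_mk]
    rfl

lemma PNmap_injective (a : N ⟶ N') (h : Function.Injective a.hom) (V : (Opens X)ᵒᵖ) :
    Function.Injective ((PNmap a).app V) :=
  lmap_injective _ _ h

lemma PNmap_surjective (a : N ⟶ N') (h : Function.Surjective a.hom) (V : (Opens X)ᵒᵖ) :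
    Function.Surjective ((PNmap a).app V) :=
  lmap_surjective _ _ h

lemma PNmap_exact (a : N ⟶ N') (b : N' ⟶ N'') (h : ∀ x, b.hom x = 0 ↔ ∃ y, a.hom y = x)
    (V : (Opens X)ᵒᵖ) (y : (PN N').obj V) (hy : (PNmap b).app V y = 0) :
    ∃ x, (PNmap a).app V x = y := by
  have hex : Function.Exact a.hom b.hom := by
    intro x
    rw [h x]
    rfl
  exact (lmap_exact (SV V.unop) _ _ hex y).mp hy

lemma augN_naturality (φ : N ⟶ N') (V : X.Opens) (n : N) :
    (PNmap φ).app (op V) (augN N V n) = augN N' V (φ.hom n) := by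
  rw [PNmap_app_apply, augN_apply, lmap_mk]
  rfl

end Functor

section Geo

variable (N : ModuleCat.{u} Γ(X, ⊤))

lemma subsingleton_PN (h : Γ(X, ⊤)) (V : X.Opens) (hV : V ≤ X.basicOpen h)
    (ht : ∀ n : N, ∃ k : ℕ, h ^ k • n = 0) : Subsingleton ((PN N).obj (op V)) := by
  apply subsingleton_of_tors N
  intro n
  obtain ⟨k, hk⟩ := ht n
  exact ⟨h ^ k, pow_mem_SV h k hV, hk⟩

variable [CompactSpace X] [QuasiSeparatedSpace X]

lemma augN_eq_zero_iff (h : Γ(X, ⊤)) (V : X.Opens) (hV : V = X.basicOpen h) (n : N) :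
    augN N V n = 0 ↔ ∃ k : ℕ, h ^ k • n = 0 := by
  subst hV
  change LocalizedModule.mkLinearMap (SV (X.basicOpen h)) N n = 0 ↔ _
  rw [IsLocalizedModule.eq_zero_iff (SV (X.basicOpen h))]
  constructor
  · rintro ⟨⟨g, hg⟩, hgn⟩
    obtain ⟨k, a, ha⟩ := dvd_pow_of_mem_SV h g hg
    refine ⟨k, ?_⟩
    rw [ha, mul_comm, mul_smul]
    have : g • n = 0 := hgn
    rw [this, smul_zero]
  · rintro ⟨k, hk⟩
    exact ⟨⟨h ^ k, pow_mem_SV h k le_rfl⟩, hk⟩

lemma PN_res_bijective (h f : Γ(X, ⊤)) (hf : ActsBij f N) {V V' : X.Opens}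
    (hV : V = X.basicOpen h) (hV' : V' = X.basicOpen (h * f)) (i : op V ⟶ op V') :
    Function.Bijective ((PN N).map i) := by
  subst hV hV'
  refine locLE_bijective N (SV_mono (leOfHom i.unop)) ?_
  intro t ht
  obtain ⟨m, a, ha⟩ := dvd_pow_of_mem_SV (h * f) t (show t ∈ SV (X.basicOpen (h * f)) from ht)
  refine ⟨a, h ^ m, f ^ m, pow_mem_SV h m le_rfl, ?_, hf.pow m⟩
  rw [← ha, mul_pow]

lemma augN_bijective (f : Γ(X, ⊤)) (hf : ActsBij f N) {V : X.Opens} (hV : V = X.basicOpen f) :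
    Function.Bijective (augN N V) := by
  subst hV
  apply mk_bijective N
  intro t ht
  obtain ⟨m, a, ha⟩ := dvd_pow_of_mem_SV f t ht
  exact ⟨a, f ^ m, ha.symm, hf.pow m⟩

end Geo

end Groth.Agent.Lib.Helper98.LocPresheaf
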