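import Mathlib.Algebra.Homology.ShortComplex.ModuleCat
import Mathlib.Algebra.Homology.ShortComplex.HomologicalComplex
import Mathlib.Algebra.Category.ModuleCat.Abelian

set_option autoImplicit false

namespace Groth.Agent.Lib.Helper98.ModuleCatHomology

open CategoryTheory

universe u v
variable {R : Type u} [Ring R]

section SC
variable {S₁ S₂ : ShortComplex (ModuleCat.{v} R)} (φ : S₁ ⟶ S₂)

lemma commi_apply
    (γ : ShortComplex.LeftHomologyMapData φ S₁.moduleCatLeftHomologyData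
      S₂.moduleCatLeftHomologyData) (x : S₁.moduleCatLeftHomologyData.K) :
    S₂.moduleCatLeftHomologyData.i.hom (γ.φK.hom x) =
      φ.τ₂.hom (S₁.moduleCatLeftHomologyData.i.hom x) := by
  have h := congrArg (fun m => m.hom x) γ.commi
  simpa only [ModuleCat.hom_comp, LinearMap.comp_apply] using h

lemma commπ_apply
    (γ : ShortComplex.LeftHomologyMapData φ S₁.moduleCatLeftHomologyData
      S₂.moduleCatLeftHomologyData) (x : S₁.moduleCatLeftHomologyData.K) :
    γ.φH.hom (S₁.moduleCatLeftHomologyData.π.hom x) =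
      S₂.moduleCatLeftHomologyData.π.hom (γ.φK.hom x) := by
  have h := congrArg (fun m => m.hom x) γ.commπ
  simpa only [ModuleCat.hom_comp, LinearMap.comp_apply] using h

lemma π_eq_zero_iff (S : ShortComplex (ModuleCat.{v} R)) (x : S.moduleCatLeftHomologyData.K) :
    S.moduleCatLeftHomologyData.π.hom x = 0 ↔
      ∃ y : S.X₁, S.f.hom y = S.moduleCatLeftHomologyData.i.hom x := by
  change (LinearMap.range S.moduleCatToCycles).mkQ x = 0 ↔
    ∃ y : S.X₁, S.f.hom y = (LinearMap.ker S.g.hom).subtype x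
  rw [Submodule.mkQ_apply, Submodule.Quotient.mk_eq_zero, LinearMap.mem_range]
  constructor
  · rintro ⟨y, hy⟩
    exact ⟨y, by rw [← hy]; rfl⟩
  · rintro ⟨y, hy⟩
    exact ⟨y, Subtype.ext hy⟩

lemma π_surjective (S : ShortComplex (ModuleCat.{v} R)) :
    Function.Surjective S.moduleCatLeftHomologyData.π.hom := by
  exact Submodule.mkQ_surjective (LinearMap.range S.moduleCatToCycles)

lemma exists_K (S : ShortComplex (ModuleCat.{v} R)) (x : S.X₂) (hx : S.g.hom x = 0) :
    ∃ x' : S.moduleCatLeftHomologyData.K, S.moduleCatLeftHomologyData.i.hom x' = x :=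
  ⟨⟨x, hx⟩, rfl⟩

lemma g_i_apply (S : ShortComplex (ModuleCat.{v} R)) (x : S.moduleCatLeftHomologyData.K) :
    S.g.hom (S.moduleCatLeftHomologyData.i.hom x) = 0 := x.2

lemma sc_mono_iff :
    Mono (ShortComplex.homologyMap φ) ↔
      ∀ x₂ : S₁.X₂, S₁.g.hom x₂ = 0 → ∀ y₁ : S₂.X₁, φ.τ₂.hom x₂ = S₂.f.hom y₁ →
        ∃ x₁ : S₁.X₁, S₁.f.hom x₁ = x₂ := by
  let γ : ShortComplex.LeftHomologyMapData φ S₁.moduleCatLeftHomologyData
      S₂.moduleCatLeftHomologyData := default
  have e : ShortComplex.homologyMap φ =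
      S₁.moduleCatLeftHomologyData.homologyIso.hom ≫ γ.φH ≫
        S₂.moduleCatLeftHomologyData.homologyIso.inv := γ.homologyMap_eq
  have e' : γ.φH = S₁.moduleCatLeftHomologyData.homologyIso.inv ≫ ShortComplex.homologyMap φ ≫
        S₂.moduleCatLeftHomologyData.homologyIso.hom := by
    rw [e]; simp
  have h1 : Mono (ShortComplex.homologyMap φ) ↔ Mono γ.φH := by
    constructor
    · intro h; rw [e']; infer_instance
    · intro h; rw [e]; infer_instance
  rw [h1, ModuleCat.mono_iff_injective, injective_iff_map_eq_zero]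
  constructor
  · intro H x₂ hx₂ y₁ hy₁
    obtain ⟨x', rfl⟩ := exists_K S₁ x₂ hx₂
    have h2 : S₁.moduleCatLeftHomologyData.π.hom x' = 0 := by
      apply H
      rw [commπ_apply, π_eq_zero_iff]
      exact ⟨y₁, by rw [commi_apply, hy₁]⟩
    exact (π_eq_zero_iff S₁ x').1 h2
  · intro H z hz
    obtain ⟨x', rfl⟩ := π_surjective S₁ z
    rw [commπ_apply, π_eq_zero_iff] at hz
    obtain ⟨y₁, hy₁⟩ := hz
    rw [commi_apply] at hy₁
    rw [π_eq_zero_iff]
    exact H _ (g_i_apply S₁ x') y₁ hy₁.symm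

lemma sc_epi_iff :
    Epi (ShortComplex.homologyMap φ) ↔
      ∀ y₂ : S₂.X₂, S₂.g.hom y₂ = 0 →
        ∃ x₂ : S₁.X₂, S₁.g.hom x₂ = 0 ∧ ∃ y₁ : S₂.X₁, y₂ = φ.τ₂.hom x₂ + S₂.f.hom y₁ := by
  let γ : ShortComplex.LeftHomologyMapData φ S₁.moduleCatLeftHomologyData
      S₂.moduleCatLeftHomologyData := default
  have e : ShortComplex.homologyMap φ =
      S₁.moduleCatLeftHomologyData.homologyIso.hom ≫ γ.φH ≫
        S₂.moduleCatLeftHomologyData.homologyIso.inv := γ.homologyMap_eq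
  have e' : γ.φH = S₁.moduleCatLeftHomologyData.homologyIso.inv ≫ ShortComplex.homologyMap φ ≫
        S₂.moduleCatLeftHomologyData.homologyIso.hom := by
    rw [e]; simp
  have h1 : Epi (ShortComplex.homologyMap φ) ↔ Epi γ.φH := by
    constructor
    · intro h; rw [e']; infer_instance
    · intro h; rw [e]; infer_instance
  rw [h1, ModuleCat.epi_iff_surjective]
  constructor
  · intro H y₂ hy₂
    obtain ⟨y', rfl⟩ := exists_K S₂ y₂ hy₂
    obtain ⟨z, hz⟩ := H (S₂.moduleCatLeftHomologyData.π.hom y')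
    obtain ⟨x', rfl⟩ := π_surjective S₁ z
    rw [commπ_apply, ← sub_eq_zero, ← map_sub, π_eq_zero_iff] at hz
    obtain ⟨y₁, hy₁⟩ := hz
    rw [map_sub, commi_apply] at hy₁
    refine ⟨S₁.moduleCatLeftHomologyData.i.hom x', g_i_apply S₁ x', -y₁, ?_⟩
    rw [map_neg, hy₁]; abel
  · intro H z
    obtain ⟨y', rfl⟩ := π_surjective S₂ z
    obtain ⟨x₂, hx₂, y₁, hy₁⟩ := H _ (g_i_apply S₂ y')
    obtain ⟨x', rfl⟩ := exists_K S₁ x₂ hx₂
    refine ⟨S₁.moduleCatLeftHomologyData.π.hom x', ?_⟩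
    rw [commπ_apply, ← sub_eq_zero, ← map_sub, π_eq_zero_iff]
    refine ⟨-y₁, ?_⟩
    rw [map_sub, commi_apply, hy₁, map_neg]; abel

end SC

section HC

variable {ι : Type*} {c : ComplexShape ι} {K L : HomologicalComplex (ModuleCat.{v} R) c}
  (f : K ⟶ L)

lemma mono_homologyMap_iff (i j k : ι) (hi : c.prev j = i) (hk : c.next j = k) :
    Mono (HomologicalComplex.homologyMap f j) ↔
      ∀ x₂ : K.X j, (K.d j k).hom x₂ = 0 → ∀ y₁ : L.X i, (f.f j).hom x₂ = (L.d i j).hom y₁ →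
        ∃ x₁ : K.X i, (K.d i j).hom x₁ = x₂ := by
  subst hi hk
  exact sc_mono_iff ((HomologicalComplex.shortComplexFunctor _ c j).map f)

lemma epi_homologyMap_iff (i j k : ι) (hi : c.prev j = i) (hk : c.next j = k) :
    Epi (HomologicalComplex.homologyMap f j) ↔
      ∀ y₂ : L.X j, (L.d j k).hom y₂ = 0 →
        ∃ x₂ : K.X j, (K.d j k).hom x₂ = 0 ∧
          ∃ y₁ : L.X i, y₂ = (f.f j).hom x₂ + (L.d i j).hom y₁ := by
  subst hi hk
  exact sc_epi_iff ((HomologicalComplex.shortComplexFunctor _ c j).map f)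

end HC

end Groth.Agent.Lib.Helper98.ModuleCatHomology
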