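import Groth.Agent.Lib.Helper98.ExtCechTheoryEq
import Groth.Agent.Lib.Helper98.AffineKoszul
import Groth.Agent.Lib.Helper98.CechLC

/-!
# helper98: extended Čech cohomology over `R'` of an "almost finite" module vs local cohomology over `A`

For `φ : A → R'`, `N` an `R'`-module and a finite `A`-submodule `M ⊆ N` such that for all `a ∈ fs` every
element of `N` is carried into `M` by a power of `a`:
`H^p(extCech N (fs.map φ)) ≃+ H^p_{(fs)}(M)` for `p ≥ 2`, semilinearly along `φ`.
-/

set_option autoImplicit false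
universe u
open CategoryTheory CategoryTheory.Limits HomologicalComplex

namespace Groth.Agent.Lib.Helper98.PuncAlg

open Helper98.CechBC Helper98.CechFun Groth.Agent.Lib.Helper98.AffineKoszul
open Groth.Agent.Lib.Helper98.DimShift Groth.Agent.Lib.Helper98.ExtCechTheory
open Groth.Agent.Lib.Helper47.ExtCech Groth.Agent.S17776

attribute [local instance] HasDerivedCategory.standard

section LES

variable {C : Type*} [Category C] [Abelian C] {ι : Type*} {c : ComplexShape ι}
  {S : ShortComplex (HomologicalComplex C c)} (hS : S.ShortExact)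

include hS in
lemma isIso_homologyMap_f (i j : ι) (hij : c.Rel i j) (h3 : IsZero (S.X₃.homology i))
    (h3' : IsZero (S.X₃.homology j)) : IsIso (HomologicalComplex.homologyMap S.f j) := by
  have hm : Mono (HomologicalComplex.homologyMap S.f j) :=
    (hS.homology_exact₁ i j hij).mono_g (h3.eq_of_src _ _)
  have he : Epi (HomologicalComplex.homologyMap S.f j) :=
    (hS.homology_exact₂ j).epi_f (h3'.eq_of_tgt _ _)
  exact isIso_of_mono_of_epi _

end LES

variable {A R' : Type u} [CommRing A] [CommRing R'] (φ : A →+* R') (fs : List A)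
  (N : ModuleCat.{u} R')

/-- restriction of scalars commutes with extended Čech cohomology, semilinearly -/
theorem step1 (q : ℤ) :
    ∃ e : ((DerCA.extCech N (fs.map φ)).homology q : ModuleCat.{u} R') ≃+
      ((DerCA.extCech ((ModuleCat.restrictScalars φ).obj N) fs).homology q : ModuleCat.{u} A),
      ∀ (a : A) x, e (φ a • x) = a • e x := by
  let l : List (R' × A) := fs.map (fun a => (φ a, a))
  have hl : ∀ p ∈ l, LocCompat (ModuleCat.restrictScalars φ) p.1 p.2 := by
    intro p hp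
    obtain ⟨a, _, rfl⟩ := List.mem_map.1 hp
    exact locCompat_restrictScalars φ a
  have h1 : l.map Prod.snd = fs := by
    simp [l, List.map_map, Function.comp_def]
  have h2 : l.map Prod.fst = fs.map φ := by
    simp [l, List.map_map, Function.comp_def]
  obtain ⟨i⟩ := cechH_functor (ModuleCat.restrictScalars φ) l hl N q
  rw [h1, h2] at i
  refine ⟨i.symm.toLinearEquiv.toAddEquiv, fun a x => ?_⟩
  exact i.symm.toLinearEquiv.map_smul a x

/-- replacing an almost finite module by a finite submodule does not change `H^p`, `p ≥ 2` -/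
theorem step2 (L : ModuleCat.{u} A) (M : Submodule A L)
    (hMN : ∀ a ∈ fs, ∀ n : L, ∃ k : ℕ, a ^ k • n ∈ M) (p : ℕ) (hp : 2 ≤ p) :
    Nonempty (((DerCA.extCech (ModuleCat.of A M) fs).homology (p : ℤ) : ModuleCat.{u} A) ≃ₗ[A]
      ((DerCA.extCech L fs).homology (p : ℤ) : ModuleCat.{u} A)) := by
  let a : ModuleCat.of A M ⟶ L := ModuleCat.ofHom M.subtype
  let b : L ⟶ ModuleCat.of A (L ⧸ M) := ModuleCat.ofHom M.mkQ
  have hab : SES a b := by
    refine ⟨Subtype.val_injective, Submodule.mkQ_surjective _, fun x => ?_⟩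
    constructor
    · intro hx
      exact ⟨⟨x, (Submodule.Quotient.mk_eq_zero _).mp hx⟩, rfl⟩
    · rintro ⟨y, rfl⟩
      exact (Submodule.Quotient.mk_eq_zero _).mpr y.2
  have hS := shortExact_cech fs a b hab
  have hQ : ∀ n : (ModuleCat.of A (L ⧸ M) : ModuleCat.{u} A), n ∈ T fs (ModuleCat.of A (L ⧸ M)) := by
    intro n f hf
    obtain ⟨n, rfl⟩ := Submodule.mkQ_surjective M n
    obtain ⟨k, hk⟩ := hMN f hf n
    exact ⟨k, (Submodule.Quotient.mk_eq_zero _).mpr hk⟩
  obtain ⟨p', rfl⟩ : ∃ p', p = p' + 2 := ⟨p - 2, by omega⟩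
  have hz1 : IsZero ((DerCA.extCech (ModuleCat.of A (L ⧸ M)) fs).homology ((p' + 1 : ℕ) : ℤ)) :=
    ModuleCat.isZero_iff_subsingleton.mpr ((theoryB fs).vanish_tors _ hQ (p' + 1) (by omega))
  have hz2 : IsZero ((DerCA.extCech (ModuleCat.of A (L ⧸ M)) fs).homology ((p' + 2 : ℕ) : ℤ)) :=
    ModuleCat.isZero_iff_subsingleton.mpr ((theoryB fs).vanish_tors _ hQ (p' + 2) (by omega))
  have := isIso_homologyMap_f hS ((p' + 1 : ℕ) : ℤ) ((p' + 2 : ℕ) : ℤ) (by simp; omega) hz1 hz2
  exact ⟨(asIso (HomologicalComplex.homologyMap (cechMap a fs) ((p' + 2 : ℕ) : ℤ))).toLinearEquiv⟩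

variable [IsNoetherianRing A]

/-- the algebraic main statement -/
theorem alg_main (M : Submodule A ((ModuleCat.restrictScalars φ).obj N))
    (hMN : ∀ a ∈ fs, ∀ n : (ModuleCat.restrictScalars φ).obj N, ∃ k : ℕ, a ^ k • n ∈ M)
    (p : ℕ) (hp : 2 ≤ p) :
    ∃ e : ((DerCA.extCech N (fs.map φ)).homology (p : ℤ) : ModuleCat.{u} R') ≃+
      LocCoh.H (Ideal.span {a | a ∈ fs}) p M, ∀ (a : A) x, e (φ a • x) = a • e x := by
  obtain ⟨e1, h1⟩ := step1 φ fs N (p : ℤ)
  obtain ⟨e2⟩ := step2 fs ((ModuleCat.restrictScalars φ).obj N) M hMN p hp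
  obtain ⟨e3⟩ := Helper98.CechLC.main fs p (ModuleCat.of A M)
  refine ⟨e1.trans (e2.symm.trans e3).toAddEquiv, fun a x => ?_⟩
  change (e2.symm.trans e3) (e1 (φ a • x)) = a • (e2.symm.trans e3) (e1 x)
  rw [h1, map_smul]

end Groth.Agent.Lib.Helper98.PuncAlg
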