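import Groth.Agent.Lib.Helper98.CechHHLin
import Groth.Agent.Lib.Helper98.PuncAlg
import Groth.Agent.Lib.Helper2.FinTypeAff

/-!
# helper98: cohomology of coherent modules on the punctured spectrum `Spec A ∖ V(I)`, `A`-linearly

`main` : for `A` Noetherian, `F` coherent on `U = Spec A ∖ V(I)` and `q ≥ 0` there is a finite `A`-module `M`
with `H^{q+1}(U, F) ≃ₗ[A] H^{q+2}_I(M)`.
-/

set_option autoImplicit false
universe u
open AlgebraicGeometry CategoryTheory CategoryTheory.Limits Opposite TopologicalSpace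

namespace Groth.Agent.Lib.Helper98.PuncGeo

open Groth.Agent.Lib.Helper98.CechGlueGeo Groth.Agent.Lib.Helper98.CechTheory
open Groth.Agent.Lib.Helper98.DimShiftEq Groth.Agent.Lib.Helper98.CechHHLin

variable (A : Type u) [CommRing A] (I : Ideal A)

/-- the punctured spectrum as a scheme -/
noncomputable abbrev PX : Scheme.{u} := ↑(LocCoh.puncturedOpen A I)

/-- `A → Γ(U, O)` -/
noncomputable def φ' : A →+* Γ(PX A I, ⊤) := Coh.toGlobal ((PX A I) ↘ Spec (CommRingCat.of A))

/-- `D(a)` as an open of `Spec A` -/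
noncomputable abbrev DA (a : A) : (Spec (CommRingCat.of A)).Opens :=
  (Spec (CommRingCat.of A)).basicOpen ((Scheme.ΓSpecIso (CommRingCat.of A)).inv a)

lemma basicOpen_φ' (a : A) : (PX A I).basicOpen (φ' A I a) =
    (LocCoh.puncturedOpen A I).ι ⁻¹ᵁ (DA A a) := by
  rw [Scheme.preimage_basicOpen_top]
  rfl

variable {A I}

lemma DA_le {a : A} (ha : a ∈ I) : DA A a ≤ LocCoh.puncturedOpen A I := by
  intro x hx
  have hx : x ∈ (Spec (CommRingCat.of A)).basicOpen
      ((Scheme.ΓSpecIso (CommRingCat.of A)).inv a) := hx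
  rw [basicOpen_eq_of_affine] at hx
  intro hx'
  have hx'' : (show PrimeSpectrum A from x) ∈
      PrimeSpectrum.zeroLocus (R := A) (I : Set A) := hx'
  rw [PrimeSpectrum.mem_zeroLocus] at hx''
  exact hx (hx'' ha)

lemma image_basicOpen {a : A} (ha : a ∈ I) :
    (LocCoh.puncturedOpen A I).ι ''ᵁ ((PX A I).basicOpen (φ' A I a)) = DA A a := by
  rw [basicOpen_φ', Scheme.Hom.image_preimage_eq_opensRange_inf, Scheme.Opens.opensRange_ι]
  exact inf_eq_right.2 (DA_le ha)

lemma isAffineOpen_basicOpen {a : A} (ha : a ∈ I) :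
    IsAffineOpen ((PX A I).basicOpen (φ' A I a)) := by
  rw [← Scheme.Hom.isAffineOpen_iff_of_isOpenImmersion (LocCoh.puncturedOpen A I).ι,
    image_basicOpen ha]
  exact (isAffineOpen_top _).basicOpen _

lemma iSup_UU (fs : List A) (hI : I = Ideal.span {a | a ∈ fs}) :
    iSup (UU (fs.map (φ' A I))) = ⊤ := by
  subst hI
  rw [eq_top_iff]
  intro x _
  have hx : ¬ ((show PrimeSpectrum A from x.1) ∈
      PrimeSpectrum.zeroLocus (R := A) ((Ideal.span {a | a ∈ fs} : Ideal A) : Set A)) := x.2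
  rw [PrimeSpectrum.mem_zeroLocus, SetLike.coe_subset_coe, Ideal.span_le] at hx
  obtain ⟨a, ha, hax⟩ := Set.not_subset.1 hx
  obtain ⟨i, hi⟩ := List.mem_iff_get.1 (List.mem_map.2 ⟨a, ha, rfl⟩ :
    φ' A (Ideal.span {a | a ∈ fs}) a ∈ fs.map (φ' A (Ideal.span {a | a ∈ fs})))
  refine Opens.mem_iSup.2 ⟨ULift.up i, ?_⟩
  change x ∈ (PX A _).basicOpen ((fs.map (φ' A (Ideal.span {a | a ∈ fs}))).get i)
  rw [hi, basicOpen_φ']
  change (LocCoh.puncturedOpen A _).ι x ∈ (Spec (CommRingCat.of A)).basicOpen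
      ((Scheme.ΓSpecIso (CommRingCat.of A)).inv a)
  rw [basicOpen_eq_of_affine]
  exact hax

lemma rW_φ' (V : (PX A I).Opens) (a : A) :
    rW V (φ' A I a) = (Spec (CommRingCat.of A)).presheaf.map
      (homOfLE (le_top : (LocCoh.puncturedOpen A I).ι ''ᵁ V ≤ ⊤)).op
        ((Scheme.ΓSpecIso (CommRingCat.of A)).inv a) := by
  change ((Spec (CommRingCat.of A)).presheaf.map _).hom
    (((Spec (CommRingCat.of A)).presheaf.map _).hom _) = _
  rw [← CommRingCat.comp_apply, ← Functor.map_comp]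
  rfl

lemma aux (W : (Spec (CommRingCat.of A)).Opens) (a : A) (hW : W = DA A a)
    (b : Γ(Spec (CommRingCat.of A), W)) :
    ∃ (m : ℕ) (a' : A), (Spec (CommRingCat.of A)).presheaf.map (homOfLE (le_top : W ≤ ⊤)).op
        ((Scheme.ΓSpecIso (CommRingCat.of A)).inv a) ^ m * b =
      (Spec (CommRingCat.of A)).presheaf.map (homOfLE (le_top : W ≤ ⊤)).op
        ((Scheme.ΓSpecIso (CommRingCat.of A)).inv a') := by
  subst hW
  have hloc := (isAffineOpen_top (Spec (CommRingCat.of A))).isLocalization_basicOpen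
    ((Scheme.ΓSpecIso (CommRingCat.of A)).inv a)
  obtain ⟨⟨c, ⟨_, m, rfl⟩⟩, hc⟩ := IsLocalization.surj
    (Submonoid.powers ((Scheme.ΓSpecIso (CommRingCat.of A)).inv a)) b
  obtain ⟨a', rfl⟩ : ∃ a', (Scheme.ΓSpecIso (CommRingCat.of A)).inv a' = c :=
    ⟨(Scheme.ΓSpecIso (CommRingCat.of A)).hom c, by simp⟩
  refine ⟨m, a', ?_⟩
  rw [mul_comm, ← map_pow]
  exact hc

lemma exists_lift {a : A} (ha : a ∈ I) (b : Γ(PX A I, (PX A I).basicOpen (φ' A I a))) :
    ∃ (m : ℕ) (a' : A), rW _ (φ' A I a) ^ m * b = rW _ (φ' A I a') := by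
  obtain ⟨m, a', h⟩ := aux ((LocCoh.puncturedOpen A I).ι ''ᵁ ((PX A I).basicOpen (φ' A I a))) a
    (image_basicOpen ha) b
  refine ⟨m, a', ?_⟩
  rw [rW_φ', rW_φ']
  exact h

section FiniteSub

variable (F : (PX A I).Modules)

/-- global sections of `F` as an `A`-module -/
noncomputable abbrev NA : ModuleCat.{u} A := (ModuleCat.restrictScalars (φ' A I)).obj (PW F ⊤)

/-- casts between the two module structures on global sections -/
def toN (n : NA F) : PW F ⊤ := n

lemma toN_add (x y : NA F) : toN F (x + y) = toN F x + toN F y := rfl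

lemma toN_smul (a : A) (n : NA F) : toN F (a • n) = φ' A I a • toN F n := rfl

lemma toN_pow_smul (a : A) (k : ℕ) (n : NA F) : toN F (a ^ k • n) = (φ' A I a) ^ k • toN F n := by
  rw [toN_smul, map_pow]

lemma toN_injective : Function.Injective (toN F) := fun _ _ h => h

/-- sections over `V` as a module over the global functions -/
def toPV {V : (PX A I).Opens} (y : Γ(F, V)) : PW F V := y

lemma toPV_add {V : (PX A I).Opens} (x y : Γ(F, V)) : toPV F (x + y) = toPV F x + toPV F y := rfl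

lemma smul_toPV {V : (PX A I).Opens} (r : Γ(PX A I, ⊤)) (y : Γ(F, V)) :
    r • toPV F y = toPV F (rW V r • y) := rfl

variable [CompactSpace (PX A I)] [QuasiSeparatedSpace (PX A I)]

/-- for `a ∈ I` the module of global sections is finite up to powers of `a` -/
theorem finite_sub (hF : Coh.IsCoh F) {a : A} (ha : a ∈ I) :
    ∃ M : Submodule A (NA F), M.FG ∧ ∀ n : NA F, ∃ k : ℕ, a ^ k • n ∈ M := by
  have : F.IsQuasicoherent := hF.1
  have : SheafOfModules.IsFiniteType (R := (PX A I).ringCatSheaf) F := hF.2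
  set V : (PX A I).Opens := (PX A I).basicOpen (φ' A I a) with hV
  have haff : IsAffineOpen V := isAffineOpen_basicOpen ha
  have hfin : Module.Finite Γ(PX A I, V) Γ(F, V) :=
    Groth.Agent.Lib.Helper2.FinTypeAff.finite_sections F haff
  obtain ⟨s, hs⟩ := hfin.fg_top
  let ρ : PW F ⊤ ⟶ PW F V := resW F (le_top : V ≤ ⊤)
  have hloc : IsLocalizedModule (Submonoid.powers (φ' A I a)) ρ.hom :=
    good_top F (φ' A I a) V le_top (by rw [hV]; exact (top_inf_eq _).symm)
  -- a choice of numerators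
  have hsurj : ∀ y : Γ(F, V), ∃ n : NA F, ∃ m : ℕ, (φ' A I a) ^ m • toPV F y = ρ.hom (toN F n) := by
    intro y
    obtain ⟨⟨n, ⟨_, m, rfl⟩⟩, h⟩ := IsLocalizedModule.surj (Submonoid.powers (φ' A I a)) ρ.hom
      (toPV F y)
    exact ⟨n, m, h⟩
  choose g hg using hsurj
  let G : Set (NA F) := g '' (s : Set Γ(F, V))
  let M : Submodule A (NA F) := Submodule.span A G
  refine ⟨M, Submodule.fg_span (Set.Finite.image _ s.finite_toSet), ?_⟩
  -- the key property, by induction on the span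
  have key : ∀ y : Γ(F, V), ∃ (L : ℕ) (n : NA F), n ∈ M ∧
      (φ' A I a) ^ L • toPV F y = ρ.hom (toN F n) := by
    intro y
    have hy : y ∈ Submodule.span Γ(PX A I, V) (s : Set Γ(F, V)) := by rw [hs]; trivial
    induction hy using Submodule.span_induction with
    | mem y hy =>
      obtain ⟨m, hm⟩ := hg y
      exact ⟨m, g y, Submodule.subset_span ⟨y, hy, rfl⟩, hm⟩
    | zero =>
      refine ⟨0, 0, M.zero_mem, ?_⟩
      rw [pow_zero, one_smul]
      exact (map_zero ρ.hom).symm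
    | add y₁ y₂ _ _ h₁ h₂ =>
      obtain ⟨L₁, n₁, hn₁, e₁⟩ := h₁
      obtain ⟨L₂, n₂, hn₂, e₂⟩ := h₂
      refine ⟨L₁ + L₂, a ^ L₂ • n₁ + a ^ L₁ • n₂,
        M.add_mem (M.smul_mem _ hn₁) (M.smul_mem _ hn₂), ?_⟩
      have h1 : (φ' A I a) ^ (L₁ + L₂) • toPV F y₁ = ρ.hom ((φ' A I a) ^ L₂ • toN F n₁) := by
        rw [pow_add, mul_comm, mul_smul, e₁, map_smul]
      have h2 : (φ' A I a) ^ (L₁ + L₂) • toPV F y₂ = ρ.hom ((φ' A I a) ^ L₁ • toN F n₂) := by
        rw [pow_add, mul_smul, e₂, map_smul]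
      rw [toPV_add, smul_add, h1, h2, ← map_add, toN_add, toN_pow_smul, toN_pow_smul]
    | smul b y _ h =>
      obtain ⟨L, n, hn, e⟩ := h
      obtain ⟨l, a', hl⟩ := exists_lift ha b
      refine ⟨l + L, a' • n, M.smul_mem _ hn, ?_⟩
      have h0 : (φ' A I a) ^ (l + L) • toPV F (b • y) =
          toPV F ((rW V (φ' A I a) ^ l * b) • (rW V ((φ' A I a) ^ L) • y)) := by
        rw [smul_toPV, map_pow, map_pow, smul_smul, smul_smul, pow_add]
        congr 2
        ring
      rw [h0, hl, ← smul_toPV, ← smul_toPV, e, toN_smul, map_smul]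
  intro n
  obtain ⟨L, n', hn', e⟩ := key (ρ.hom (toN F n))
  have e' : ρ.hom ((φ' A I a) ^ L • toN F n - toN F n') = 0 := by
    rw [map_sub, map_smul, sub_eq_zero]
    exact e
  obtain ⟨⟨_, t, rfl⟩, ht⟩ := (IsLocalizedModule.eq_zero_iff (Submonoid.powers (φ' A I a))
    ρ.hom).mp e'
  refine ⟨t + L, ?_⟩
  have h1 : a ^ (t + L) • n = a ^ t • n' := by
    apply toN_injective
    rw [toN_pow_smul, toN_pow_smul]
    have ht' : (φ' A I a) ^ t • ((φ' A I a) ^ L • toN F n - toN F n') = 0 := ht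
    rw [smul_sub, sub_eq_zero, smul_smul, ← pow_add] at ht'
    exact ht'
  rw [h1]
  exact M.smul_mem _ hn'

end FiniteSub

section Main

variable [IsNoetherianRing A]

instance : CompactSpace (PX A I) := by
  have h : IsCompact ((LocCoh.puncturedOpen A I : (Spec (CommRingCat.of A)).Opens) :
      Set (Spec (CommRingCat.of A))) := by
    have : NoetherianSpace (PrimeSpectrum A) := inferInstance
    exact TopologicalSpace.NoetherianSpace.isCompact (α := PrimeSpectrum A) _
  exact isCompact_iff_compactSpace.mp h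

instance : (PX A I).IsSeparated := by
  constructor
  have h : terminal.from (PX A I) =
      (LocCoh.puncturedOpen A I).ι ≫ terminal.from (Spec (CommRingCat.of A)) :=
    (terminal.comp_from _).symm
  rw [h]
  infer_instance

/-- for `A` Noetherian, `F` coherent on `U = Spec A ∖ V(I)`: `H^{q+1}(U, F) ≃ₗ[A] H^{q+2}_I(M)` for some
finite `A`-module `M` -/
theorem main (F : (PX A I).Modules) (hF : Coh.IsCoh F) (q : ℕ) :
    ∃ (M : Type u) (_ : AddCommGroup M) (_ : Module A M) (_ : Module.Finite A M),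
      Nonempty (Coh.HH (PX A I) F (q + 1) ≃ₗ[A] LocCoh.H I (q + 2) M) := by
  classical
  have hFq : F.IsQuasicoherent := hF.1
  obtain ⟨s, hs⟩ := (isNoetherian_def.1 (inferInstance : IsNoetherian A A)) I
  have hI : I = Ideal.span {a | a ∈ s.toList} := by
    rw [← hs]
    congr 1
    ext a
    simp
  set fs : List A := s.toList with hfs
  have hfsI : ∀ a ∈ fs, a ∈ I := by
    intro a ha
    rw [hI]
    exact Ideal.subset_span ha
  -- the finite submodule
  have hsub : ∀ a : A, ∃ M : Submodule A (NA F), M.FG ∧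
      (a ∈ I → ∀ n : NA F, ∃ k : ℕ, a ^ k • n ∈ M) := by
    intro a
    by_cases ha : a ∈ I
    · obtain ⟨M, h1, h2⟩ := finite_sub F hF ha
      exact ⟨M, h1, fun _ => h2⟩
    · exact ⟨⊥, Submodule.fg_bot, fun h => absurd h ha⟩
  choose Ma hMa1 hMa2 using hsub
  let M : Submodule A (NA F) := ⨆ a ∈ fs.toFinset, Ma a
  have hMfg : M.FG := Submodule.fg_biSup _ _ (fun a _ => hMa1 a)
  have hMN : ∀ a ∈ fs, ∀ n : NA F, ∃ k : ℕ, a ^ k • n ∈ M := by
    intro a ha n
    obtain ⟨k, hk⟩ := hMa2 a (hfsI a ha) n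
    refine ⟨k, ?_⟩
    have hle : Ma a ≤ M := le_biSup (f := fun a => Ma a) (List.mem_toFinset.2 ha)
    exact hle hk
  -- the geometric comparison
  have haff : ∀ i : Fin (fs.map (φ' A I)).length,
      IsAffineOpen ((PX A I).basicOpen ((fs.map (φ' A I)).get i)) := by
    intro i
    have hmem : (fs.map (φ' A I)).get i ∈ fs.map (φ' A I) := List.get_mem _ _
    obtain ⟨a, ha, hax⟩ := List.mem_map.1 hmem
    rw [← hax]
    exact isAffineOpen_basicOpen (hfsI a ha)
  obtain ⟨e1, he1⟩ := CechHHLin.main (fs.map (φ' A I)) F haff (iSup_UU fs hI) q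
  obtain ⟨e2, he2⟩ := PuncAlg.alg_main (φ' A I) fs (PW F ⊤) M hMN (q + 2) (by omega)
  have hfinM : Module.Finite A M := Module.Finite.iff_fg.2 hMfg
  refine ⟨M, inferInstance, inferInstance, hfinM, ?_⟩
  have e3 : LocCoh.H (Ideal.span {a | a ∈ fs}) (q + 2) M ≃ₗ[A] LocCoh.H I (q + 2) M := by
    rw [← hI]
  let e12 : Coh.HH (PX A I) F (q + 1) ≃ₗ[A] LocCoh.H (Ideal.span {a | a ∈ fs}) (q + 2) M :=
    { (e1.trans e2) with
      map_smul' := fun a x => by
        change e2 (e1 (a • x)) = a • e2 (e1 x)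
        have h1 : e1 (a • x) = φ' A I a • e1 x := he1 (φ' A I a) x
        rw [h1, he2] }
  exact ⟨e12.trans e3⟩

end Main

end Groth.Agent.Lib.Helper98.PuncGeo
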