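import Mathlib

/-!
# L5 for S18639 (helper24's call): injective dimension along a chain of short exact sequences
-/

open CategoryTheory Abelian IsLocalRing

universe u

namespace Groth.Agent.Lib.Helper98.S18639L5

/-- auxiliary form with an arbitrary starting index -/
theorem aux {R : Type u} [CommRing R] (X Z : ℕ → ModuleCat.{u} R)
    (f : ∀ k, Z k ⟶ X k) (g : ∀ k, X k ⟶ Z (k + 1)) (w : ∀ k, f k ≫ g k = 0)
    (hS : ∀ k, (ShortComplex.mk (f k) (g k) (w k)).ShortExact)
    (hX : ∀ k, HasInjectiveDimensionLT (X k) 2) (n : ℕ) :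
    ∀ m : ℕ, HasInjectiveDimensionLT (Z (m + n)) 2 → HasInjectiveDimensionLT (Z m) (n + 2) := by
  induction n with
  | zero =>
    intro m h
    simpa using h
  | succ n ih =>
    intro m h
    have e : m + (n + 1) = m + 1 + n := by omega
    rw [e] at h
    have h1 : HasInjectiveDimensionLT (Z (m + 1)) (n + 2) := ih (m + 1) h
    have h2 : HasInjectiveDimensionLT (X m) (n + 2 + 1) := by
      have := hX m
      exact hasInjectiveDimensionLT_of_ge (X m) 2 (n + 2 + 1) (by omega)
    exact (hS m).hasInjectiveDimensionLT_X₁ (n + 2) h1 h2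

theorem hasInjectiveDimensionLT_of_chain {R : Type u} [CommRing R] (X Z : ℕ → ModuleCat.{u} R)
    (f : ∀ k, Z k ⟶ X k) (g : ∀ k, X k ⟶ Z (k + 1)) (w : ∀ k, f k ≫ g k = 0)
    (hS : ∀ k, (ShortComplex.mk (f k) (g k) (w k)).ShortExact)
    (hX : ∀ k, HasInjectiveDimensionLT (X k) 2) (n : ℕ)
    (hZ : HasInjectiveDimensionLT (Z n) 2) : HasInjectiveDimensionLT (Z 0) (n + 2) := by
  apply aux X Z f g w hS hX n 0
  simpa using hZ

end Groth.Agent.Lib.Helper98.S18639L5
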