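import Groth.Prelude.Def_ArtFun
import Mathlib.RingTheory.Etale.Field
import Mathlib.RingTheory.Smooth.Basic
import Mathlib.LinearAlgebra.Dual.Lemmas
import Mathlib.RingTheory.Ideal.Maps

/-!
# Derivations detecting the relative cotangent space when the residue field is separable (helper98)

`exists_der_ne_zero`: ring-level; `k/K` separable algebraic, `π : S → k` a square-zero extension of
`K`-algebras: nonzero elements of `ker π` are detected by `K`-derivations `S → k`.

`exists_der_ne_zero_art`: for `B : Art Λ k`, `K` a field quotient of `Λ` through which `Λ → k`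
factors with `k/K` separable: every `x ∈ m_B` outside `m_Λ B + m_B²` is detected by a
`Λ`-derivation `B → k`.
-/

set_option autoImplicit false
universe u

namespace Groth.Agent.Lib.Helper98.SepDer

/-- For a separable algebraic field extension `k/K` and a square-zero extension `π : S → k` of
`K`-algebras, every nonzero element of the kernel is detected by a `K`-derivation `S → k`. -/
theorem exists_der_ne_zero (K : Type u) [Field K] (k : Type u) [Field k] [Algebra K k]
    [Algebra.IsSeparable K k] (S : Type u) [CommRing S] [Algebra K S] (π : S →ₐ[K] k)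
    (hπ : Function.Surjective π) (hsq : ∀ v w, π v = 0 → π w = 0 → v * w = 0)
    (x : S) (hx : π x = 0) (hx0 : x ≠ 0) :
    ∃ D : S →+ k, (∀ a b, D (a * b) = π a * D b + π b * D a) ∧
      (∀ c, D (algebraMap K S c) = 0) ∧ D x ≠ 0 := by
  have hét : Algebra.FormallyEtale K k := Algebra.FormallyEtale.of_isSeparable K k
  have hsm : Algebra.FormallySmooth K k := inferInstance
  have hnil : IsNilpotent (RingHom.ker (π : S →+* k)) := by
    refine ⟨2, ?_⟩
    rw [Ideal.zero_eq_bot, eq_bot_iff, sq, Ideal.mul_le]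
    intro r hr s hs
    rw [Ideal.mem_bot]
    exact hsq r s hr hs
  let σ : k →ₐ[K] S := Algebra.FormallySmooth.liftOfSurjective (AlgHom.id K k) π hπ hnil
  have hσ : ∀ c, π (σ c) = c := fun c =>
    Algebra.FormallySmooth.liftOfSurjective_apply (AlgHom.id K k) π hπ hnil c
  letI : Module k S := Module.compHom S σ.toRingHom
  have hsmul : ∀ (c : k) (s : S), c • s = σ c * s := fun _ _ => rfl
  obtain ⟨ℓ, hℓ⟩ : ∃ ℓ : Module.Dual k S, ℓ x ≠ 0 := by
    by_contra h
    exact hx0 ((Module.forall_dual_apply_eq_zero_iff k x).mp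
      (fun ℓ => not_not.mp (fun hne => h ⟨ℓ, hne⟩)))
  have hker : ∀ s, π (s - σ (π s)) = 0 := fun s => by rw [map_sub, hσ, sub_self]
  let D : S →+ k :=
    { toFun := fun s => ℓ (s - σ (π s))
      map_zero' := by simp
      map_add' := fun a b => by
        rw [← map_add]
        congr 1
        rw [map_add, map_add]
        ring }
  refine ⟨D, ?_, ?_, ?_⟩
  · intro a b
    change ℓ (a * b - σ (π (a * b))) = π a * ℓ (b - σ (π b)) + π b * ℓ (a - σ (π a))
    have h0 := hsq _ _ (hker a) (hker b)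
    have e : a * b - σ (π (a * b)) = π a • (b - σ (π b)) + π b • (a - σ (π a)) := by
      rw [hsmul, hsmul, map_mul, map_mul]
      linear_combination h0
    rw [e, map_add, map_smul, map_smul, smul_eq_mul, smul_eq_mul]
  · intro c
    change ℓ (algebraMap K S c - σ (π (algebraMap K S c))) = 0
    rw [AlgHom.commutes, AlgHom.commutes, sub_self, map_zero]
  · change ℓ (x - σ (π x)) ≠ 0
    rw [hx, map_zero, sub_zero]
    exact hℓ

open ArtFun ArtFun.Art in
/-- Art-level version: `K` is a field, `q : Λ → K` surjective with `Λ → k` factoring through it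
and `k/K` separable.  Elements of `m_B` outside `m_Λ B + m_B²` are detected by `Λ`-derivations. -/
theorem exists_der_ne_zero_art {Λ : Type u} {k : Type u} [CommRing Λ] [Field k] [Algebra Λ k]
    (K : Type u) [Field K] [Algebra K k] [Algebra.IsSeparable K k] (q : Λ →+* K)
    (hq : Function.Surjective q) (hqk : ∀ l, algebraMap K k (q l) = algebraMap Λ k l)
    (B : ArtFun.Art Λ k) (x : B) (hx : B.res x = 0)
    (hxJ : x ∉ Ideal.map (algebraMap Λ B) (RingHom.ker (algebraMap Λ k)) ⊔
      IsLocalRing.maximalIdeal B ^ 2) :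
    ∃ D : B →+ k, (∀ a b, D (a * b) = B.res a * D b + B.res b * D a) ∧
      (∀ l, D (algebraMap Λ B l) = 0) ∧ D x ≠ 0 := by
  set J : Ideal B := Ideal.map (algebraMap Λ B) (RingHom.ker (algebraMap Λ k)) ⊔
      IsLocalRing.maximalIdeal B ^ 2 with hJ
  let g₀ : Λ →+* B ⧸ J := (Ideal.Quotient.mk J).comp (algebraMap Λ B)
  have hg₀ : RingHom.ker q ≤ RingHom.ker g₀ := by
    intro l hl
    rw [RingHom.mem_ker] at hl ⊢
    change Ideal.Quotient.mk J (algebraMap Λ B l) = 0
    rw [Ideal.Quotient.eq_zero_iff_mem]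
    apply Ideal.mem_sup_left
    apply Ideal.mem_map_of_mem
    rw [RingHom.mem_ker, ← hqk, hl, map_zero]
  let ι : K →+* B ⧸ J := q.liftOfSurjective hq ⟨g₀, hg₀⟩
  have hι : ∀ l, ι (q l) = Ideal.Quotient.mk J (algebraMap Λ B l) := fun l =>
    q.liftOfSurjective_comp_apply hq ⟨g₀, hg₀⟩ l
  letI : Algebra K (B ⧸ J) := ι.toAlgebra
  have hJres : ∀ b ∈ J, B.res.toRingHom b = 0 := by
    intro b hb
    have hle : J ≤ IsLocalRing.maximalIdeal B := by
      refine sup_le ?_ (Ideal.pow_le_self two_ne_zero)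
      rw [Ideal.map_le_iff_le_comap]
      intro l hl
      rw [Ideal.mem_comap, Art.mem_maximalIdeal_iff, AlgHom.commutes]
      exact hl
    exact (Art.mem_maximalIdeal_iff B b).1 (hle hb)
  let π₀ : B ⧸ J →+* k := Ideal.Quotient.lift J B.res.toRingHom hJres
  have hπ₀ : ∀ b, π₀ (Ideal.Quotient.mk J b) = B.res b := fun b => rfl
  let π : B ⧸ J →ₐ[K] k :=
    { π₀ with
      commutes' := fun c => by
        obtain ⟨l, rfl⟩ := hq c
        change π₀ (ι (q l)) = algebraMap K k (q l)
        rw [hι, hπ₀, hqk, AlgHom.commutes] }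
  have hπ : ∀ b, π (Ideal.Quotient.mk J b) = B.res b := fun b => rfl
  have hπs : Function.Surjective π := by
    intro c
    obtain ⟨b, hb⟩ := B.res_surjective c
    exact ⟨Ideal.Quotient.mk J b, hb⟩
  have hsq : ∀ v w, π v = 0 → π w = 0 → v * w = 0 := by
    intro v w hv hw
    obtain ⟨b, rfl⟩ := Ideal.Quotient.mk_surjective v
    obtain ⟨b', rfl⟩ := Ideal.Quotient.mk_surjective w
    rw [hπ] at hv hw
    rw [← map_mul, Ideal.Quotient.eq_zero_iff_mem]
    apply Ideal.mem_sup_right
    rw [sq]
    exact Ideal.mul_mem_mul ((Art.mem_maximalIdeal_iff B b).2 hv)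
      ((Art.mem_maximalIdeal_iff B b').2 hw)
  have hx0 : Ideal.Quotient.mk J x ≠ 0 := by
    rw [Ne, Ideal.Quotient.eq_zero_iff_mem]
    exact hxJ
  obtain ⟨D, hD1, hD2, hD3⟩ := exists_der_ne_zero K k (B ⧸ J) π hπs hsq
    (Ideal.Quotient.mk J x) (by rw [hπ, hx]) hx0
  refine ⟨D.comp (Ideal.Quotient.mk J : B →+* B ⧸ J).toAddMonoidHom, ?_, ?_, hD3⟩
  · intro a b
    change D (Ideal.Quotient.mk J (a * b)) = _
    rw [map_mul, hD1, hπ, hπ]
    rfl
  · intro l
    change D (Ideal.Quotient.mk J (algebraMap Λ B l)) = 0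
    rw [← hι]
    exact hD2 (q l)

end Groth.Agent.Lib.Helper98.SepDer
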